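import Cfsg.Agent.Lib.Invol.EssentialSmall

/-!
The automorphism group of an elementary abelian group of order 8.
-/

set_option autoImplicit false
set_option linter.style.haveILetI false

namespace CfsgLib.SylHS

open Subgroup

variable {P : Type*} [Group P] [Finite P]

theorem exists_mulAut_equiv_gl_three (hab : ∀ a b : P, a * b = b * a) (hexp : ∀ a : P, a ^ 2 = 1)
    (hcard : Nat.card P = 8) : Nonempty (MulAut P ≃* GL (Fin 3) (ZMod 2)) := by
  classical
  haveI : Fact (Nat.Prime 2) := ⟨Nat.prime_two⟩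
  letI : CommGroup P := { (inferInstance : Group P) with mul_comm := hab }
  have hexp' : ∀ x : Additive P, 2 • x = 0 := fun x => by
    show Additive.ofMul ((Additive.toMul x) ^ 2) = 0
    rw [hexp, ofMul_one]
  letI : Module (ZMod 2) (Additive P) := AddCommGroup.zmodModule (n := 2) hexp'
  haveI : Finite (Additive P) := inferInstanceAs (Finite P)
  haveI : Module.Finite (ZMod 2) (Additive P) := Module.Finite.of_finite (R := ZMod 2) (M := Additive P)
  have hfr : Module.finrank (ZMod 2) (Additive P) = 3 := by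
    have h := Module.natCard_eq_pow_finrank (K := ZMod 2) (V := Additive P)
    rw [Nat.card_zmod, show Nat.card (Additive P) = 2 ^ 3 from hcard] at h
    exact (Nat.pow_right_injective le_rfl h).symm
  let b : Module.Basis (Fin 3) (ZMod 2) (Additive P) :=
    @Module.finBasisOfFinrankEq (ZMod 2) (Additive P) _ _ _ _ _ _ 3 hfr
  let e₁ : MulAut P ≃* (Module.End (ZMod 2) (Additive P))ˣ :=
    { toFun := fun α => ⟨CfsgLib.PLocal.autRep 2 P α, CfsgLib.PLocal.autRep 2 P α⁻¹,
        by rw [← map_mul, mul_inv_cancel, map_one], by rw [← map_mul, inv_mul_cancel, map_one]⟩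
      invFun := fun L =>
        { toFun := fun x => Additive.toMul ((L : Module.End (ZMod 2) (Additive P)) (Additive.ofMul x))
          invFun := fun x =>
            Additive.toMul ((↑L⁻¹ : Module.End (ZMod 2) (Additive P)) (Additive.ofMul x))
          left_inv := fun x => by
            show Additive.toMul (((↑L⁻¹ : Module.End (ZMod 2) (Additive P)) * ↑L) (Additive.ofMul x)) = x
            rw [Units.inv_mul]; rfl
          right_inv := fun x => by
            show Additive.toMul (((↑L : Module.End (ZMod 2) (Additive P)) * ↑L⁻¹) (Additive.ofMul x)) = x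
            rw [Units.mul_inv]; rfl
          map_mul' := fun x y => by
            rw [ofMul_mul, map_add, toMul_add] }
      left_inv := fun α => MulEquiv.ext fun x => rfl
      right_inv := fun L => Units.ext (LinearMap.ext fun x => rfl)
      map_mul' := fun α β => Units.ext (map_mul (CfsgLib.PLocal.autRep 2 P) α β) }
  exact ⟨e₁.trans (Units.mapEquiv (LinearMap.toMatrixAlgEquiv b).toMulEquiv)⟩

theorem card_mulAut (hab : ∀ a b : P, a * b = b * a) (hexp : ∀ a : P, a ^ 2 = 1)
    (hcard : Nat.card P = 8) : Nat.card (MulAut P) = 168 := by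
  haveI : Fact (Nat.Prime 2) := ⟨Nat.prime_two⟩
  obtain ⟨e⟩ := exists_mulAut_equiv_gl_three hab hexp hcard
  rw [Nat.card_congr e.toEquiv, Matrix.card_GL_field]
  simp [ZMod.card, Fin.prod_univ_three]

/-- A point stabilizer of order divisible by 8 with an odd element, and a mover, give everything. -/
theorem mulAut_eq_top (hab : ∀ a b : P, a * b = b * a) (hexp : ∀ a : P, a ^ 2 = 1)
    (hcard : Nat.card P = 8) {Γ A : Subgroup (MulAut P)} {z : P} (hz : z ≠ 1) (hA : A ≤ Γ)
    (hA8 : Nat.card A = 8) (hAz : ∀ α ∈ A, α z = z) {a : MulAut P} (ha : a ∈ Γ) (haz : a z = z)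
    (ha1 : a ≠ 1) (hodd : Odd (orderOf a)) {b : MulAut P} (hb : b ∈ Γ) (hbz : b z ≠ z) :
    Γ = ⊤ ∧ ∀ v : P, v ≠ 1 → ∃ γ ∈ Γ, γ z = v := by
  classical
  haveI : Fact (Nat.Prime 2) := ⟨Nat.prime_two⟩
  have h168 := card_mulAut hab hexp hcard
  let St : Subgroup Γ := MulAction.stabilizer Γ z
  have hmemSt : ∀ γ : Γ, γ ∈ St ↔ (γ : MulAut P) z = z := fun γ => MulAction.mem_stabilizer_iff
  have hd : orderOf a ∣ 168 := h168 ▸ orderOf_dvd_natCard a
  -- an element of order seven fixes no involution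
  have h3 : 3 ∣ orderOf a := by
    by_contra h3
    have hmem : orderOf a ∈ Nat.divisors 168 := Nat.mem_divisors.2 ⟨hd, by norm_num⟩
    rw [show Nat.divisors 168 = {1,2,3,4,6,7,8,12,14,21,24,28,42,56,84,168} by decide] at hmem
    simp only [Finset.mem_insert, Finset.mem_singleton] at hmem
    obtain ⟨j, hj⟩ := hodd
    have h1 : orderOf a ≠ 1 := fun e => ha1 (orderOf_eq_one_iff.1 e)
    have h7 : orderOf a = 7 := by omega
    let Y := {x : P // x ≠ 1 ∧ x ≠ z}
    let π : Equiv.Perm Y := Equiv.Perm.subtypePerm (p := fun x : P => x ≠ 1 ∧ x ≠ z) a.toEquiv fun x => by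
      show a x ≠ 1 ∧ a x ≠ z ↔ x ≠ 1 ∧ x ≠ z
      rw [Ne, map_eq_one_iff a a.injective, Ne, Ne]
      constructor
      · exact fun h => ⟨h.1, fun e => h.2 (by rw [e, haz])⟩
      · exact fun h => ⟨h.1, fun e => h.2 (a.injective (e.trans haz.symm))⟩
    have hY : Nat.card Y = 6 := by
      haveI := Fintype.ofFinite P
      rw [Nat.card_eq_fintype_card, Fintype.card_subtype,
        show (Finset.univ.filter fun x : P => x ≠ 1 ∧ x ≠ z) = Finset.univ \ {1, z} by ext x; simp,
        Finset.card_sdiff_of_subset (Finset.subset_univ _), Finset.card_univ, ← Nat.card_eq_fintype_card,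
        hcard, Finset.card_pair hz.symm]
    have hp7 : ∀ n : ℕ, ∀ x : Y, ((π ^ n) x : Y).1 = (a ^ n) x.1 := by
      intro n
      induction n with
      | zero => exact fun x => rfl
      | succ n ih =>
        intro x
        rw [pow_succ', pow_succ', Equiv.Perm.mul_apply, MulAut.mul_apply]
        exact congrArg a (ih x)
    have hd' : orderOf π ∣ 720 := by
      have := orderOf_dvd_natCard π
      rwa [Nat.card_perm, hY] at this
    have hd7 : orderOf π ∣ 7 := orderOf_dvd_of_pow_eq_one (Equiv.ext fun x => Subtype.ext (by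
      rw [hp7, ← h7, pow_orderOf_eq_one]; rfl))
    have hπ : π = 1 := orderOf_eq_one_iff.1
      (Nat.eq_one_of_dvd_coprimes (by norm_num : Nat.Coprime 720 7) hd' hd7)
    refine ha1 (MulEquiv.ext fun x => ?_)
    by_cases hx : x ≠ 1 ∧ x ≠ z
    · exact congrArg Subtype.val (DFunLike.congr_fun hπ (⟨x, hx⟩ : Y))
    · rcases not_and_or.1 hx with h | h
      · rw [not_not.1 h, map_one]; rfl
      · rw [not_not.1 h, haz]; rfl
  have hS3 : 3 ∣ Nat.card St := h3.trans (by
    have : orderOf (⟨⟨a, ha⟩, (hmemSt _).2 haz⟩ : St) = orderOf a := by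
      rw [Subgroup.orderOf_mk, Subgroup.orderOf_mk]
    exact this ▸ orderOf_dvd_natCard _)
  have hS8 : 8 ∣ Nat.card St := by
    have hle : A.subgroupOf Γ ≤ St := fun γ hγ => (hmemSt γ).2 (hAz _ hγ)
    rw [← hA8, ← Nat.card_congr (subgroupOfEquivOfLe hA).toEquiv]
    exact Subgroup.card_dvd_of_le hle
  have h24 : 24 ∣ Nat.card St := Nat.Coprime.mul_dvd_of_dvd_of_dvd (by norm_num : Nat.Coprime 3 8) hS3 hS8
  -- the orbit
  have horb : Nat.card (MulAction.orbit Γ z) * Nat.card St = Nat.card Γ := by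
    rw [← card_mul_index St, mul_comm (Nat.card St), MulAction.index_stabilizer]
    rfl
  have hsub : MulAction.orbit Γ z ⊆ {x : P | x ≠ 1} := by
    rintro _ ⟨γ, rfl⟩ e
    exact hz (by simpa using (map_eq_one_iff (γ : MulAut P) (γ : MulAut P).injective).1 e)
  have hseven : Nat.card {x : P | x ≠ 1} = 7 := by
    haveI := Fintype.ofFinite P
    rw [Nat.card_eq_fintype_card, Fintype.card_ofFinset,
      show (Finset.univ.filter fun x : P => x ∈ {x : P | x ≠ 1}) = Finset.univ.erase 1 by ext x; simp,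
      Finset.card_erase_of_mem (Finset.mem_univ _), Finset.card_univ, ← Nat.card_eq_fintype_card, hcard]
  have hk7 : Nat.card (MulAction.orbit Γ z) ≤ 7 := hseven ▸ Nat.card_mono (Set.toFinite _) hsub
  have hk2 : 2 ≤ Nat.card (MulAction.orbit Γ z) := by
    haveI : Nontrivial (MulAction.orbit Γ z) :=
      ⟨⟨⟨z, MulAction.mem_orbit_self z⟩, ⟨b z, ⟨⟨b, hb⟩, rfl⟩⟩, fun e => hbz (congrArg Subtype.val e).symm⟩⟩
    exact Finite.one_lt_card
  obtain ⟨s, hs⟩ := h24
  have hΓ : Nat.card Γ ∣ 168 := h168 ▸ Subgroup.card_subgroup_dvd_card Γ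
  rw [← horb, hs, show (168 : ℕ) = 24 * 7 by norm_num, mul_left_comm] at hΓ
  have hks := Nat.dvd_of_mul_dvd_mul_left (by norm_num) hΓ
  have hk : Nat.card (MulAction.orbit Γ z) = 7 := by
    rcases (Nat.dvd_prime (by norm_num)).1 ((dvd_mul_right _ s).trans hks) with h | h
    · omega
    · exact h
  refine ⟨?_, fun v hv => ?_⟩
  · refine eq_top_of_card_eq Γ ?_
    rw [h168, ← horb, hk, hs]
    rw [hk] at hks
    have : s = 1 := Nat.dvd_one.1 (Nat.dvd_of_mul_dvd_mul_left (by norm_num : 0 < 7) (hks.trans (by norm_num)))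
    omega
  · have heq : MulAction.orbit Γ z = {x : P | x ≠ 1} :=
      Set.eq_of_subset_of_ncard_le hsub (by rw [← Nat.card_coe_set_eq, ← Nat.card_coe_set_eq, hk, hseven])
        (Set.toFinite _)
    obtain ⟨γ, hγ⟩ : v ∈ MulAction.orbit Γ z := heq ▸ hv
    exact ⟨γ, γ.2, hγ⟩

end CfsgLib.SylHS
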