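import Cfsg.Agent.Lib.SylHS.Signal

/-!
Balance from a normal `2`-subgroup modulo the core that is only centralized by the core.
-/

set_option autoImplicit false
set_option linter.style.haveILetI false

namespace CfsgLib.SylHS

open Subgroup CfsgLib.SylAltEight

universe u

variable {G : Type u} [Group G] [Finite G]

/-- The core of one centralizer meets the other centralizer in the other core. -/
theorem core_inf_le_of_normal_two {v w : G} {R D : Subgroup G}
    (hR : IsPGroup 2 R) (hRC : R ≤ centralizer ({w} : Set G)) (hDR : D ≤ R)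
    (hDv : D ≤ centralizer ({v} : Set G))
    (hnorm : ∀ g ∈ centralizer ({w} : Set G), ∀ r ∈ R,
      g * r * g⁻¹ ∈ Cfsg.centralizerPPrimeCore 2 w ⊔ R)
    (hcent : ∀ k ∈ centralizer ({w} : Set G), Odd (orderOf k) →
      (∀ d ∈ D, k * d * k⁻¹ * d⁻¹ ∈ Cfsg.centralizerPPrimeCore 2 w) →
      k ∈ Cfsg.centralizerPPrimeCore 2 w) :
    Cfsg.centralizerPPrimeCore 2 v ⊓ centralizer ({w} : Set G) ≤ Cfsg.centralizerPPrimeCore 2 w := by
  haveI : Fact (Nat.Prime 2) := ⟨Nat.prime_two⟩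
  intro x hx
  set O := Cfsg.centralizerPPrimeCore 2 w
  refine hcent x hx.2 (odd_orderOf_of_mem (odd_core v) hx.1) fun d hd => ?_
  obtain ⟨e, he⟩ : ∃ e, e = x * d * x⁻¹ * d⁻¹ := ⟨_, rfl⟩
  rw [← he]
  -- the commutator is an element of odd order
  have heX : e ∈ Cfsg.centralizerPPrimeCore 2 v := by
    have h1 := core_conj_self (hDv hd) (inv_mem hx.1)
    have h2 := mul_mem hx.1 h1
    rw [show x * (d * x⁻¹ * d⁻¹) = e by rw [he]; group] at h2
    exact h2
  have heOR : e ∈ O ⊔ R := he ▸ mul_mem (hnorm x hx.2 d (hDR hd)) (inv_mem (mem_sup_right (hDR hd)))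
  -- write it as a product
  have hRn : R ≤ normalizer (O : Set G) := fun r hr =>
    Invol.mem_normalizer_iff_of_finite fun y hy => core_conj_self (hRC hr) hy
  obtain ⟨o, ho, r, hr, hor⟩ : ∃ o ∈ O, ∃ r ∈ R, o * r = e := by
    haveI : (O.subgroupOf (O ⊔ R)).Normal :=
      normal_subgroupOf_of_le_normalizer (sup_le le_normalizer hRn)
    have h := heOR
    rw [← SetLike.mem_coe, coe_mul_of_right_le_normalizer_left _ _ hRn] at h
    obtain ⟨o, ho, r, hr, hor⟩ := h
    exact ⟨o, ho, r, hr, hor⟩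
  -- the part in `R` has odd order modulo `O`, so it is trivial
  obtain ⟨n, hn⟩ : ∃ n, Odd n ∧ e ^ n = 1 :=
    ⟨_, odd_orderOf_of_mem (odd_core v) heX, pow_orderOf_eq_one _⟩
  have hrn : ∀ k : ℕ, ∃ o' ∈ O, (o * r) ^ k = o' * r ^ k := by
    intro k
    induction k with
    | zero => exact ⟨1, one_mem _, by simp⟩
    | succ k ih =>
      obtain ⟨o', ho', e'⟩ := ih
      refine ⟨o' * (r ^ k * o * (r ^ k)⁻¹), mul_mem ho'
        ((mem_normalizer_iff.1 (pow_mem (hRn hr) k) o).1 ho), ?_⟩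
      rw [pow_succ, e', pow_succ]
      group
  obtain ⟨o', ho', he'⟩ := hrn n
  rw [hor, hn.2] at he'
  have hrO : r ^ n ∈ O := by
    rw [show r ^ n = o'⁻¹ by rw [eq_inv_iff_mul_eq_one, ← inv_mul_cancel o', ← mul_right_inj o']
                             rw [← mul_assoc, ← he', one_mul, mul_inv_cancel_left]]
    exact inv_mem ho'
  have hr1 : r ^ n = 1 := eq_one_of_pGroup_odd hR (odd_core w) (pow_mem hr n) hrO
  have hr' : r = 1 := by
    obtain ⟨k, hk⟩ := hR ⟨r, hr⟩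
    exact orderOf_eq_one_iff.1 (Nat.eq_one_of_dvd_coprimes
      (Nat.Coprime.pow_right k (Nat.coprime_two_right.2 hn.1)) (orderOf_dvd_of_pow_eq_one hr1)
      (orderOf_dvd_of_pow_eq_one (by simpa using congrArg Subtype.val hk)))
  rw [← hor, hr', mul_one]
  exact ho

theorem balanced_of_normal_two {V : Subgroup G}
    (hloc : ∀ v ∈ V, v ≠ 1 → ∀ w ∈ V, w ≠ 1 → ∃ R D : Subgroup G,
      IsPGroup 2 R ∧ R ≤ centralizer ({w} : Set G) ∧ D ≤ R ∧ D ≤ centralizer ({v} : Set G) ∧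
      (∀ g ∈ centralizer ({w} : Set G), ∀ r ∈ R,
        g * r * g⁻¹ ∈ Cfsg.centralizerPPrimeCore 2 w ⊔ R) ∧
      ∀ k ∈ centralizer ({w} : Set G), Odd (orderOf k) →
        (∀ d ∈ D, k * d * k⁻¹ * d⁻¹ ∈ Cfsg.centralizerPPrimeCore 2 w) →
        k ∈ Cfsg.centralizerPPrimeCore 2 w) : Balanced V := by
  intro v hv hv1 w hw hw1
  obtain ⟨R, D, hR, hRC, hDR, hDv, hnorm, hcent⟩ := hloc v hv hv1 w hw hw1
  exact core_inf_le_of_normal_two hR hRC hDR hDv hnorm hcent

end CfsgLib.SylHS
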