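import Cfsg.Agent.Lib.Fusion.EssentialTransvection
import Cfsg.Agent.Lib.Fusion.NormalCriteria

/-!
Transvections on an invariant section: an abelian essential subgroup is impossible.
-/

set_option autoImplicit false
set_option linter.style.haveILetI false
set_option linter.unusedVariables false
set_option linter.unusedSectionVars false

namespace CfsgLib.SylHS

open Cfsg Cfsg.FusionSystem Subgroup CfsgLib.Fusion

variable {Ω : Type*} [Group Ω] {S : Subgroup Ω} {F : FusionSystem S} {p : ℕ} {P L V : Subgroup Ω}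
variable [Fact p.Prime] [Finite S] (hS : IsPGroup p S) (hF : F.IsSaturated p)

include hS hF

/-- The automorphisms fixing `V` pointwise are inner when they have `p`-power order. -/
theorem mem_inn_of_fix (hP : F.IsEssential p P)
    (hinv : ∀ α ∈ F.autGroup P, ∀ x : P, (x : Ω) ∈ V → ((α x : P) : Ω) ∈ V)
    (hker : ∀ α ∈ F.autGroup P, (∀ x : P, (x : Ω) ∈ V → α x = x) → ∃ k, α ^ p ^ k = 1)
    (α : F.autGroup P) (hα : ∀ x : P, (x : Ω) ∈ V → (α : MulAut P) x = x) :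
    (α : MulAut P) ∈ Inn P := by
  let K : Subgroup (F.autGroup P) :=
    { carrier := {β | ∀ x : P, (x : Ω) ∈ V → (β : MulAut P) x = x}
      one_mem' := fun x _ => rfl
      mul_mem' := fun {a b} ha hb x hx => by
        show (a : MulAut P) ((b : MulAut P) x) = x
        rw [hb x hx, ha x hx]
      inv_mem' := fun {a} ha x hx => by
        show (a : MulAut P)⁻¹ x = x
        conv_lhs => rw [← ha x hx]
        simp }
  haveI : K.Normal := ⟨fun β hβ γ x hx => by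
    show (γ : MulAut P) ((β : MulAut P) ((γ : MulAut P)⁻¹ x)) = x
    rw [hβ _ (hinv _ (inv_mem γ.2) x hx), MulAut.apply_inv_self]⟩
  have hK : IsPGroup p K := fun β => by
    obtain ⟨k, hk⟩ := hker _ β.1.2 β.2
    exact ⟨k, Subtype.ext (Subtype.ext (by simpa using hk))⟩
  have hmem : α ∈ pCore p (F.autGroup P) :=
    (le_sSup (α := Subgroup (F.autGroup P)) ⟨inferInstance, hK⟩ : K ≤ pCore p (F.autGroup P)) hα
  rw [← (essential_isRadical hS hF hP).2]
  exact ⟨α, hmem, rfl⟩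

/-- Elements inducing transvections with centre `L` on `V` and fixing each element of `V` in turn
exclude an essential subgroup with no further kernel on `V`. -/
theorem false_of_transvections_on (hP : F.IsEssential p P)
    (hab : ∀ a ∈ V, ∀ b ∈ V, a * b = b * a) (hLV : L ≤ V) (hVP : V ≤ P) (hLc : Nat.card L = p)
    (hinv : ∀ α ∈ F.autGroup P, ∀ x : P, (x : Ω) ∈ V → ((α x : P) : Ω) ∈ V)
    (hker : ∀ α ∈ F.autGroup P, (∀ x : P, (x : Ω) ∈ V → α x = x) → ∃ k, α ^ p ^ k = 1)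
    (U : Set Ω) (hU : ∀ a ∈ U, a ∈ normalizerIn S P)
    (hcomm : ∀ a ∈ U, ∀ x ∈ V, a * x * a⁻¹ * x⁻¹ ∈ L)
    (hfix : ∀ v ∈ V, ∃ a ∈ U, a ∉ P ∧ a * v * a⁻¹ = v) : False := by
  have hPS := hP.1.1
  haveI := finite_of_le hPS
  obtain ⟨W, -, hWeq, -⟩ := exists_outSylow hS hF (lt_of_essential hS hF hP) hP.2.1 hP.1
  obtain ⟨_, Y₀, hY₀⟩ := hP.2.2
  obtain ⟨Y, hY, hloc⟩ := exists_containsLocals_of_isStronglyPEmbedded hY₀ W
  have hne : L ≠ ⊥ := fun h => (Fact.out : p.Prime).ne_one (by rw [← hLc, h, Subgroup.card_bot])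
  obtain ⟨⟨l₀, hl₀⟩, hl₀1⟩ := L.ne_bot_iff_exists_ne_one.1 hne
  haveI := finite_of_le ((hLV.trans hVP).trans hPS)
  have hLgen : ∀ l ∈ L, ∃ k : ℤ, l = l₀ ^ k := fun l hl => by
    have h : (⟨l, hl⟩ : L) ∈ Subgroup.zpowers (⟨l₀, hl₀⟩ : L) := by
      rw [zpowers_eq_top_of_prime_card hLc hl₀1]
      exact Subgroup.mem_top _
    obtain ⟨k, hk⟩ := Subgroup.mem_zpowers_iff.1 h
    exact ⟨k, (congrArg Subtype.val hk).symm⟩
  let mkAut : ∀ a, a ∈ normalizerIn S P → F.autGroup P := fun a ha =>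
    ⟨P.normalizerMonoidHom ⟨a, ha.2⟩,
      autInducedBy_le_autGroup hPS (mem_autInducedBy_iff.2 ⟨a, ha.1, fun _ => rfl⟩)⟩
  have hmk : ∀ a (ha : a ∈ normalizerIn S P) (x : P),
      ((((mkAut a ha : F.autGroup P) : MulAut P) x : P) : Ω) = a * x * a⁻¹ := fun a ha x => rfl
  set π := QuotientGroup.mk' ((Inn P).subgroupOf (F.autGroup P)) with hπ
  have hW : ∀ a (ha : a ∈ normalizerIn S P), π (mkAut a ha) ∈ (W : Subgroup (OutGrp F P)) :=
    fun a ha => by
      rw [hWeq]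
      exact ⟨_, mem_autInducedBy_iff.2 ⟨a, ha.1, fun _ => rfl⟩, rfl⟩
  have hne1 : ∀ a (ha : a ∈ normalizerIn S P), a ∉ P → π (mkAut a ha) ≠ 1 := fun a ha haP h =>
    haP (mem_of_normalizerMonoidHom_mem_inn hP.1 ha ((QuotientGroup.eq_one_iff
      (N := (Inn P).subgroupOf (F.autGroup P)) _).1 h))
  refine false_of_commuting_pairs hY hloc fun q => ?_
  obtain ⟨g, rfl⟩ := QuotientGroup.mk'_surjective _ q
  have hl₀P : l₀ ∈ P := hVP (hLV hl₀)
  obtain ⟨a, haU, haP, hav⟩ := hfix _ (hinv _ g.2 ⟨l₀, hl₀P⟩ (hLV hl₀))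
  obtain ⟨b, hbU, hbP, hbv⟩ := hfix _ (hinv _ (inv_mem g.2) ⟨l₀, hl₀P⟩ (hLV hl₀))
  have ha := hU a haU
  have hb := hU b hbU
  refine ⟨_, hW a ha, _, hW b hb, hne1 a ha haP, hne1 b hb hbP, ?_⟩
  rw [← map_inv, ← map_mul, ← map_mul]
  show π (mkAut a ha) * π (g * mkAut b hb * g⁻¹) = π (g * mkAut b hb * g⁻¹) * π (mkAut a ha)
  rw [← map_mul, ← map_mul]
  refine QuotientGroup.eq.2 (Subgroup.mem_subgroupOf.2
    (mem_inn_of_fix hS hF hP hinv hker _ fun x hxV => ?_))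
  set t : MulAut P := (mkAut a ha : MulAut P) with ht
  set s : MulAut P := (mkAut b hb : MulAut P) with hs
  have key : ∀ y : P, (y : Ω) ∈ V →
      t ((g : MulAut P) (s ((g : MulAut P)⁻¹ y))) = (g : MulAut P) (s ((g : MulAut P)⁻¹ (t y))) := by
    intro x hx
    have hta : ∀ y : P, (y : Ω) ∈ L → t ((g : MulAut P) y) = (g : MulAut P) y := fun y hy => by
      obtain ⟨k, hk⟩ := hLgen _ hy
      rw [show y = (⟨l₀, hl₀P⟩ : P) ^ k from Subtype.ext (by simpa using hk), map_zpow, map_zpow]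
      congr 1
      exact Subtype.ext hav
    have hsb : ∀ y : P, (y : Ω) ∈ L → s ((g : MulAut P)⁻¹ y) = (g : MulAut P)⁻¹ y := fun y hy => by
      obtain ⟨k, hk⟩ := hLgen _ hy
      rw [show y = (⟨l₀, hl₀P⟩ : P) ^ k from Subtype.ext (by simpa using hk), map_zpow, map_zpow]
      congr 1
      exact Subtype.ext hbv
    have hgx := hinv _ (inv_mem g.2) x hx
    obtain ⟨d, e1, hdL⟩ : ∃ d, s ((g : MulAut P)⁻¹ x) = d * (g : MulAut P)⁻¹ x ∧ (d : Ω) ∈ L :=
      ⟨_, (inv_mul_cancel_right _ _).symm, hcomm b hbU _ hgx⟩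
    obtain ⟨c, e2, hcL⟩ : ∃ c, t x = c * x ∧ (c : Ω) ∈ L :=
      ⟨_, (inv_mul_cancel_right _ _).symm, hcomm a haU x hx⟩
    have hcm : (g : MulAut P) d * c = c * (g : MulAut P) d :=
      Subtype.ext (hab _ (hinv _ g.2 d (hLV hdL)) _ (hLV hcL))
    calc t ((g : MulAut P) (s ((g : MulAut P)⁻¹ x)))
        = t ((g : MulAut P) d * x) := by rw [e1, map_mul, MulAut.apply_inv_self]
      _ = (g : MulAut P) d * (c * x) := by rw [map_mul, hta d hdL, e2]
      _ = c * ((g : MulAut P) d * x) := by rw [← mul_assoc, hcm, mul_assoc]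
      _ = (g : MulAut P) (((g : MulAut P)⁻¹ c) * (d * (g : MulAut P)⁻¹ x)) := by
          rw [map_mul, map_mul, MulAut.apply_inv_self, MulAut.apply_inv_self]
      _ = (g : MulAut P) (s ((g : MulAut P)⁻¹ (t x))) := by
          rw [e2, map_mul ((g : MulAut P)⁻¹), map_mul s, hsb c hcL, e1]
  show (t * ((g : MulAut P) * s * (g : MulAut P)⁻¹))⁻¹
    (((g : MulAut P) * s * (g : MulAut P)⁻¹) (t x)) = x
  rw [show ((g : MulAut P) * s * (g : MulAut P)⁻¹) (t x) =
    (t * ((g : MulAut P) * s * (g : MulAut P)⁻¹)) x from (key x hxV).symm, MulAut.inv_apply_self]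

end CfsgLib.SylHS
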