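import Cfsg.Agent.Lib.SylHS.Essential
import Cfsg.Agent.Lib.SylHS.Transvections

/-!
The abelian candidate is not essential: three candidates remain.
-/

set_option autoImplicit false
set_option maxRecDepth 100000
set_option linter.style.haveILetI false

namespace CfsgLib.SylHS

open Subgroup

universe u

/-- For each involution of the abelian subgroup there is an outer element fixing it which acts on
the involutions with centre `⟨z⟩`. -/
def aOK : Bool :=
  let A := repAt 496
  Nat.beq A.mask aMask && Nat.beq (maskOf ((elems aMask).filter fun x => Nat.beq (mt x x) 0)) vMask &&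
    mem vMask zIdx &&
    A.gens.all (fun g => A.gens.all fun h => Nat.beq (mt g h) (mt h g)) &&
    (elems vMask).all fun v => (List.range 512).any fun d =>
      !mem aMask d && Nat.beq (cj d v) v && A.gens.all (fun g => mem aMask (cj d g)) &&
        (elems vMask).all fun x =>
          Nat.beq (mt (cj d x) (iv x)) 0 || Nat.beq (mt (cj d x) (iv x)) zIdx

theorem a_ok : aOK = true := by decide +kernel

variable {G : Type u} [Group G] {T : Subgroup G} (F : Frame T)

namespace Frame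

/-- The three candidates. -/
def cand3 : Fin 3 → Subgroup G := ![F.sub p8Mask, F.sub p11Mask, F.sub p12Mask]

theorem not_essential_a [Finite G] {E : Cfsg.FusionSystem T} (hE : E.IsSaturated 2) :
    ¬ E.IsEssential 2 (F.sub aMask) := by
  intro hP
  haveI : Fact (Nat.Prime 2) := ⟨Nat.prime_two⟩
  have h := a_ok
  simp only [aOK, Bool.and_eq_true, List.all_eq_true, List.any_eq_true, List.mem_range, beq_true,
    Bool.or_eq_true, Bool.not_eq_true'] at h
  obtain ⟨⟨⟨⟨hA, hV⟩, hzV⟩, hcom⟩, hfix⟩ := h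
  have hg : genOK aMask (repAt 496).gens = true := hA ▸ gen_ok (by norm_num)
  have hsetA : (F.sub aMask : Set G) = F.set aMask := F.coe_sub_gen hg
  have hAcomm : ∀ x ∈ F.sub aMask, ∀ y ∈ F.sub aMask, x * y = y * x := by
    intro x hx y hy
    rw [F.sub_eq_closure hg] at hx hy
    refine comm_closure (fun w hw => ?_) y hy
    refine (comm_closure (x := w) ?_ x hx).symm
    rintro _ ⟨k, hk, rfl⟩
    obtain ⟨g, hg', rfl⟩ := hw
    exact (F.comm_iff (gens_lt hg g hg') (gens_lt hg k hk)).2 (hcom g hg' k hk)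
  let V : Subgroup G :=
    { carrier := {x | x ∈ F.sub aMask ∧ x * x = 1}
      one_mem' := ⟨one_mem _, mul_one 1⟩
      mul_mem' := fun {a b} ha hb => ⟨mul_mem ha.1 hb.1, by
        rw [mul_assoc, ← mul_assoc b, hAcomm b hb.1 a ha.1, mul_assoc, hb.2, mul_one, ha.2]⟩
      inv_mem' := fun {a} ha => ⟨inv_mem ha.1, by rw [← mul_inv_rev, ha.2, _root_.inv_one]⟩ }
  have hVset : ∀ x, x ∈ V ↔ x ∈ F.set vMask := by
    intro x
    show x ∈ F.sub aMask ∧ x * x = 1 ↔ _
    rw [← hV, set_maskOf_filter _ (elems_lt _), ← SetLike.mem_coe, hsetA, mem_set_elems]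
    constructor
    · rintro ⟨⟨d, hd, rfl⟩, h1⟩
      refine ⟨d, hd, beq_true.2 ?_, rfl⟩
      rw [F.mul d (elems_lt _ d hd) d (elems_lt _ d hd)] at h1
      exact (F.eq_one_iff (mt_lt d d)).1 h1
    · rintro ⟨d, hd, h1, rfl⟩
      refine ⟨⟨d, hd, rfl⟩, ?_⟩
      rw [F.mul d (elems_lt _ d hd) d (elems_lt _ d hd), beq_true.1 h1, F.p_zero]
  refine false_of_transvections_on F.isPGroup hE hP (L := zpowers F.z) (V := V)
    (fun a ha b hb => hAcomm a ha.1 b hb.1) ?_ (fun x hx => hx.1) ?_ ?_ ?_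
    {x | ∃ d < 512, mem aMask d = false ∧ (∀ g ∈ (repAt 496).gens, mem aMask (cj d g) = true) ∧
      (∀ y ∈ elems vMask, mt (cj d y) (iv y) = 0 ∨ mt (cj d y) (iv y) = zIdx) ∧ F.p d = x} ?_ ?_ ?_
  · exact zpowers_le.2 ((hVset _).2 ((F.mem_set_p (by decide)).2 hzV))
  · rw [Nat.card_zpowers, F.orderOf_z]
  · rintro α - x hx
    refine ⟨SetLike.coe_mem _, ?_⟩
    rw [← coe_mul, ← map_mul, show x * x = 1 from Subtype.ext hx.2, map_one, coe_one]
  · intro α _ hα
    refine ⟨1, MulEquiv.ext fun x => ?_⟩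
    rw [pow_one, pow_two]
    show α (α x) = x
    have hxx : ((x * x : ↥(F.sub aMask)) : G) ∈ V := by
      refine ⟨SetLike.coe_mem _, ?_⟩
      have h4 : ((List.range 512).all fun d => !mem aMask d || Nat.beq (mt (mt d d) (mt d d)) 0) = true := by
        decide +kernel
      obtain ⟨d, hd, hm, e⟩ := (show (x : G) ∈ F.set aMask from hsetA ▸ x.2)
      have := List.all_eq_true.1 h4 d (List.mem_range.2 hd)
      simp only [Bool.or_eq_true, Bool.not_eq_true', beq_true] at this
      rw [coe_mul, ← e, F.mul d hd d hd, F.mul _ (mt_lt d d) _ (mt_lt d d),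
        this.resolve_left (by rw [hm]; decide), F.p_zero]
    have hcx : α x * x = x * α x := Subtype.ext (hAcomm _ (SetLike.coe_mem _) _ x.2)
    have hd : ((x⁻¹ * α x : ↥(F.sub aMask)) : G) ∈ V := by
      refine ⟨SetLike.coe_mem _, ?_⟩
      rw [← coe_mul, show x⁻¹ * α x * (x⁻¹ * α x) = 1 from ?_, coe_one]
      have h1 := hα _ hxx
      rw [map_mul] at h1
      calc x⁻¹ * α x * (x⁻¹ * α x) = x⁻¹ * (α x * x⁻¹) * α x := by group
        _ = x⁻¹ * (x⁻¹ * α x) * α x := by
            rw [show α x * x⁻¹ = x⁻¹ * α x from Commute.inv_right hcx]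
        _ = (x * x)⁻¹ * (α x * α x) := by group
        _ = 1 := by rw [h1, inv_mul_cancel]
    have h2 := hα _ hd
    rw [map_mul, map_inv] at h2
    have h3 : α (α x) = α x * (x⁻¹ * α x) := by rw [← h2]; group
    have hd2 : x⁻¹ * α x * (x⁻¹ * α x) = 1 := Subtype.ext hd.2
    calc α (α x) = x * (x⁻¹ * α x * (x⁻¹ * α x)) := by rw [h3]; group
      _ = x := by rw [hd2, mul_one]
  · rintro _ ⟨d, hd, -, hgs, -, rfl⟩
    rw [← hA]
    refine F.normalizes_of_normOK (by norm_num) ?_
    simp only [normOK, Bool.and_eq_true, List.all_eq_true, Nat.blt_eq]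
    exact ⟨hd, fun g hg => hA.symm ▸ hgs g hg⟩
  · rintro _ ⟨d, hd, -, -, hx, rfl⟩ y hy
    obtain ⟨e, he, rfl⟩ := mem_set_elems.1 ((hVset y).1 hy)
    have he' := elems_lt _ e he
    rw [F.p_conj hd he', F.p_inv he', F.mul _ (cj_lt _ _) _ (iv_lt _)]
    rcases hx e he with h | h <;> rw [h]
    · rw [F.p_zero]; exact one_mem _
    · exact mem_zpowers _
  · intro v hv
    obtain ⟨e, he, rfl⟩ := mem_set_elems.1 ((hVset v).1 hv)
    obtain ⟨d, hd, ⟨⟨hm, hfd⟩, hgs⟩, hx⟩ := hfix e he
    refine ⟨F.p d, ⟨d, hd, hm, hgs, hx, rfl⟩, fun h => ?_, ?_⟩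
    · rw [← SetLike.mem_coe, hsetA, F.mem_set_p hd, hm] at h
      exact Bool.false_ne_true h
    · rw [F.p_conj hd (elems_lt _ e he), hfd]

/-- The essential subgroups are conjugate to the three candidates. -/
theorem hasCandidates3 [Finite G] {E : Cfsg.FusionSystem T} (hE : E.IsSaturated 2) :
    Fusion.HasCandidates E 2 F.cand3 := by
  intro P hP
  obtain ⟨k, s, hs, rfl⟩ := F.hasCandidates hE P hP
  fin_cases k
  · exact ⟨0, s, hs, rfl⟩
  · exact ⟨1, s, hs, rfl⟩
  · exact ⟨2, s, hs, rfl⟩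
  · exfalso
    refine (F.conj s hs).not_essential_a hE ?_
    rw [F.conj_sub s hs]
    exact hP

end Frame

end CfsgLib.SylHS
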