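import Cfsg.Agent.Lib.SylHS.DataTable

/-!
Computations with the table of the Sylow 2-subgroup of order 512: subgroups are coded by bit masks,
invariant subsets by programs with stored values.
-/

set_option autoImplicit false
set_option maxRecDepth 100000

namespace CfsgLib.SylHS

open CfsgLib.Fusion.TableSylow (Tree)

/-- Product with an index below 32. -/
def t1 (a l : ℕ) : ℕ := ((t1Tree.get a) >>> (9 * l)) % 512

/-- Product with a multiple of 32. -/
def t2 (a h : ℕ) : ℕ := ((t2Tree.get a) >>> (9 * h)) % 512

/-- The product. -/
def mt (a b : ℕ) : ℕ := t1 (t2 a (b / 32)) (b % 32)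

/-- The inverse. -/
def iv (a : ℕ) : ℕ := ivTree.get a % 512

/-- The conjugate `a b a⁻¹`. -/
def cj (a b : ℕ) : ℕ := mt (mt a b) (iv a)

/-- Membership in a mask. -/
def mem (m d : ℕ) : Bool := m.testBit d

/-- The elements of a mask. -/
def elems (m : ℕ) : List ℕ :=
  (List.range 16).flatMap fun k => bif Nat.beq ((m >>> (32 * k)) % 4294967296) 0 then []
    else ((List.range 32).map fun j => 32 * k + j).filter fun d => mem m d

/-- The mask of a list. -/
def maskOf (l : List ℕ) : ℕ := l.foldl (fun acc d => acc ||| 1 <<< d) 0

/-- The products of a list of generators. -/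
def prods : List ℕ → List ℕ → List ℕ
  | acc, [] => acc
  | acc, g :: rest => prods (acc ++ acc.map fun h => mt g h) rest

/-- The mask of products of generators, repetitions allowed. -/
def growMask : ℕ → List ℕ → ℕ
  | m, [] => m
  | m, g :: rest => growMask (m ||| maskOf ((elems m).map fun h => mt g h)) rest

/-- The central involution. -/
def zIdx : ℕ := 256

/-- The candidate of order 128. -/
def p8Mask : ℕ := 0x5050505050505050505050505050505050505050505050505050505050505050505050505050505050505050505050505050505050505050505050505050505

/-- The first candidate of order 256. -/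
def p11Mask : ℕ := 0x33333333333333333333333333333333333333333333333333333333333333333333333333333333333333333333333333333333333333333333333333333333

/-- The second candidate of order 256. -/
def p12Mask : ℕ := 0x66996699669966996699669966996699669966996699669966996699669966996699669966996699669966996699669966996699669966996699669966996699

/-- The abelian subgroup of order 64 and exponent 4. -/
def aMask : ℕ := 0x20100201201002012010020120100201201002012010020120100201201002012010020120100201201002012010020120100201201002012010020120100201

/-- The subgroup `C₄ * 2^{1+4}`. -/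
def rMask : ℕ := 0x1010101010101010101010101010101010101010101010101010101010101010101010101010101010101010101010101010101010101010101010101010101

/-- The involutions of the abelian subgroup, with the identity. -/
def vMask : ℕ := 0x10000000100000000000000010000000000000000000000010000000000000001000000010000000000000001000000000000000000000001

/-- The candidates for essential subgroups. -/
def candMask : Fin 4 → ℕ := ![p8Mask, p11Mask, p12Mask, aMask]

/-- Operations preserving invariance under automorphisms. -/
inductive Op where
  | sq (i : ℕ) : Op
  | sqIn (i j : ℕ) : Op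
  | inter (i j : ℕ) : Op
  | union (i j : ℕ) : Op
  | clo (i : ℕ) (gs : List ℕ) : Op
  | cen (i : ℕ) (gs : List ℕ) : Op
  | cnt (i j n : ℕ) : Op

/-- The generators lie in the set and generate a closed mask containing it. -/
def cloOK (v : ℕ) (gs : List ℕ) (val : ℕ) : Bool :=
  gs.all (fun g => mem v g && Nat.blt g 512) && Nat.beq (growMask 1 gs) val &&
    Nat.beq (v &&& val) v && gs.all fun g => (elems val).all fun h => mem val (mt g h)

/-- The elements commuting with the generators of a set. -/
def cenOK (P v : ℕ) (gs : List ℕ) (val : ℕ) : Bool :=
  gs.all (fun g => mem v g && Nat.blt g 512) && Nat.beq (v &&& growMask 1 gs) v &&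
    Nat.beq val (maskOf ((elems P).filter fun x => gs.all fun g => Nat.beq (mt x g) (mt g x)))

/-- The value of the operation is as stated. -/
def Op.ok (P : ℕ) (v : List ℕ) (val : ℕ) : Op → Bool
  | .sq i => Nat.beq val (maskOf ((elems (v.getD i 1)).map fun h => mt h h))
  | .sqIn i j =>
    Nat.beq val (maskOf ((elems (v.getD i 1)).filter fun h => mem (v.getD j 1) (mt h h)))
  | .inter i j => Nat.beq val (v.getD i 1 &&& v.getD j 1)
  | .union i j => Nat.beq val (v.getD i 1 ||| v.getD j 1)
  | .clo i gs => cloOK (v.getD i 1) gs val
  | .cen i gs => cenOK P (v.getD i 1) gs val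
  | .cnt i j n =>
    Nat.beq val (maskOf ((elems (v.getD i 1)).filter fun x =>
      Nat.beq ((elems (v.getD j 1)).countP fun h => Nat.beq (mt x h) (mt h x)) n))

/-- The stored values of a program are correct. -/
def progOK (P : ℕ) : List (Op × ℕ) → List ℕ → Bool
  | [], _ => true
  | s :: rest, v => s.1.ok P v s.2 && progOK P rest (v ++ [s.2])

/-- The values of a program from the start. -/
def progVals (P : ℕ) (prog : List (Op × ℕ)) : List ℕ := [P, 1] ++ prog.map Prod.snd

/-- Why a subgroup is not essential. -/
inductive Wit where
  | notCentric (c : ℕ) : Wit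
  | whole : Wit
  | candidate (k : ℕ) : Wit
  | stab (a : ℕ) (prog : List (Op × ℕ)) (chain : List ℕ) : Wit
  | invol (a b x n : ℕ) : Wit

/-- The chain of masks is stabilised by `a`. -/
def chainOK (a : ℕ) : List ℕ → Bool
  | x :: y :: rest =>
    Nat.beq (x &&& y) x && (elems y).all (fun h => mem x (mt (iv h) (cj a h))) &&
      chainOK a (y :: rest)
  | _ => true

/-- The index normalises the subgroup. -/
def normOK (m : ℕ) (gs : List ℕ) (a : ℕ) : Bool :=
  Nat.blt a 512 && gs.all fun g => mem m (cj a g)

/-- The witness is valid for the subgroup `m` with generators `gs`. -/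
def witOK (m : ℕ) (gs : List ℕ) : Wit → Bool
  | .notCentric c => Nat.blt c 512 && !mem m c && gs.all fun g => Nat.beq (mt c g) (mt g c)
  | .whole => Nat.beq m (2 ^ 512 - 1)
  | .candidate k => Nat.blt k 4 && Nat.beq m (if k = 0 then p8Mask else if k = 1 then p11Mask
      else if k = 2 then p12Mask else aMask)
  | .stab a prog ch =>
    let ms := ch.map fun k => (progVals m prog).getD k 1
    normOK m gs a && !mem m a && progOK m prog [m, 1] &&
      Nat.beq (ms.getD 0 0) 1 && Nat.beq (ms.getD (ms.length - 1) 0) m && chainOK a ms
  | .invol a b x n =>
    normOK m gs a && normOK m gs b && !mem m a && !mem m b && mem m (mt a a) && mem m (mt b b) &&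
      Nat.blt x 512 && mem m x &&
      Nat.beq ((elems m).countP fun h => Nat.beq (mt (mt a x) h) (mt h (mt a x))) n &&
      (elems m).all fun y =>
        !Nat.beq ((elems m).countP fun h => Nat.beq (mt (mt b y) h) (mt h (mt b y))) n

/-- A step upwards: the coset element, the representative, the conjugating element. -/
structure Sup where
  r : ℕ
  k : ℕ
  s : ℕ

/-- A subgroup of the list. -/
structure Rep where
  mask : ℕ
  gens : List ℕ
  cov : ℕ
  sups : List Sup
  wit : Wit

/-- The mask is the subgroup generated by the generators. -/
def genOK (m : ℕ) (gs : List ℕ) : Bool :=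
  gs.all (fun g => Nat.blt g 512) && mem m 0 &&
    let es := prods [0] gs
    Nat.beq (maskOf es) m && gs.all fun g => es.all fun h => mem m (mt g h)

/-- Each upward step leads to a conjugate of a larger subgroup of the list. -/
def supsOK (gens : ℕ → List ℕ) (masks : ℕ → ℕ) (cnt m : ℕ) (gs : List ℕ) (cov : ℕ)
    (sups : List Sup) : Bool :=
  let es := prods [0] gs
  Nat.beq (maskOf (sups.flatMap fun u => es.map fun h => mt u.r h)) cov &&
    sups.all (fun u => Nat.blt u.k cnt && Nat.blt u.s 512 && Nat.blt u.r 512 && !mem m u.r &&
      (gens u.k).all (fun g => mem m (cj u.s g) || es.any fun h => Nat.beq (mt u.r h) (cj u.s g)) &&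
      (u.r :: gs).all fun g => mem (masks u.k) (cj (iv u.s) g)) &&
    (List.range 512).all fun d =>
      mem m d || mem cov d || !mem m (mt d d) || !gs.all fun h => mem m (cj d h)

/-- The mask is closed under products and inverses. -/
def closedOK (m : ℕ) : Bool :=
  let l := elems m
  mem m 0 && l.all fun a => mem m (iv a) && l.all fun b => mem m (mt a b)

end CfsgLib.SylHS
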