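import Cfsg.Agent.Lib.SylAltEight.Criterion
import Cfsg.Agent.Lib.Invol.BrauerSuzuki

/-!
An involution centralizer lies in a subgroup containing the centralizers of an isolated involution
and of a four group inside it; three commuting involutions move into a Sylow subgroup together.
-/

set_option autoImplicit false
set_option linter.style.haveILetI false

namespace CfsgLib.SylHS

open Subgroup CfsgLib.SylAltEight

universe u

variable {G : Type u} [Group G] [Finite G]

/-- Three commuting elements of order dividing two are conjugate into a given Sylow subgroup by one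
element. -/
theorem exists_conj_three (S : Sylow 2 G) {x y w : G} (hx : x * x = 1) (hy : y * y = 1)
    (hw : w * w = 1) (hxy : Commute x y) (hxw : Commute x w) (hyw : Commute y w) :
    ∃ k : G, k * x * k⁻¹ ∈ (S : Subgroup G) ∧ k * y * k⁻¹ ∈ (S : Subgroup G) ∧
      k * w * k⁻¹ ∈ (S : Subgroup G) := by
  haveI : Fact (Nat.Prime 2) := ⟨Nat.prime_two⟩
  let E := closure ({x, y, w} : Set G)
  haveI hEc : IsMulCommutative E := by
    refine Subgroup.isMulCommutative_closure fun p hp q hq => ?_
    simp only [Set.mem_insert_iff, Set.mem_singleton_iff] at hp hq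
    rcases hp with rfl | rfl | rfl <;> rcases hq with rfl | rfl | rfl <;>
      first | rfl | exact hxy.eq | exact hxy.eq.symm | exact hxw.eq | exact hxw.eq.symm |
        exact hyw.eq | exact hyw.eq.symm
  have hE2 : ∀ e ∈ E, e ^ 2 = 1 := by
    intro e he
    induction he using closure_induction with
    | mem a ha =>
      simp only [Set.mem_insert_iff, Set.mem_singleton_iff] at ha
      rcases ha with rfl | rfl | rfl <;> rw [pow_two] <;> assumption
    | one => rw [one_pow]
    | mul a b ha hb ia ib =>
      rw [(show Commute a b from congrArg Subtype.val (hEc.is_comm.comm ⟨a, ha⟩ ⟨b, hb⟩)).mul_pow,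
        ia, ib, one_mul]
    | inv a _ ia => rw [inv_pow, ia, inv_one]
  obtain ⟨k, hk⟩ := Invol.exists_conj_mem_sylow S (H := E)
    (fun e => ⟨1, Subtype.ext (by simpa using hE2 e e.2)⟩)
  exact ⟨k, hk x (subset_closure (by simp)), hk y (subset_closure (by simp)),
    hk w (subset_closure (by simp))⟩

/-- If `c` commutes with no other of its conjugates under `C(x)`, then `C(x)` lies in any subgroup
containing the centralizers of `c` and of the involutions of a four group of `C(x)`. -/
theorem centralizer_le_of_isolated {M : Subgroup G} {x c p q : G} (hc : orderOf c = 2)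
    (hxc : Commute x c) (hp : orderOf p = 2) (hq : orderOf q = 2) (hpq : Commute p q) (hne : p ≠ q)
    (hxp : Commute x p) (hxq : Commute x q)
    (hiso : ∀ g : G, Commute g x → Commute c (g * c * g⁻¹) → g * c * g⁻¹ = c)
    (hM : ∀ y, y = c ∨ y = p ∨ y = q ∨ y = p * q → centralizer ({y} : Set G) ≤ M) :
    centralizer ({x} : Set G) ≤ M := by
  haveI : Fact (Nat.Prime 2) := ⟨Nat.prime_two⟩
  let H := centralizer ({x} : Set G)
  have hcH : c ∈ H := mem_centralizer_singleton_iff.2 hxc.eq.symm
  have hI : Cfsg.IsIsolatedInvolution (⟨c, hcH⟩ : H) :=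
    ⟨by rw [Subgroup.orderOf_mk]; exact hc, fun g hg => Subtype.ext
      (hiso g (mem_centralizer_singleton_iff.1 g.2) (congrArg Subtype.val hg))⟩
  obtain ⟨π, hπ⟩ : ∃ π : Subgroup G, π = closure ({p, q} : Set G) := ⟨_, rfl⟩
  have hpm : p ∈ π := hπ ▸ subset_closure (by simp)
  have hqm : q ∈ π := hπ ▸ subset_closure (by simp)
  have hpp := Invol.invol_mul_self hp
  have hqq := Invol.invol_mul_self hq
  let P : Subgroup G :=
    { carrier := {1, p, q, p * q}
      one_mem' := by simp
      mul_mem' := by
        intro a b ha hb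
        simp only [Set.mem_insert_iff, Set.mem_singleton_iff] at ha hb ⊢
        have e1 : q * p = p * q := hpq.eq.symm
        have e2 : p * (p * q) = q := by rw [← mul_assoc, hpp, one_mul]
        have e3 : q * (p * q) = p := by rw [← mul_assoc, e1, mul_assoc, hqq, mul_one]
        have e4 : p * q * p = q := by rw [mul_assoc, e1, ← mul_assoc, hpp, one_mul]
        have e5 : p * q * q = p := by rw [mul_assoc, hqq, mul_one]
        have e6 : p * q * (p * q) = 1 := by rw [← mul_assoc, e4, hqq]
        rcases ha with rfl | rfl | rfl | rfl <;> rcases hb with rfl | rfl | rfl | rfl <;>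
          simp [hpp, hqq, e1, e2, e3, e4, e5, e6]
      inv_mem' := by
        intro a ha
        simp only [Set.mem_insert_iff, Set.mem_singleton_iff] at ha ⊢
        rcases ha with rfl | rfl | rfl | rfl
        · simp
        · simp [Invol.invol_inv hp]
        · simp [Invol.invol_inv hq]
        · simp [_root_.mul_inv_rev, Invol.invol_inv hp, Invol.invol_inv hq, hpq.eq] }
  have hP : π ≤ P := hπ ▸ (closure_le P).2 (by
    intro a ha
    simp only [Set.mem_insert_iff, Set.mem_singleton_iff] at ha
    rcases ha with rfl | rfl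
    · exact Or.inr (Or.inl rfl)
    · exact Or.inr (Or.inr (Or.inl rfl)))
  have hπc : IsMulCommutative π := by
    refine hπ ▸ Subgroup.isMulCommutative_closure fun a ha b hb => ?_
    simp only [Set.mem_insert_iff, Set.mem_singleton_iff] at ha hb
    rcases ha with rfl | rfl <;> rcases hb with rfl | rfl <;>
      first | rfl | exact hpq.eq | exact hpq.eq.symm
  have hπ2 : ∀ a ∈ π, a ^ 2 = 1 := fun a ha => by
    rcases hP ha with rfl | rfl | rfl | rfl
    · simp
    · rw [pow_two, hpp]
    · rw [pow_two, hqq]
    · rw [hpq.mul_pow, pow_two, pow_two, hpp, hqq, one_mul]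
  have hπnc : ¬ IsCyclic π := by
    intro hcy
    obtain ⟨⟨r, hr⟩, hgen⟩ := hcy.exists_generator
    have key : ∀ a ∈ π, a = 1 ∨ a = r := fun a ha => by
      obtain ⟨n, hn⟩ := mem_zpowers_iff.1 (hgen ⟨a, ha⟩)
      have e : r ^ n = a := congrArg Subtype.val hn
      rcases Int.even_or_odd n with ⟨j, hj⟩ | ⟨j, hj⟩
      · left; rw [← e, hj, ← two_mul, zpow_mul, zpow_two, ← pow_two, hπ2 r hr, one_zpow]
      · right
        rw [← e, hj, zpow_add, zpow_mul, zpow_two, ← pow_two, hπ2 r hr, one_zpow, one_mul, zpow_one]
    rcases key p hpm with h | h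
    · exact Invol.invol_ne_one hp h
    rcases key q hqm with h' | h'
    · exact Invol.invol_ne_one hq h'
    exact hne (h.trans h'.symm)
  set O := (Cfsg.oddCore H).map H.subtype with hOdef
  have hOodd : Odd (Nat.card O) := by
    rw [hOdef, card_map_of_injective H.subtype_injective]
    exact Invol.odd_card_oddCore H
  have hOn : H ≤ normalizer (O : Set G) := by
    have h := le_normalizer_map (f := H.subtype) (H := Cfsg.oddCore H)
    haveI := Cfsg.pPrimeCore_normal 2 H
    rwa [show normalizer (Cfsg.oddCore H : Set H) = ⊤ from normalizer_eq_top _,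
      ← MonoidHom.range_eq_map, range_subtype] at h
  have hπH : π ≤ H := hπ ▸ (closure_le H).2 (by
    intro a ha
    simp only [Set.mem_insert_iff, Set.mem_singleton_iff] at ha
    rcases ha with rfl | rfl
    · exact mem_centralizer_singleton_iff.2 hxp.eq.symm
    · exact mem_centralizer_singleton_iff.2 hxq.eq.symm)
  have hOM : O ≤ M := by
    rw [← Coprime.iSup_centralizer_eq hπc hπnc (hπH.trans hOn) (by
      obtain ⟨n, hn⟩ := IsPGroup.iff_card.1
        (show IsPGroup 2 π from fun a => ⟨1, Subtype.ext (by simpa using hπ2 a a.2)⟩)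
      rw [hn]
      exact Nat.Coprime.pow_left n (Nat.coprime_two_left.2 hOodd))]
    refine iSup_le fun r => inf_le_right.trans ?_
    rcases hP r.2.1 with h | h | h | h
    · exact absurd h r.2.2
    · exact hM _ (Or.inr (Or.inl h))
    · exact hM _ (Or.inr (Or.inr (Or.inl h)))
    · exact hM _ (Or.inr (Or.inr (Or.inr h)))
  intro y hy
  have hci : c⁻¹ = c := Invol.invol_inv hc
  have hzO : c * (y⁻¹ * c * y) ∈ O := by
    refine ⟨_, Invol.zstar H hI ⟨y, hy⟩⁻¹, ?_⟩
    show c * y⁻¹ * c⁻¹ * y⁻¹⁻¹ = c * (y⁻¹ * c * y)
    rw [hci]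
    group
  obtain ⟨d, hd, hdc⟩ := exists_conj_of_coset hOodd hc
    (by rw [Invol.orderOf_conj_inv_eq]; exact hc) hzO
  have hyd : y * d ∈ centralizer ({c} : Set G) := mem_centralizer_singleton_iff.2 (by
    calc y * d * c = y * (d * c * d⁻¹) * d := by group
      _ = c * (y * d) := by rw [hdc]; group)
  have := mul_mem (hM c (Or.inl rfl) hyd) (inv_mem (hOM hd))
  rwa [mul_inv_cancel_right] at this

end CfsgLib.SylHS
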