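import Cfsg.Agent.Lib.SylHS.Signal
import Cfsg.Agent.Lib.SylHS.Isolate
import Cfsg.Agent.Lib.Amalgam.StronglyClosedAbelian
import Cfsg.Agent.Lib.Transfer.Frobenius

/-!
A strongly closed elementary abelian self-centralizing subgroup is normal modulo the odd core when
odd elements of its normalizer act without fixed points and the outer involutions have isolated
fixed points on it.
-/

set_option autoImplicit false
set_option linter.style.haveILetI false

namespace CfsgLib.SylHS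

open Subgroup CfsgLib.SylAltEight

universe u

theorem fix_of_shift {X : Type u} [Group X] {n d ρ : X} (hn : n * ρ = ρ * n) (hd : n * d * n⁻¹ = ρ * d) :
    ∀ k : ℕ, n ^ k * d * (n ^ k)⁻¹ = ρ ^ k * d := by
  intro k
  induction k with
  | zero => simp
  | succ k ih =>
    rw [pow_succ' n, show n * n ^ k * d * (n * n ^ k)⁻¹ = n * (n ^ k * d * (n ^ k)⁻¹) * n⁻¹ by group,
      ih, show n * (ρ ^ k * d) * n⁻¹ = (n * ρ ^ k * n⁻¹) * (n * d * n⁻¹) by group, hd,
      (Commute.pow_right hn k).eq, mul_inv_cancel_right, ← mul_assoc, ← pow_succ]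

variable {X : Type u} [Group X] [Finite X] (S : Sylow 2 X) {R : Subgroup X}
  (hsc : Cfsg.IsStronglyClosed R (S : Subgroup X))
  (hc : ∀ a ∈ R, ∀ b ∈ R, a * b = b * a) (he : ∀ a ∈ R, a ^ 2 = 1)
  (hself : ∀ s ∈ (S : Subgroup X), (∀ r ∈ R, s * r = r * s) → s ∈ R)
  (hfree : ∀ n ∈ normalizer (R : Set X), Odd (orderOf n) → ∀ r ∈ R, r ≠ 1 → n * r = r * n →
    ∀ r' ∈ R, n * r' = r' * n)

include hsc hc he hself hfree

/-- The centralizer of an involution of `R` has a normal `2`-complement. -/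
theorem hasNormalPComplement_centralizer {r : X} (hr : r ∈ R) (hr1 : r ≠ 1) :
    Cfsg.HasNormalPComplement 2 ↥(centralizer ({r} : Set X)) := by
  haveI : Fact (Nat.Prime 2) := ⟨Nat.prime_two⟩
  set C := centralizer ({r} : Set X)
  rw [Transfer.hasNormalPComplement_iff_frobenius]
  intro D hD g hg hgp
  have hgodd : Odd (orderOf g) := Nat.coprime_two_right.1 hgp
  -- enlarge by `r`
  let rC : C := ⟨r, mem_centralizer_singleton_iff.2 rfl⟩
  have hcen : ∀ y : C, rC * y = y * rC := fun y =>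
    Subtype.ext (mem_centralizer_singleton_iff.1 y.2).symm
  haveI : (zpowers rC).Normal := ⟨fun y hy g => by
    obtain ⟨k, rfl⟩ := mem_zpowers_iff.1 hy
    rw [show g * rC ^ k * g⁻¹ = rC ^ k by
      rw [← ((show Commute rC g from hcen g).zpow_left k).eq, mul_inv_cancel_right]]
    exact zpow_mem_zpowers _ k⟩
  have hzp : IsPGroup 2 (zpowers rC) := IsPGroup.of_card (n := 1) (by
    rw [Nat.card_zpowers, pow_one]
    refine orderOf_eq_prime (Subtype.ext (he r hr)) fun e => hr1 (congrArg Subtype.val e))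
  obtain ⟨k, hk⟩ := Invol.exists_conj_mem_sylow S (H := (D ⊔ zpowers rC).map C.subtype)
    ((hD.to_sup_of_normal_right hzp).map _)
  have kS : ∀ d : C, d ∈ D ⊔ zpowers rC → k * (d : X) * k⁻¹ ∈ (S : Subgroup X) := fun d hd =>
    hk _ ⟨d, hd, rfl⟩
  set D' := ((D ⊔ zpowers rC).map C.subtype).map (MulAut.conj k).toMonoidHom with hD'
  have hD'S : D' ≤ (S : Subgroup X) := by
    rintro _ ⟨_, ⟨d, hd, rfl⟩, rfl⟩
    exact kS d hd
  have hrD : k * r * k⁻¹ ∈ D' := ⟨r, ⟨rC, mem_sup_right (mem_zpowers _), rfl⟩, rfl⟩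
  have hr' : k * r * k⁻¹ ∈ R := hsc.2 r hr k (hD'S hrD)
  have hgD : ∀ d ∈ D ⊔ zpowers rC, g * d * g⁻¹ ∈ D ⊔ zpowers rC := by
    intro d hd
    have hle : D ⊔ zpowers rC ≤ (D ⊔ zpowers rC).comap (MulAut.conj g).toMonoidHom :=
      sup_le (fun y hy => mem_sup_left ((mem_normalizer_iff.1 hg y).1 hy))
        fun y hy => mem_sup_right (Subgroup.Normal.conj_mem inferInstance y hy g)
    exact hle hd
  set g' := k * (g : X) * k⁻¹ with hg'
  have hg'D : ∀ d ∈ D', g' * d * g'⁻¹ ∈ D' := by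
    rintro _ ⟨_, ⟨d, hd, rfl⟩, rfl⟩
    refine ⟨_, ⟨g * d * g⁻¹, hgD d hd, rfl⟩, ?_⟩
    simp [hg', mul_assoc]
  obtain ⟨n, hn, hag⟩ := Amalgam.agrees_of_stronglyClosed_abelian S
    ⟨⟨fun a b => Subtype.ext (hc a a.2 b b.2)⟩⟩ hsc D' hD'S g'⁻¹ (by
      rintro y hy
      rw [Transfer.mem_rconj] at hy
      have := hg'D _ hy
      simp only [← mul_assoc, mul_inv_cancel, inv_inv, one_mul] at this
      rw [mul_assoc, mul_inv_cancel, mul_one] at this
      exact hD'S this)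
  set m := n⁻¹ with hm
  have hmN : m ∈ normalizer (R : Set X) := inv_mem hn
  have hmg : ∀ d ∈ D', m * d * m⁻¹ = g' * d * g'⁻¹ := fun d hd => by
    have := hag d hd
    rw [inv_inv] at this
    rw [hm, inv_inv]
    exact this.symm
  have hpow : ∀ j : ℕ, ∀ d ∈ D', m ^ j * d * (m ^ j)⁻¹ = g' ^ j * d * (g' ^ j)⁻¹ ∧
      g' ^ j * d * (g' ^ j)⁻¹ ∈ D' := by
    intro j
    induction j with
    | zero => exact fun d hd => ⟨by simp, by simpa using hd⟩
    | succ j ih =>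
      intro d hd
      obtain ⟨e, hmem⟩ := ih d hd
      rw [pow_succ', pow_succ', show m * m ^ j * d * (m * m ^ j)⁻¹ = m * (m ^ j * d * (m ^ j)⁻¹) * m⁻¹ by group,
        show g' * g' ^ j * d * (g' * g' ^ j)⁻¹ = g' * (g' ^ j * d * (g' ^ j)⁻¹) * g'⁻¹ by group, e]
      exact ⟨hmg _ hmem, hg'D _ hmem⟩
  -- the odd part of `m`
  obtain ⟨e, o, ho, heo⟩ := Nat.exists_eq_two_pow_mul_odd (orderOf_pos m).ne'
  set m' := m ^ 2 ^ e with hm'
  have hm'o : Odd (orderOf m') := by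
    rw [hm', orderOf_pow_of_dvd (pow_ne_zero _ two_ne_zero) (heo ▸ dvd_mul_right _ _), heo,
      Nat.mul_div_cancel_left _ (pow_pos two_pos e)]
    exact ho
  have hm'N : m' ∈ normalizer (R : Set X) := pow_mem hmN _
  have hg'r : g' * (k * r * k⁻¹) = k * r * k⁻¹ * g' := by
    rw [hg', show k * (g : X) * k⁻¹ * (k * r * k⁻¹) = k * ((g : X) * r) * k⁻¹ by group,
      mem_centralizer_singleton_iff.1 g.2]
    group
  have hm'r : m' * (k * r * k⁻¹) = k * r * k⁻¹ * m' := by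
    have h1 := (hpow (2 ^ e) _ hrD).1
    rw [((show Commute g' (k * r * k⁻¹) from hg'r).pow_left (2 ^ e)).eq, mul_inv_cancel_right] at h1
    exact mul_inv_eq_iff_eq_mul.1 h1
  have hcR := hfree m' hm'N hm'o _ hr' (fun h => hr1 (conj_eq_one_iff.1 h)) hm'r
  have hcentral : ∀ d ∈ D', m' * d * m'⁻¹ = d := by
    intro d hd
    obtain ⟨ρ, hρ⟩ : ∃ ρ, ρ = m' * d * m'⁻¹ * d⁻¹ := ⟨_, rfl⟩
    have hdN : ∀ a ∈ R, d⁻¹ * a * d ∈ R := fun a ha => by
      have := hsc.2 a ha d⁻¹ (mul_mem (mul_mem (inv_mem (hD'S hd)) (hsc.1 ha)) (hD'S (by simpa using hd)))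
      rwa [inv_inv] at this
    have hρR : ρ ∈ R := by
      refine hself ρ ?_ fun a ha => ?_
      · rw [hρ]
        obtain ⟨e1, e2⟩ := hpow (2 ^ e) d hd
        rw [← hm'] at e1
        rw [e1]
        exact mul_mem (hD'S e2) (inv_mem (hD'S hd))
      · have h2 : d * m'⁻¹ * d⁻¹ * a = a * (d * m'⁻¹ * d⁻¹) := by
          have h3 := (show Commute m' (d⁻¹ * a * d) from hcR _ (hdN a ha)).inv_left.eq
          calc d * m'⁻¹ * d⁻¹ * a = d * (m'⁻¹ * (d⁻¹ * a * d)) * d⁻¹ := by group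
            _ = d * ((d⁻¹ * a * d) * m'⁻¹) * d⁻¹ := by rw [h3]
            _ = a * (d * m'⁻¹ * d⁻¹) := by group
        rw [hρ, show m' * d * m'⁻¹ * d⁻¹ = m' * (d * m'⁻¹ * d⁻¹) by group, mul_assoc, h2,
          ← mul_assoc, hcR a ha, mul_assoc]
    have h1 := fix_of_shift (hcR ρ hρR) (show m' * d * m'⁻¹ = ρ * d by rw [hρ]; group) (orderOf m')
    rw [pow_orderOf_eq_one, one_mul, inv_one, mul_one] at h1
    have h2 : ρ ^ orderOf m' = 1 := mul_eq_right.1 h1.symm
    obtain ⟨j, hj⟩ := hm'o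
    rw [hj, pow_succ, pow_mul, he ρ hρR, one_pow, one_mul] at h2
    rw [hρ, mul_inv_eq_one] at h2
    exact h2
  rw [mem_centralizer_iff]
  intro d hd
  have hd' : k * (d : X) * k⁻¹ ∈ D' := ⟨_, ⟨d, mem_sup_left hd, rfl⟩, rfl⟩
  have h1 := (hpow (2 ^ e) _ hd').1
  rw [← hm', hcentral _ hd', hg', conj_pow] at h1
  have h2 : Commute ((g : X) ^ 2 ^ e) (d : X) := by
    have h3 := congrArg (fun y => k⁻¹ * y * k) h1
    simp only [_root_.mul_inv_rev, inv_inv, mul_assoc, inv_mul_cancel_left, mul_inv_cancel,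
      inv_mul_cancel, mul_one] at h3
    exact mul_inv_eq_iff_eq_mul.1 (by rw [mul_assoc]; exact h3.symm)
  -- `g` has odd order
  obtain ⟨j, hj⟩ := exists_pow_eq_self_of_coprime (x := (g : X)) (n := 2 ^ e) (by
    rw [Subgroup.orderOf_coe]
    exact (hgp.pow_right e).symm)
  exact Subtype.ext (by
    have := (h2.pow_left j).eq
    rw [hj] at this
    exact this.symm)

/-- The centralizer of an involution of `R` factorises over the normalizer of `R`. -/
theorem exists_core_mul {r : X} (hr : r ∈ R) (hr1 : r ≠ 1) :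
    ∀ x ∈ centralizer ({r} : Set X),
      ∃ o ∈ Cfsg.centralizerPPrimeCore 2 r, ∃ n ∈ normalizer (R : Set X), x = o * n := by
  haveI : Fact (Nat.Prime 2) := ⟨Nat.prime_two⟩
  intro x hx
  set C := centralizer ({r} : Set X) with hC
  have hRC : R ≤ C := fun a ha => mem_centralizer_singleton_iff.2 (hc a ha r hr)
  have hRp : IsPGroup 2 (R.subgroupOf C) := fun a => ⟨1, Subtype.ext (Subtype.ext (by
    simpa using he _ a.2))⟩
  obtain ⟨T, hT⟩ := hRp.exists_le_sylow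
  obtain ⟨N, hN, hcompl⟩ := (Transfer.hasNormalPComplement_iff_exists_isComplement' T).1
    (hasNormalPComplement_centralizer S hsc hc he hself hfree hr hr1)
  obtain ⟨⟨⟨o, ho⟩, ⟨t, ht⟩⟩, hot, -⟩ := hcompl.existsUnique ⟨x, hx⟩
  have hodd : Odd (Nat.card N) := by
    rw [← hcompl.index_eq_card]
    exact not_two_dvd_iff.1 T.not_dvd_index
  refine ⟨o, mem_core_iff.2 ⟨o.2, Invol.le_oddCore hN hodd ho⟩, t, ?_,
    (congrArg Subtype.val hot).symm⟩
  obtain ⟨k, hk⟩ := Invol.exists_conj_mem_sylow S (H := (T : Subgroup C).map C.subtype) (T.2.map _)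
  have hkR : ∀ a ∈ R, k * a * k⁻¹ ∈ R := fun a ha =>
    hsc.2 a ha k (hk a ⟨⟨a, hRC ha⟩, hT ha, rfl⟩)
  refine Invol.mem_normalizer_iff_of_finite fun a ha => ?_
  have h1 : k * (t : X) * k⁻¹ ∈ (S : Subgroup X) := hk _ ⟨t, ht, rfl⟩
  have h2 := hsc.2 _ (hkR a ha) (k * (t : X) * k⁻¹)
    (mul_mem (mul_mem h1 (hsc.1 (hkR a ha))) (inv_mem h1))
  rw [show k * (t : X) * k⁻¹ * (k * a * k⁻¹) * (k * (t : X) * k⁻¹)⁻¹ =
    k * ((t : X) * a * (t : X)⁻¹) * k⁻¹ by group] at h2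
  have hkN : k ∈ normalizer (R : Set X) := Invol.mem_normalizer_iff_of_finite hkR
  exact (mem_normalizer_iff.1 hkN _).2 h2

/-- **Normality modulo the odd core.** -/
theorem normalizer_sup_oddCore_eq_top' (h8 : 2 ^ 3 ≤ Nat.card R)
    (hNS : normalizer ((S : Subgroup X) : Set X) ≤ normalizer (R : Set X))
    (hu : ∀ u ∈ (S : Subgroup X), orderOf u = 2 → u ∉ R →
      (∃ p ∈ R, ∃ q ∈ R, p ≠ 1 ∧ q ≠ 1 ∧ p ≠ q ∧ Commute u p ∧ Commute u q) ∧
      ∀ c ∈ R, c ≠ 1 → Commute u c → ∀ n ∈ normalizer (R : Set X), n * u * n⁻¹ = u →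
        n * c * n⁻¹ = c)
    (hout : ∃ u ∈ (S : Subgroup X), orderOf u = 2 ∧ u ∉ R) :
    normalizer (R : Set X) ⊔ Cfsg.oddCore X = ⊤ := by
  haveI : Fact (Nat.Prime 2) := ⟨Nat.prime_two⟩
  have hfac : ∀ r ∈ R, r ≠ 1 → ∀ x ∈ centralizer ({r} : Set X),
      ∃ o ∈ Cfsg.centralizerPPrimeCore 2 r, ∃ n ∈ normalizer (R : Set X), x = o * n :=
    fun r hr hr1 => exists_core_mul S hsc hc he hself hfree hr hr1
  have hY := odd_coreClosure hc he h8 (balanced_of_factor hc he hfac)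
  have hNY := normalizer_le_normalizer_coreClosure R
  set M := normalizer (R : Set X) ⊔ coreClosure R with hMdef
  have hCM : ∀ v ∈ R, v ≠ 1 → centralizer ({v} : Set X) ≤ M := fun v hv hv1 x hx => by
    obtain ⟨o, ho, n, hn, rfl⟩ := hfac v hv hv1 x hx
    exact mul_mem (mem_sup_right (core_le_closure hv hv1 ho)) (mem_sup_left hn)
  have hvo : ∀ v ∈ R, v ≠ 1 → orderOf v = 2 := fun v hv hv1 => orderOf_eq_prime (he v hv) hv1
  obtain ⟨v₀, hv₀, hv₀1⟩ := R.bot_or_exists_ne_one.resolve_left fun h => by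
    rw [h, card_bot] at h8; norm_num at h8
  obtain ⟨u₀, hu₀, hu₀o, hu₀R⟩ := hout
  have hM : M = ⊤ := by
    refine eq_top_of_centralizers S (fun s hs => mem_sup_left (hNS (le_normalizer hs)))
      (hNS.trans le_sup_left) (fun x hx hxo => ?_) hu₀o (hvo v₀ hv₀ hv₀1) fun hconj => ?_
    swap
    · obtain ⟨g, hg⟩ := isConj_iff.1 hconj.symm
      exact hu₀R (hg ▸ hsc.2 v₀ hv₀ g (hg ▸ hu₀))
    by_cases hxR : x ∈ R
    · exact hCM x hxR (Invol.invol_ne_one hxo)
    obtain ⟨⟨p, hp, q, hq, hp1, hq1, hpq, hpu, hqu⟩, -⟩ := hu x hx hxo hxR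
    refine centralizer_le_of_isolated (hvo p hp hp1) hpu (hvo p hp hp1) (hvo q hq hq1)
      (hc p hp q hq) hpq hpu hqu (fun g hgx hcc => ?_) fun y hy => ?_
    swap
    · rcases hy with rfl | rfl | rfl | rfl
      · exact hCM _ hp hp1
      · exact hCM _ hp hp1
      · exact hCM _ hq hq1
      · exact hCM _ (mul_mem hp hq) fun e => hpq (by
          have h := mul_eq_one_iff_eq_inv.1 e
          rw [h, Invol.invol_inv (hvo q hq hq1)])
    obtain ⟨c', hc'⟩ : ∃ c', c' = g * p * g⁻¹ := ⟨_, rfl⟩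
    rw [← hc'] at hcc ⊢
    have hgx' : g * x * g⁻¹ = x := by rw [hgx.eq, mul_inv_cancel_right]
    have hxc' : Commute x c' := by
      have := hpu.map (MulAut.conj g)
      rwa [MulAut.conj_apply, MulAut.conj_apply, hgx', ← hc'] at this
    have hc'2 : c' * c' = 1 := by rw [hc', conj_mul, ← pow_two, he p hp, mul_one, mul_inv_cancel]
    obtain ⟨k, k1, k2, k3⟩ := exists_conj_three S (Invol.invol_mul_self hxo)
      (Invol.invol_mul_self (hvo p hp hp1)) hc'2 hpu hxc' hcc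
    have hpR : k * p * k⁻¹ ∈ R := hsc.2 p hp k k2
    have hxR' : k * x * k⁻¹ ∉ R := fun h => hxR (by
      have := hsc.2 _ h k⁻¹ (by rwa [inv_inv, show k⁻¹ * (k * x * k⁻¹) * k = x by group])
      rwa [inv_inv, show k⁻¹ * (k * x * k⁻¹) * k = x by group] at this)
    set G' := k * g * k⁻¹ with hG'
    have hxg : G' * (k * x * k⁻¹) * G'⁻¹ = k * x * k⁻¹ := by
      rw [hG', show k * g * k⁻¹ * (k * x * k⁻¹) * (k * g * k⁻¹)⁻¹ = k * (g * x * g⁻¹) * k⁻¹ by group,
        hgx']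
    have hpg : G' * (k * p * k⁻¹) * G'⁻¹ = k * c' * k⁻¹ := by rw [hG', hc']; group
    obtain ⟨n, hn, hag⟩ := Amalgam.agrees_of_stronglyClosed_abelian S
      ⟨⟨fun a b => Subtype.ext (hc a a.2 b b.2)⟩⟩ hsc (closure {k * x * k⁻¹, k * p * k⁻¹})
      ((closure_le _).2 (by
        rintro a (rfl | rfl)
        · exact k1
        · exact k2)) G'⁻¹ (by
        rw [Transfer.rconj, inv_inv, MonoidHom.map_closure, closure_le]
        rintro _ ⟨a, ha, rfl⟩
        rcases ha with rfl | rfl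
        · show G' * _ * G'⁻¹ ∈ _
          rw [hxg]; exact k1
        · show G' * _ * G'⁻¹ ∈ _
          rw [hpg]; exact k3)
    have a1 := hag _ (subset_closure (Set.mem_insert _ _))
    have a2 := hag _ (subset_closure (Set.mem_insert_of_mem _ rfl))
    rw [inv_inv, hxg] at a1
    rw [inv_inv, hpg] at a2
    have h := (hu _ k1 (by rw [Invol.orderOf_conj_eq, hxo]) hxR').2 _ hpR
      (fun e => hp1 (conj_eq_one_iff.1 e))
      (by simpa using hpu.map (MulAut.conj k)) n⁻¹ (inv_mem hn) (by rw [inv_inv]; exact a1.symm)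
    rw [inv_inv, ← a2] at h
    exact (MulAut.conj k).injective h
  have hYn : (coreClosure R).Normal := by
    rw [← normalizer_eq_top_iff, eq_top_iff, ← hM, hMdef]
    exact sup_le hNY le_normalizer
  rw [eq_top_iff, ← hM, hMdef]
  exact sup_le_sup_left (Invol.le_oddCore hYn hY) _

end CfsgLib.SylHS
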