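import Cfsg.Agent.Lib.SylHS.SpFour

/-!
Orders in the normalizers of the distinguished subgroups, and fixed vectors of the four group.
-/

set_option autoImplicit false
set_option maxRecDepth 100000

namespace CfsgLib.SylHS.SpFour

theorem ctrl_twelve : (spList.all fun g => force g fun g =>
    (!Nat.beq (comp g tau) (comp tau g) &&
        !(v4.all fun t => force (comp g t) fun a => v4.any fun t' => Nat.beq a (comp t' g))) ||
      force (comp (comp g g) g) fun g3 => Nat.beq (comp (comp g3 g3) (comp g3 g3)) idc) = true := by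
  decide +kernel

theorem v4_fixed : (v4.all fun c => (List.range 16).any fun a => (List.range 16).any fun b =>
    !Nat.beq a 0 && !Nat.beq b 0 && !Nat.beq a b && Nat.beq (app c a) a && Nat.beq (app c b) b) = true := by
  decide +kernel

attribute [local irreducible] t8 v4 tau h4 five0 five1 bad spList homSlice enlarges comp comp5 extend app encode idc word

/-- An element of odd order commuting with the outer involution or normalizing the four group has
order dividing three. -/
theorem pow_three_of_odd {g : Equiv.Perm (Fin 16)} (hg : IsSp g) (hodd : Odd (orderOf g))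
    (h : (∀ t, cd t = tau → g * t = t * g) ∧ (∃ t, cd t = tau) ∨
      ∀ c ∈ v4, ∃ t, cd t = c ∧ ∃ c' ∈ v4, ∃ t', cd t' = c' ∧ g * t = t' * g) :
    g * g * g = 1 := by
  have hc := List.all_eq_true.1 ctrl_twelve _ (mem_spList hg)
  simp only [force_eq, Bool.or_eq_true, Bool.and_eq_true, beq_iff, Bool.not_eq_true', beq_false_iff] at hc
  rcases hc with ⟨hc1, hc2⟩ | hc
  · exfalso
    rcases h with ⟨h, t, ht⟩ | h
    · exact hc1 (by rw [← ht, ← cd_mul, ← cd_mul, h t ht])
    · refine Bool.eq_false_iff.1 hc2 (List.all_eq_true.2 fun c hc => ?_)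
      obtain ⟨t, ht, c', hc', t', ht', e⟩ := h c hc
      exact List.any_eq_true.2 ⟨c', hc', beq_iff.2 (by rw [← ht, ← ht', ← cd_mul, ← cd_mul, e])⟩
  · simp only [← cd_mul, ← cd_one] at hc
    have h3 : orderOf (g * g * g) = 1 := by
      refine Nat.eq_one_of_dvd_coprimes (a := orderOf g) (b := 2 ^ 2)
        (Nat.Coprime.pow_right 2 (Nat.coprime_two_right.2 hodd)) ?_ ?_
      · rw [show g * g * g = g ^ 3 by rw [pow_succ, pow_two]]
        exact orderOf_pow_dvd 3
      · exact orderOf_dvd_of_pow_eq_one (by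
          rw [show (2 : ℕ) ^ 2 = 2 + 2 by norm_num, pow_add, pow_two]
          exact cd_inj hc)
    exact orderOf_eq_one_iff.1 h3

/-- The elements of the four group fix two nonzero vectors. -/
theorem exists_two_fixed {t : Equiv.Perm (Fin 16)} (ht : cd t ∈ v4) :
    ∃ a b : Fin 16, a ≠ 0 ∧ b ≠ 0 ∧ a ≠ b ∧ t a = a ∧ t b = b := by
  have h := List.all_eq_true.1 v4_fixed _ ht
  simp only [List.any_eq_true, List.mem_range, Bool.and_eq_true, Bool.not_eq_true', beq_iff,
    beq_false_iff] at h
  obtain ⟨a, ha, b, hb, ⟨⟨⟨h0a, h0b⟩, hab⟩, hfa⟩, hfb⟩ := h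
  refine ⟨⟨a, ha⟩, ⟨b, hb⟩, fun e => h0a (congrArg Fin.val e), fun e => h0b (congrArg Fin.val e),
    fun e => hab (congrArg Fin.val e), Fin.ext ?_, Fin.ext ?_⟩
  · exact (app_cd t ⟨a, ha⟩).symm.trans hfa
  · exact (app_cd t ⟨b, hb⟩).symm.trans hfb

end CfsgLib.SylHS.SpFour
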