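import Cfsg.Agent.Lib.SylHS.TableFacts
import Cfsg.Agent.Lib.SylHS.NormalR
import Cfsg.Agent.Lib.SylHS.SpOdd

/-!
The action of the normalizer of the central product on the sixteen vectors of its quotient by the
centre.
-/

set_option autoImplicit false
set_option maxRecDepth 100000
set_option linter.style.haveILetI false
set_option linter.unusedSectionVars false

namespace CfsgLib.SylHS

open Subgroup

universe u

variable {G : Type u} [Group G] [Finite G] {T : Subgroup G} (F : Frame T)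

namespace Frame

theorem closed_r : closedOK rMask = true := by decide +kernel

theorem closed_c : closedOK cMask = true := by decide +kernel

theorem mem_subR {x : G} : x ∈ F.subR ↔ ∃ d ∈ elems rMask, F.p d = x := by
  rw [← SetLike.mem_coe, subR, F.coe_sub closed_r]
  exact ⟨fun ⟨d, hd, hm, e⟩ => ⟨d, mem_elems.2 ⟨hd, hm⟩, e⟩,
    fun ⟨d, hd, e⟩ => ⟨d, (mem_elems.1 hd).1, (mem_elems.1 hd).2, e⟩⟩

theorem mem_subC {x : G} : x ∈ F.subC ↔ ∃ d ∈ elems cMask, F.p d = x := by
  rw [← SetLike.mem_coe, subC, F.coe_sub closed_c]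
  exact ⟨fun ⟨d, hd, hm, e⟩ => ⟨d, mem_elems.2 ⟨hd, hm⟩, e⟩,
    fun ⟨d, hd, e⟩ => ⟨d, (mem_elems.1 hd).1, (mem_elems.1 hd).2, e⟩⟩

/-- The only involution of the centre of the central product. -/
theorem eq_z_of_sq {x : G} (hx : x ∈ F.subC) (h2 : x * x = 1) (h1 : x ≠ 1) : x = F.z := by
  obtain ⟨d, hd, rfl⟩ := F.mem_subC.1 hx
  have hlt := (mem_elems.1 hd).1
  have h : ((elems cMask).all fun d => !Nat.beq (mt d d) 0 || Nat.beq d 0 || Nat.beq d zIdx) = true := by
    decide +kernel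
  have h' := List.all_eq_true.1 h d hd
  rw [F.mul d hlt d hlt, F.eq_one_iff (mt_lt d d)] at h2
  simp only [Bool.or_eq_true, Bool.not_eq_true', SpFour.beq_iff, SpFour.beq_false_iff] at h'
  rcases h' with (h' | h') | h'
  · exact absurd h2 h'
  · exact absurd ((F.eq_one_iff hlt).2 h') h1
  · rw [h']; rfl

theorem z_conj {n : G} (hn : n ∈ normalizer (F.subC : Set G)) (hz : F.z ∈ F.subC) :
    n * F.z * n⁻¹ = F.z :=
  F.eq_z_of_sq ((mem_normalizer_iff.1 hn _).1 hz) (by rw [conj_mul, F.z_sq, mul_one, mul_inv_cancel])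
    fun e => F.z_ne_one (conj_eq_one_iff.1 e)

/-- Elements of odd order modulo the centralizer centralize the centre. -/
theorem commute_C_of_odd {n : G} (hn : n ∈ normalizer (F.subC : Set G)) (hz : F.z ∈ F.subC) {o : ℕ}
    (ho : Odd o) (hpow : ∀ x ∈ F.subC, n ^ o * x = x * n ^ o) : ∀ x ∈ F.subC, n * x = x * n := by
  intro x hx
  have hx' : n * x * n⁻¹ ∈ F.subC := (mem_normalizer_iff.1 hn _).1 hx
  obtain ⟨ρ, hρ⟩ : ∃ ρ, ρ = n * x * n⁻¹ * x⁻¹ := ⟨_, rfl⟩
  have hρ1 : ρ = 1 ∨ ρ = F.z := by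
    by_cases hx2 : x * x = 1
    · by_cases hx1 : x = 1
      · left; rw [hρ, hx1]; group
      · left; rw [hρ, F.eq_z_of_sq hx hx2 hx1, F.z_conj hn hz, mul_inv_cancel]
    · obtain ⟨d, hd, rfl⟩ := F.mem_subC.1 hx
      obtain ⟨e, he, hee⟩ := F.mem_subC.1 hx'
      have hdl := (mem_elems.1 hd).1
      have hel := (mem_elems.1 he).1
      have h : ((elems cMask).all fun d => (elems cMask).all fun e =>
          Nat.beq (mt d d) 0 || Nat.beq (mt e e) 0 || Nat.beq e d || Nat.beq e (mt zIdx d)) = true := by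
        decide +kernel
      have h' := List.all_eq_true.1 (List.all_eq_true.1 h d hd) e he
      simp only [Bool.or_eq_true, SpFour.beq_iff] at h'
      rcases h' with ((h' | h') | h') | h'
      · exact absurd (by rw [F.mul d hdl d hdl, h', F.p_zero]) hx2
      · refine absurd ?_ hx2
        have : F.p e * F.p e = 1 := by rw [F.mul e hel e hel, h', F.p_zero]
        rw [hee, conj_mul] at this
        exact conj_eq_one_iff.1 this
      · left; rw [hρ, ← hee, h', mul_inv_cancel]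
      · right
        rw [hρ, ← hee, h', ← F.mul _ (by decide) d hdl, mul_inv_cancel_right]
        rfl
  have hnρ : n * ρ = ρ * n := by
    rcases hρ1 with e | e <;> rw [e]
    · rw [mul_one, one_mul]
    · exact mul_inv_eq_iff_eq_mul.1 (F.z_conj hn hz)
  have h2 : ρ * ρ = 1 := by
    rcases hρ1 with e | e <;> rw [e]
    · exact mul_one 1
    · exact F.z_sq
  have hs : n * x * n⁻¹ = ρ * x := by rw [hρ, inv_mul_cancel_right]
  have h := fix_of_shift hnρ hs o
  rw [hpow x hx, mul_inv_cancel_right, right_eq_mul] at h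
  obtain ⟨k, rfl⟩ := ho
  rw [pow_succ, pow_mul, pow_two, h2, one_pow, one_mul] at h
  rw [h, one_mul] at hs
  exact mul_inv_eq_iff_eq_mul.1 hs

variable (hT : TableFacts F) (hS : SpFacts F)
include hT

theorem normalizer_R_le : normalizer (F.subR : Set G) ≤ normalizer (F.subC : Set G) := by
  intro n hn
  refine Subgroup.mem_normalizer_fintype fun c hc => ?_
  have hR : n * c * n⁻¹ ∈ F.subR := (mem_normalizer_iff.1 hn c).1 (hT.C_le_R hc)
  refine hT.cent_R _ (F.sub_le _ hR) fun r hr => ?_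
  have hr' : n⁻¹ * r * n ∈ F.subR := by
    have := (mem_normalizer_iff.1 (inv_mem hn) r).1 hr
    rwa [inv_inv] at this
  calc n * c * n⁻¹ * r = n * (c * (n⁻¹ * r * n)) * n⁻¹ := by group
    _ = n * ((n⁻¹ * r * n) * c) * n⁻¹ := by rw [hT.C_central c hc _ hr']
    _ = r * (n * c * n⁻¹) := by group

theorem normalizer_C_le : normalizer (F.subC : Set G) ≤ centralizer ({F.z} : Set G) := fun _ hn =>
  mem_centralizer_singleton_iff.2 (mul_inv_eq_iff_eq_mul.1 (F.z_conj hn hT.z_mem_C))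

theorem T_le_normalizer_R : T ≤ normalizer (F.subR : Set G) := fun s hs =>
  Subgroup.mem_normalizer_fintype fun x hx => hT.conj_R s hs x hx

include hS

/-- The vector of an element of the central product. -/
noncomputable def vecN (_hT : TableFacts F) (_hS : SpFacts F) (x : G) : ℕ :=
  letI := Classical.dec (∃ d ∈ elems rMask, F.p d = x)
  if h : ∃ d ∈ elems rMask, F.p d = x then rVec h.choose else 0

theorem vecN_p {d : ℕ} (hd : d ∈ elems rMask) : F.vecN hT hS (F.p d) = rVec d := by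
  have h : ∃ e ∈ elems rMask, F.p e = F.p d := ⟨d, hd, rfl⟩
  unfold vecN
  rw [dif_pos h]
  exact congrArg rVec (F.inj _ (mem_elems.1 h.choose_spec.1).1 _ (mem_elems.1 hd).1 h.choose_spec.2)

theorem vecN_lt (x : G) : F.vecN hT hS x < 16 := by
  unfold vecN
  split
  next h => exact hS.vec_lt _ h.choose_spec.1
  next => norm_num

theorem vecN_mul {x y : G} (hx : x ∈ F.subR) (hy : y ∈ F.subR) :
    F.vecN hT hS (x * y) = F.vecN hT hS x ^^^ F.vecN hT hS y := by
  have hxy := mul_mem hx hy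
  obtain ⟨a, ha, rfl⟩ := F.mem_subR.1 hx
  obtain ⟨b, hb, rfl⟩ := F.mem_subR.1 hy
  obtain ⟨c, hc, e⟩ := F.mem_subR.1 hxy
  rw [← e, F.vecN_p hT hS ha, F.vecN_p hT hS hb, F.vecN_p hT hS hc, ← hS.vec_mul a ha b hb]
  rw [F.mul a (mem_elems.1 ha).1 b (mem_elems.1 hb).1] at e
  exact congrArg rVec (F.inj _ (mem_elems.1 hc).1 _ (mt_lt a b) e)

theorem vecN_eq_zero {x : G} (hx : x ∈ F.subR) : F.vecN hT hS x = 0 ↔ x ∈ F.subC := by
  obtain ⟨a, ha, rfl⟩ := F.mem_subR.1 hx
  rw [F.vecN_p hT hS ha, hS.vec_zero a ha, subC, F.mem_sub closed_c (mem_elems.1 ha).1]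

theorem vecN_eq_iff {x y : G} (hx : x ∈ F.subR) (hy : y ∈ F.subR) :
    F.vecN hT hS x = F.vecN hT hS y ↔ x * y ∈ F.subC := by
  rw [← F.vecN_eq_zero hT hS (mul_mem hx hy), F.vecN_mul hT hS hx hy, Nat.xor_eq_zero_iff]

/-- The representative of a vector. -/
def rep (_hT : TableFacts F) (_hS : SpFacts F) (v : Fin 16) : G := F.p (rVal v.val)

theorem rep_mem (v : Fin 16) : F.rep hT hS v ∈ F.subR := by
  obtain ⟨h1, h2, -⟩ := hS.val_spec v v.isLt
  exact F.mem_subR.2 ⟨_, mem_elems.2 ⟨h2, h1⟩, rfl⟩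

theorem vecN_rep (v : Fin 16) : F.vecN hT hS (F.rep hT hS v) = v := by
  obtain ⟨h1, h2, h3⟩ := hS.val_spec v v.isLt
  rw [rep, F.vecN_p hT hS (mem_elems.2 ⟨h2, h1⟩), h3]

/-- The vector as a point. -/
noncomputable def vec (x : G) : Fin 16 := ⟨F.vecN hT hS x, F.vecN_lt hT hS x⟩

theorem vec_rep (v : Fin 16) : F.vec hT hS (F.rep hT hS v) = v := Fin.ext (F.vecN_rep hT hS v)

theorem conj_R_mem {n x : G} (hn : n ∈ normalizer (F.subR : Set G)) (hx : x ∈ F.subR) :
    n * x * n⁻¹ ∈ F.subR := (mem_normalizer_iff.1 hn x).1 hx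

/-- The action is well defined on the vectors. -/
theorem vec_conj_congr {n x y : G} (hn : n ∈ normalizer (F.subR : Set G)) (hx : x ∈ F.subR)
    (hy : y ∈ F.subR) (h : F.vec hT hS x = F.vec hT hS y) :
    F.vec hT hS (n * x * n⁻¹) = F.vec hT hS (n * y * n⁻¹) := by
  refine Fin.ext ((F.vecN_eq_iff hT hS (F.conj_R_mem hT hS hn hx) (F.conj_R_mem hT hS hn hy)).2 ?_)
  rw [conj_mul]
  exact (mem_normalizer_iff.1 (F.normalizer_R_le hT hn) _).1
    ((F.vecN_eq_iff hT hS hx hy).1 (congrArg Fin.val h))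

/-- The action of the normalizer on the vectors. -/
noncomputable def act : normalizer (F.subR : Set G) →* Equiv.Perm (Fin 16) :=
  haveI key : ∀ (m n : normalizer (F.subR : Set G)) (v : Fin 16),
      F.vec hT hS ((m : G) * F.rep hT hS (F.vec hT hS (n * F.rep hT hS v * (n : G)⁻¹)) * (m : G)⁻¹) =
        F.vec hT hS ((m * n : normalizer (F.subR : Set G)) * F.rep hT hS v *
          ((m * n : normalizer (F.subR : Set G)) : G)⁻¹) := fun m n v => by
    rw [F.vec_conj_congr hT hS m.2 (F.rep_mem hT hS _)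
      (F.conj_R_mem hT hS n.2 (F.rep_mem hT hS v)) (F.vec_rep hT hS _)]
    congr 1
    push_cast
    group
  MonoidHom.mk'
    (fun n =>
      { toFun := fun v => F.vec hT hS (n * F.rep hT hS v * (n : G)⁻¹)
        invFun := fun v => F.vec hT hS ((n⁻¹ : normalizer (F.subR : Set G)) * F.rep hT hS v *
          ((n⁻¹ : normalizer (F.subR : Set G)) : G)⁻¹)
        left_inv := fun v => by
          refine (key n⁻¹ n v).trans ?_
          rw [inv_mul_cancel, OneMemClass.coe_one, one_mul, inv_one, mul_one, F.vec_rep]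
        right_inv := fun v => by
          refine (key n n⁻¹ v).trans ?_
          rw [mul_inv_cancel, OneMemClass.coe_one, one_mul, inv_one, mul_one, F.vec_rep] })
    fun m n => Equiv.ext fun v => (key m n v).symm

theorem act_apply (n : normalizer (F.subR : Set G)) {x : G} (hx : x ∈ F.subR) :
    F.act hT hS n (F.vec hT hS x) = F.vec hT hS (n * x * (n : G)⁻¹) :=
  F.vec_conj_congr hT hS n.2 (F.rep_mem hT hS _) hx (F.vec_rep hT hS _)

theorem isSp (n : normalizer (F.subR : Set G)) : SpFour.IsSp (F.act hT hS n) := by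
  refine ⟨fun a b c hc => ?_, fun a b => ?_⟩
  · have ha := F.rep_mem hT hS a
    have hb := F.rep_mem hT hS b
    have hab : F.vec hT hS (F.rep hT hS a * F.rep hT hS b) = c := Fin.ext (by
      show F.vecN hT hS _ = _
      rw [F.vecN_mul hT hS ha hb, F.vecN_rep hT hS, F.vecN_rep hT hS, hc])
    rw [← hab, F.act_apply hT hS n (mul_mem ha hb)]
    show F.vecN hT hS _ = _
    rw [show (n : G) * (F.rep hT hS a * F.rep hT hS b) * (n : G)⁻¹ =
      ((n : G) * F.rep hT hS a * (n : G)⁻¹) * ((n : G) * F.rep hT hS b * (n : G)⁻¹) from (conj_mul).symm,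
      F.vecN_mul hT hS (F.conj_R_mem hT hS n.2 ha) (F.conj_R_mem hT hS n.2 hb)]
    rfl
  -- the form is read off the commutators
  have key : ∀ x ∈ F.subR, ∀ y ∈ F.subR,
      (SpFour.form (F.vecN hT hS x) (F.vecN hT hS y) = true ↔ x * y ≠ y * x) := by
    intro x hx y hy
    obtain ⟨d, hd, rfl⟩ := F.mem_subR.1 hx
    obtain ⟨e, he, rfl⟩ := F.mem_subR.1 hy
    have hdl := (mem_elems.1 hd).1
    have hel := (mem_elems.1 he).1
    rw [F.vecN_p hT hS hd, F.vecN_p hT hS he, ← not_iff_not, Bool.not_eq_true, not_not,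
      ← mul_inv_eq_iff_eq_mul, F.p_conj hdl hel]
    have hc := hS.vec_comm d hd e he
    cases hf : SpFour.form (rVec d) (rVec e)
    · exact ⟨fun _ => by rw [hc.2 hf], fun _ => rfl⟩
    · refine iff_of_false (by simp) fun h => F.z_ne_one ?_
      rw [hc.1 hf, ← F.mul e hel zIdx (by decide)] at h
      exact mul_eq_left.1 h
  have h1 := key _ (F.conj_R_mem hT hS n.2 (F.rep_mem hT hS a)) _ (F.conj_R_mem hT hS n.2 (F.rep_mem hT hS b))
  have h2 := key _ (F.rep_mem hT hS a) _ (F.rep_mem hT hS b)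
  rw [F.vecN_rep hT hS, F.vecN_rep hT hS] at h2
  refine Bool.eq_iff_iff.2 ?_
  show SpFour.form (F.vecN hT hS _) (F.vecN hT hS _) = true ↔ _
  rw [h1, h2, not_iff_not, conj_mul, conj_mul, mul_left_inj, mul_right_inj]

theorem act_eq_one_iff (n : normalizer (F.subR : Set G)) :
    F.act hT hS n = 1 ↔ ∀ r ∈ F.subR, (n : G) * r * (n : G)⁻¹ * r⁻¹ ∈ F.subC := by
  refine ⟨fun h r hr => ?_, fun h => Equiv.ext fun v => ?_⟩
  · have e := F.act_apply hT hS n hr
    rw [h, Equiv.Perm.coe_one, id_eq] at e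
    refine (F.vecN_eq_iff hT hS (F.conj_R_mem hT hS n.2 hr) (inv_mem hr)).1 ?_
    rw [show F.vecN hT hS ((n : G) * r * (n : G)⁻¹) = F.vecN hT hS r from (congrArg Fin.val e).symm,
      ← Nat.xor_eq_zero_iff, ← F.vecN_mul hT hS hr (inv_mem hr), mul_inv_cancel,
      F.vecN_eq_zero hT hS (one_mem _)]
    exact one_mem _
  · have hv := F.rep_mem hT hS v
    have e := F.act_apply hT hS n hv
    rw [F.vec_rep] at e
    rw [e, Equiv.Perm.coe_one, id_eq]
    conv_rhs => rw [← F.vec_rep hT hS v]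
    have h1 := (F.vecN_eq_zero hT hS (mul_mem (F.conj_R_mem hT hS n.2 hv) (inv_mem hv))).2 (h _ hv)
    rw [F.vecN_mul hT hS (F.conj_R_mem hT hS n.2 hv) (inv_mem hv), Nat.xor_eq_zero_iff] at h1
    have h2 := F.vecN_mul hT hS hv (inv_mem hv)
    rw [mul_inv_cancel, (F.vecN_eq_zero hT hS (one_mem _)).2 (one_mem _)] at h2
    exact Fin.ext (h1.trans (Nat.xor_eq_zero_iff.1 h2.symm).symm)

theorem act_eq_one_of_mem {n : normalizer (F.subR : Set G)} (hn : (n : G) ∈ F.subR) :
    F.act hT hS n = 1 := by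
  refine (F.act_eq_one_iff hT hS n).2 fun r hr => ?_
  obtain ⟨d, hd, hde⟩ := F.mem_subR.1 hn
  obtain ⟨e, he, rfl⟩ := F.mem_subR.1 hr
  have hel := (mem_elems.1 he).1
  rw [← hde, F.p_conj (mem_elems.1 hd).1 hel]
  have hc := hS.vec_comm d hd e he
  cases hf : SpFour.form (rVec d) (rVec e)
  · rw [hc.2 hf, mul_inv_cancel]; exact one_mem _
  · rw [hc.1 hf, ← F.mul e hel zIdx (by decide), show F.p zIdx = F.z from rfl,
      F.z_central (F.p_mem e hel), mul_inv_cancel_right]
    exact hT.z_mem_C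

theorem cd_act {s : ℕ} (hs : s < 512) (hn : F.p s ∈ normalizer (F.subR : Set G)) :
    SpFour.cd (F.act hT hS ⟨F.p s, hn⟩) = actCode s := by
  refine SpFour.encode_congr fun v hv => ?_
  obtain ⟨h1, h2, -⟩ := hS.val_spec v hv
  have hcj : F.p (cj s (rVal v)) ∈ F.subR := by
    rw [← F.p_conj hs h2]
    exact F.conj_R_mem hT hS hn (F.mem_subR.2 ⟨_, mem_elems.2 ⟨h2, h1⟩, rfl⟩)
  have hel : cj s (rVal v) ∈ elems rMask := by
    obtain ⟨d, hd, e⟩ := F.mem_subR.1 hcj
    rwa [← F.inj _ (mem_elems.1 hd).1 _ (cj_lt s _) e]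
  show F.vecN hT hS (F.p s * F.p (rVal ((Fin.ofNat 16 v).val)) * (F.p s)⁻¹) = _
  rw [show ((Fin.ofNat 16 v).val) = v from Nat.mod_eq_of_lt hv, F.p_conj hs h2,
    F.vecN_p hT hS hel]

/-- An element of odd order acting trivially on the vectors centralizes the central product. -/
theorem commute_R_of_odd {n : normalizer (F.subR : Set G)} (hodd : Odd (orderOf (n : G)))
    (h : F.act hT hS n = 1) : ∀ r ∈ F.subR, (n : G) * r = r * n := by
  intro r hr
  have hρ := (F.act_eq_one_iff hT hS n).1 h r hr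
  have hnC := F.commute_C_of_odd (F.normalizer_R_le hT n.2) hT.z_mem_C hodd fun x _ => by
    rw [pow_orderOf_eq_one, one_mul, mul_one]
  have hs := fix_of_shift (hnC _ hρ) (show (n : G) * r * (n : G)⁻¹ = _ * r from
    (inv_mul_cancel_right _ r).symm) (orderOf (n : G))
  rw [pow_orderOf_eq_one, one_mul, inv_one, mul_one, right_eq_mul] at hs
  obtain ⟨k, hk⟩ := F.isPGroup ⟨_, F.sub_le _ hρ⟩
  have h1 := orderOf_eq_one_iff.1 (Nat.eq_one_of_dvd_coprimes
    (Nat.Coprime.pow_right k (Nat.coprime_two_right.2 hodd)) (orderOf_dvd_of_pow_eq_one hs)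
    (orderOf_dvd_of_pow_eq_one (by simpa using congrArg Subtype.val hk)))
  rw [mul_inv_eq_one] at h1
  exact mul_inv_eq_iff_eq_mul.1 h1

end Frame

end CfsgLib.SylHS
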