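import Cfsg.Agent.Lib.SylHS.StepAB
import Cfsg.Agent.Lib.SylHS.RAct
import Cfsg.Agent.Lib.SylHS.CandA
import Cfsg.Agent.Lib.SylHS.ClosedQ

/-!
Fusion in the centralizer of the central involution is controlled by the normalizer of the central
product; the group induced on its quotient by the centre.
-/

set_option autoImplicit false
set_option maxRecDepth 100000
set_option linter.style.haveILetI false
set_option linter.unusedSectionVars false

namespace CfsgLib.SylHS

open Subgroup CfsgLib.Fusion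

universe u

/-- The table facts hold for every frame. -/
def AllFacts : Prop :=
  ∀ (G : Type u) [Group G] [Finite G] (T : Subgroup G) (F : Frame T), TableFacts F

/-- The frame in a subgroup containing the Sylow subgroup. -/
noncomputable def Frame.inSub {G : Type u} [Group G] {T : Subgroup G} (F : Frame T) (H : Subgroup G)
    (hTH : T ≤ H) : Frame (T.subgroupOf H) where
  p d := if h : d < 512 then ⟨F.p d, hTH (F.p_mem d h)⟩ else 1
  p_mem d hd := by rw [dif_pos hd]; exact F.p_mem d hd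
  surj x hx := by
    obtain ⟨d, hd, e⟩ := F.surj _ hx
    exact ⟨d, hd, by rw [dif_pos hd]; exact Subtype.ext e⟩
  inj a ha b hb e := by
    rw [dif_pos ha, dif_pos hb] at e
    exact F.inj a ha b hb (congrArg Subtype.val e)
  mul a ha b hb := by
    rw [dif_pos ha, dif_pos hb, dif_pos (mt_lt a b)]
    exact Subtype.ext (F.mul a ha b hb)

theorem Frame.inSub_p {G : Type u} [Group G] {T : Subgroup G} (F : Frame T) {H : Subgroup G}
    (hTH : T ≤ H) {d : ℕ} (hd : d < 512) : (((F.inSub H hTH).p d : H) : G) = F.p d := by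
  show ((dite _ _ _ : H) : G) = _
  rw [dif_pos hd]

theorem Frame.mem_inSub {G : Type u} [Group G] {T : Subgroup G} (F : Frame T) {H : Subgroup G}
    (hTH : T ≤ H) {m : ℕ} {x : H} : x ∈ (F.inSub H hTH).sub m ↔ (x : G) ∈ F.sub m := by
  have h : ((F.inSub H hTH).sub m).map H.subtype = F.sub m := by
    rw [Frame.sub, Frame.sub, MonoidHom.map_closure]
    congr 1
    ext y
    constructor
    · rintro ⟨_, ⟨d, hd, hm, rfl⟩, rfl⟩
      exact ⟨d, hd, hm, (F.inSub_p hTH hd).symm⟩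
    · rintro ⟨d, hd, hm, rfl⟩
      exact ⟨_, ⟨d, hd, hm, rfl⟩, F.inSub_p hTH hd⟩
  rw [← h]
  exact (mem_map_iff_mem H.subtype_injective).symm

theorem Frame.inSub_z {G : Type u} [Group G] {T : Subgroup G} (F : Frame T) {H : Subgroup G}
    (hTH : T ≤ H) : ((F.inSub H hTH).z : G) = F.z := F.inSub_p hTH (by decide)

variable {G : Type u} [Group G] [Finite G] (S : Sylow 2 G) (F : Frame (S : Subgroup G))

theorem S_le_H : (S : Subgroup G) ≤ centralizer ({F.z} : Set G) := fun _ hs =>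
  mem_centralizer_singleton_iff.2 (F.z_central hs)

variable (hA : AllFacts.{u})
include hA

theorem hcand_of {X : Type u} [Group X] [Finite X] (W : Sylow 2 X) (F' : Frame (W : Subgroup X)) :
    HasCandidates (fus W) 2 F'.cands :=
  haveI : Fact (Nat.Prime 2) := ⟨Nat.prime_two⟩
  F'.hasCandidates3 (group_isSaturated W)

/-- In the centralizer the last candidate does not move. -/
theorem not_moves_U {X : Type u} [Group X] [Finite X] (W : Sylow 2 X) (F' : Frame (W : Subgroup X))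
    (hz : ∀ x : X, x * F'.z = F'.z * x) : ¬ Moves W F'.subU := by
  intro h
  obtain ⟨α, hα1, hαo, a, -, hax⟩ :=
    exists_odd_aut W F' (hA _ _ F') (hcand_of hA W F') (P := F'.subU) (F'.sub_le _) h
  refine hα1 ((hA _ _ F').autU_z α hαo fun x hx => ?_)
  rw [hax x, hx, hz a, mul_inv_cancel_right]

theorem inSub_central {H : Subgroup G} (hSH : (S : Subgroup G) ≤ H)
    (hH : H ≤ centralizer ({F.z} : Set G)) (x : H) :
    x * (F.inSub H hSH).z = (F.inSub H hSH).z * x := by
  refine Subtype.ext ?_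
  rw [coe_mul, coe_mul, F.inSub_z]
  exact mem_centralizer_singleton_iff.1 (hH x.2)

/-- The normalizer of the central product controls fusion in the centralizer. -/
theorem exists_normalizing_R {D : Subgroup G} (hD : D ≤ (S : Subgroup G)) {g : G}
    (hg : g ∈ centralizer ({F.z} : Set G)) (hgD : ∀ d ∈ D, g * d * g⁻¹ ∈ (S : Subgroup G)) :
    ∃ n ∈ normalizer (F.subR : Set G), ∀ d ∈ D, n * d * n⁻¹ = g * d * g⁻¹ := by
  set H := centralizer ({F.z} : Set G)
  have hSH := S_le_H S F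
  let W : Sylow 2 H := S.subtype hSH
  let F' : Frame (W : Subgroup H) := F.inSub H hSH
  have hT' := hA _ _ F'
  have hRW : F'.subR ≤ (W : Subgroup H) := F'.sub_le _
  obtain ⟨n, hn, hag⟩ := exists_normalizing W F' hT' (hcand_of hA W F') hRW hT'.conj_R
    (fun i hmv => by
      fin_cases i
      · exact ⟨hT'.P_inf_Q ▸ inf_le_left, fun α _ _ => hT'.autP_R α⟩
      · exact ⟨hT'.R_le_Q, fun α _ ho => hT'.autQ_R α ho⟩
      · exact absurd hmv (not_moves_U hA W F' (inSub_central S F hA hSH le_rfl)))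
    (D := D.subgroupOf H) (fun x hx => hD hx) (g := ⟨g, hg⟩) (fun d hd => hgD d hd)
  refine ⟨n, Subgroup.mem_normalizer_fintype fun x hx => ?_, fun d hd => ?_⟩
  · have hxH : x ∈ H := hSH (F.sub_le _ hx)
    exact (F.mem_inSub hSH).1 ((mem_normalizer_iff.1 hn ⟨x, hxH⟩).1 ((F.mem_inSub hSH).2 hx))
  · exact congrArg Subtype.val (hag ⟨d, hSH (hD hd)⟩ hd)

/-- The central product is strongly closed in the centralizer. -/
theorem closed_R {g x : G} (hg : g ∈ centralizer ({F.z} : Set G)) (hx : x ∈ F.subR)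
    (hgx : g * x * g⁻¹ ∈ (S : Subgroup G)) : g * x * g⁻¹ ∈ F.subR := by
  obtain ⟨n, hn, h⟩ := exists_normalizing_R S F hA (D := zpowers x)
    (zpowers_le.2 (F.sub_le _ hx)) hg fun d hd => by
      obtain ⟨k, rfl⟩ := mem_zpowers_iff.1 hd
      rw [← conj_zpow]
      exact zpow_mem hgx k
  rw [← h x (mem_zpowers x)]
  exact (mem_normalizer_iff.1 hn x).1 hx

/-- The centre of the central product is strongly closed in the centralizer. -/
theorem closed_C {g x : G} (hg : g ∈ centralizer ({F.z} : Set G)) (hx : x ∈ F.subC)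
    (hgx : g * x * g⁻¹ ∈ (S : Subgroup G)) : g * x * g⁻¹ ∈ F.subC := by
  obtain ⟨n, hn, h⟩ := exists_normalizing_R S F hA (D := zpowers x)
    (zpowers_le.2 (F.sub_le _ hx)) hg fun d hd => by
      obtain ⟨k, rfl⟩ := mem_zpowers_iff.1 hd
      rw [← conj_zpow]
      exact zpow_mem hgx k
  rw [← h x (mem_zpowers x)]
  exact (mem_normalizer_iff.1 (F.normalizer_R_le (hA _ _ F) hn) x).1 hx

/-- The first candidate of order 256 is strongly closed in the centralizer. -/
theorem closed_Q {g x : G} (hg : g ∈ centralizer ({F.z} : Set G)) (hx : x ∈ F.subQ)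
    (hgx : g * x * g⁻¹ ∈ (S : Subgroup G)) : g * x * g⁻¹ ∈ F.subQ := by
  set H := centralizer ({F.z} : Set G)
  have hSH := S_le_H S F
  let W : Sylow 2 H := S.subtype hSH
  let F' : Frame (W : Subgroup H) := F.inSub H hSH
  have hT' := hA _ _ F'
  have hxS : x ∈ (S : Subgroup G) := F.sub_le _ hx
  refine (F.mem_inSub hSH).1 ((fusion_iff W F' hT' (hcand_of hA W F') (F'.subQ : Set H)
    (conj_mem_iff W F' hT' (hcand_of hA W F') (conj_of_index_two W F' hT' (F'.sub_le _) hT'.index_Q))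
    (fun i hmv α _ _ y hy => by
      fin_cases i
      · have hR : (y : H) ∈ F'.subR := hT'.P_inf_Q ▸ ⟨y.2, hy⟩
        exact hT'.R_le_Q (hT'.autP_R α y hR)
      · exact (α y).2
      · exact absurd hmv (not_moves_U hA W F' (inSub_central S F hA hSH le_rfl)))
    (g := ⟨g, hg⟩) (x := ⟨x, hSH hxS⟩) hxS hgx).2 ((F.mem_inSub hSH).2 hx))

variable (hS : SpFacts F)
include hS

/-- The induced group on the vectors. -/
noncomputable def spGrp (_hA : AllFacts.{u}) (_hS : SpFacts F) : Subgroup (Equiv.Perm (Fin 16)) :=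
  (F.act (_hA G (S : Subgroup G) F) _hS).range

theorem isSp_spGrp : ∀ g ∈ spGrp S F hA hS, SpFour.IsSp g := by
  rintro _ ⟨n, rfl⟩; exact F.isSp _ _ n

theorem t8_spGrp : ∀ c ∈ SpFour.t8, ∃ g ∈ spGrp S F hA hS, SpFour.cd g = c := fun c hc => by
  obtain ⟨s, hs, rfl⟩ := hS.act_onto c hc
  exact ⟨_, ⟨⟨F.p s, F.T_le_normalizer_R (hA _ _ F) (F.p_mem s hs)⟩, rfl⟩, F.cd_act _ _ hs _⟩

theorem not_dvd_spGrp : ¬ 16 ∣ Nat.card (spGrp S F hA hS) := by
  intro h
  haveI : Fact (Nat.Prime 2) := ⟨Nat.prime_two⟩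
  have hT := hA _ _ F
  set φ := F.act hT hS
  have h1 := card_mul_index φ.ker
  rw [index_ker] at h1
  have h64 : 64 ∣ Nat.card φ.ker := by
    rw [← hT.card_R, ← Nat.card_congr
      (subgroupOfEquivOfLe (le_normalizer : F.subR ≤ normalizer (F.subR : Set G))).toEquiv]
    exact card_dvd_of_le fun n hn => F.act_eq_one_of_mem hT hS hn
  have h2 : 2 ^ 10 ∣ Nat.card G :=
    ((show (2 : ℕ) ^ 10 = 64 * 16 by norm_num) ▸ (Nat.mul_dvd_mul h64 h) : 2 ^ 10 ∣ Nat.card φ.ker *
      Nat.card φ.range).trans (h1 ▸ card_subgroup_dvd_card _)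
  have h3 := S.not_dvd_index
  have h4 := card_mul_index (S : Subgroup G)
  rw [F.card_T] at h4
  rw [← h4, show (2 : ℕ) ^ 10 = 512 * 2 by norm_num] at h2
  exact h3 (Nat.dvd_of_mul_dvd_mul_left (by norm_num) h2)

/-- The four group is the image of the first candidate of order 256. -/
theorem cd_act_Q {n : normalizer (F.subR : Set G)} (hn : (n : G) ∈ F.subQ) :
    SpFour.cd (F.act (hA _ _ F) hS n) ∈ SpFour.v4 := by
  obtain ⟨d, hd, hm, e⟩ : (n : G) ∈ F.set p11Mask := by
    rw [← F.coe_sub Frame.closed_q]; exact hn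
  rw [show n = ⟨F.p d, e ▸ n.2⟩ from Subtype.ext e.symm, F.cd_act _ _ hd]
  exact hS.act_Q d (mem_elems.2 ⟨hd, hm⟩)

theorem exists_Q_of_v4 {c : ℕ} (hc : c ∈ SpFour.v4) : ∃ n : normalizer (F.subR : Set G),
    (n : G) ∈ F.subQ ∧ SpFour.cd (F.act (hA _ _ F) hS n) = c := by
  obtain ⟨s, hs, rfl⟩ := hS.act_Q_onto c hc
  obtain ⟨hs1, hs2⟩ := mem_elems.1 hs
  exact ⟨⟨F.p s, F.T_le_normalizer_R (hA _ _ F) (F.p_mem s hs1)⟩,
    (F.mem_sub Frame.closed_q hs1).2 hs2, F.cd_act _ _ hs1 _⟩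

/-- Kernel elements of the candidate lie in the central product. -/
theorem mem_R_of_act {n : normalizer (F.subR : Set G)} (hn : (n : G) ∈ (S : Subgroup G))
    (h : F.act (hA _ _ F) hS n = 1) : (n : G) ∈ F.subR := by
  obtain ⟨d, hd, e⟩ := F.surj _ hn
  rw [← e, F.mem_subR]
  refine ⟨d, mem_elems.2 ⟨hd, hS.act_kernel d hd ?_⟩, rfl⟩
  rw [← F.cd_act (hA _ _ F) hS hd (e ▸ n.2), ← SpFour.cd_one]
  exact congrArg SpFour.cd ((congrArg _ (Subtype.ext e)).trans h)

/-- An odd element of the normalizer of the candidate acting with order three. -/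
theorem exists_b [IsSimpleGroup G] : ∃ b : normalizer (F.subR : Set G),
    (b : G) ∈ normalizer (F.subQ : Set G) ∧ Odd (orderOf (b : G)) ∧
      orderOf (F.act (hA _ _ F) hS b) = 3 := by
  haveI : Fact (Nat.Prime 2) := ⟨Nat.prime_two⟩
  have hT := hA _ _ F
  have hcand := hcand_of hA S F
  obtain ⟨α, hα1, hαo, a, haN, hax⟩ := exists_odd_aut S F hT hcand (P := F.subQ) (F.sub_le _) (moves_Q S F hT hcand)
  -- replace the element by one of odd order
  obtain ⟨e, o, ho, he⟩ := Nat.exists_eq_two_pow_mul_odd (orderOf_pos a).ne'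
  have key : ∀ (k : ℕ) (x : F.subQ), (((α ^ k) x : F.subQ) : G) = a ^ k * x * (a ^ k)⁻¹ := by
    intro k
    induction k with
    | zero => intro x; simp
    | succ k ih => intro x; rw [pow_succ', MulAut.mul_apply]; exact ((hax _).trans (by rw [ih]; group))
  obtain ⟨b, hb⟩ : ∃ b, b = a ^ 2 ^ e := ⟨_, rfl⟩
  have hbo : Odd (orderOf b) := by
    rw [hb, orderOf_pow_of_dvd (pow_ne_zero _ two_ne_zero) (he ▸ dvd_mul_right _ _), he,
      Nat.mul_div_cancel_left _ (pow_pos two_pos e)]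
    exact ho
  have hbQ : b ∈ normalizer (F.subQ : Set G) := hb ▸ pow_mem haN _
  have hb1 : α ^ 2 ^ e ≠ 1 := fun h => hα1 (orderOf_eq_one_iff.1 (Nat.eq_one_of_dvd_coprimes
    (Nat.Coprime.pow_right e (Nat.coprime_two_right.2 hαo)) dvd_rfl (orderOf_dvd_of_pow_eq_one h)))
  have hbo' : Odd (orderOf (α ^ 2 ^ e)) := hαo.of_dvd_nat (orderOf_pow_dvd _)
  have hbR : b ∈ normalizer (F.subR : Set G) :=
    mem_normalizer_of_pres S F hT hT.R_le_Q (fun x => hb ▸ key (2 ^ e) x) (hT.autQ_R _ hbo')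
  refine ⟨⟨b, hbR⟩, hbQ, hbo, ?_⟩
  have hne : F.act hT hS ⟨b, hbR⟩ ≠ 1 := by
    intro h
    have hfix := F.commute_R_of_odd hT hS hbo h
    refine hb1 (eq_one_of_fixed (two_elt S.2 (F.sub_le _)) hbo'
      (fun p => hT.conj_R p (F.sub_le _ p.2)) hT.R_le_Q (fun x hx => Subtype.ext ?_) fun d hd =>
        Subtype.ext ?_)
    · refine (key _ x).trans ?_
      rw [← hb, hfix x hx, mul_inv_cancel_right]
    · refine (key _ d).trans ?_
      rw [← hb, hfix d (hT.C_le_R (hT.cent_R d (F.sub_le _ d.2) hd)), mul_inv_cancel_right]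
  have h3 := SpFour.pow_three_of_odd (F.isSp hT hS ⟨b, hbR⟩)
    (hbo.of_dvd_nat (orderOf_dvd_of_pow_eq_one (by
      rw [← map_pow, show (⟨b, hbR⟩ : normalizer (F.subR : Set G)) ^ orderOf b = 1 from
        Subtype.ext (pow_orderOf_eq_one b), map_one])))
    (Or.inr fun c hc => by
      obtain ⟨q, hq, rfl⟩ := exists_Q_of_v4 S F hA hS hc
      refine ⟨_, rfl, _, cd_act_Q S F hA hS (n := ⟨b, hbR⟩ * q * ⟨b, hbR⟩⁻¹)
        ((mem_normalizer_iff.1 hbQ _).1 hq), _, rfl, ?_⟩
      rw [← map_mul, ← map_mul, inv_mul_cancel_right])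
  haveI : Fact (Nat.Prime 3) := ⟨Nat.prime_three⟩
  exact orderOf_eq_prime (by rw [pow_succ, pow_two]; exact h3) hne

theorem h4_spGrp [IsSimpleGroup G] : ∀ c ∈ SpFour.h4, ∃ g ∈ spGrp S F hA hS, SpFour.cd g = c := by
  obtain ⟨b, hbQ, -, hb3⟩ := exists_b S F hA hS
  refine SpFour.h4_of_normal (F.isSp _ _ b) ⟨b, rfl⟩ (fun h => by rw [h, orderOf_one] at hb3; norm_num at hb3)
    (by rw [← pow_two, ← pow_succ, show 2 + 1 = 3 from rfl, ← hb3]; exact pow_orderOf_eq_one _)
    (fun c hc t ht => ?_) (t8_spGrp S F hA hS)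
  obtain ⟨q, hq, rfl⟩ := exists_Q_of_v4 S F hA hS hc
  rw [SpFour.cd_inj ht]
  refine ⟨_, cd_act_Q S F hA hS (n := b * q * b⁻¹) ((mem_normalizer_iff.1 hbQ _).1 hq), _, rfl, ?_⟩
  rw [← map_mul, ← map_mul, inv_mul_cancel_right]

end CfsgLib.SylHS
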