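import Cfsg.Agent.Lib.SylHS.DataSub

/-! Checks of the subgroup certificate, part 0. -/

set_option autoImplicit false
set_option maxRecDepth 100000
set_option maxHeartbeats 0

namespace CfsgLib.SylHS

theorem check_sub0_0 : ((List.range 13).all fun j => repOK (repAt (0 + j))) = true := by
  decide +kernel

theorem check_sub0_1 : ((List.range 13).all fun j => repOK (repAt (13 + j))) = true := by
  decide +kernel

theorem check_sub0_2 : ((List.range 13).all fun j => repOK (repAt (26 + j))) = true := by
  decide +kernel

theorem check_sub0_3 : ((List.range 13).all fun j => repOK (repAt (39 + j))) = true := by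
  decide +kernel

theorem check_sub0_4 : ((List.range 13).all fun j => repOK (repAt (52 + j))) = true := by
  decide +kernel

theorem check_sub0_5 : ((List.range 13).all fun j => repOK (repAt (65 + j))) = true := by
  decide +kernel

end CfsgLib.SylHS
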