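import Cfsg.Agent.Lib.SylHS.DataSub

/-! Checks of the subgroup certificate, part 1. -/

set_option autoImplicit false
set_option maxRecDepth 100000
set_option maxHeartbeats 0

namespace CfsgLib.SylHS

theorem check_sub1_0 : ((List.range 13).all fun j => repOK (repAt (78 + j))) = true := by
  decide +kernel

theorem check_sub1_1 : ((List.range 13).all fun j => repOK (repAt (91 + j))) = true := by
  decide +kernel

theorem check_sub1_2 : ((List.range 13).all fun j => repOK (repAt (104 + j))) = true := by
  decide +kernel

theorem check_sub1_3 : ((List.range 13).all fun j => repOK (repAt (117 + j))) = true := by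
  decide +kernel

theorem check_sub1_4 : ((List.range 13).all fun j => repOK (repAt (130 + j))) = true := by
  decide +kernel

theorem check_sub1_5 : ((List.range 13).all fun j => repOK (repAt (143 + j))) = true := by
  decide +kernel

end CfsgLib.SylHS
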