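import Cfsg.Agent.Lib.SylHS.DataSub

/-! Checks of the subgroup certificate, part 2. -/

set_option autoImplicit false
set_option maxRecDepth 100000
set_option maxHeartbeats 0

namespace CfsgLib.SylHS

theorem check_sub2_0 : ((List.range 13).all fun j => repOK (repAt (156 + j))) = true := by
  decide +kernel

theorem check_sub2_1 : ((List.range 13).all fun j => repOK (repAt (169 + j))) = true := by
  decide +kernel

theorem check_sub2_2 : ((List.range 13).all fun j => repOK (repAt (182 + j))) = true := by
  decide +kernel

theorem check_sub2_3 : ((List.range 13).all fun j => repOK (repAt (195 + j))) = true := by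
  decide +kernel

theorem check_sub2_4 : ((List.range 13).all fun j => repOK (repAt (208 + j))) = true := by
  decide +kernel

theorem check_sub2_5 : ((List.range 13).all fun j => repOK (repAt (221 + j))) = true := by
  decide +kernel

end CfsgLib.SylHS
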