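import Cfsg.Agent.Lib.SylHS.DataSub

/-! Checks of the subgroup certificate, part 5. -/

set_option autoImplicit false
set_option maxRecDepth 100000
set_option maxHeartbeats 0

namespace CfsgLib.SylHS

theorem check_sub5_0 : ((List.range 13).all fun j => repOK (repAt (390 + j))) = true := by
  decide +kernel

theorem check_sub5_1 : ((List.range 13).all fun j => repOK (repAt (403 + j))) = true := by
  decide +kernel

theorem check_sub5_2 : ((List.range 13).all fun j => repOK (repAt (416 + j))) = true := by
  decide +kernel

theorem check_sub5_3 : ((List.range 13).all fun j => repOK (repAt (429 + j))) = true := by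
  decide +kernel

theorem check_sub5_4 : ((List.range 13).all fun j => repOK (repAt (442 + j))) = true := by
  decide +kernel

theorem check_sub5_5 : ((List.range 13).all fun j => repOK (repAt (455 + j))) = true := by
  decide +kernel

end CfsgLib.SylHS
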