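import Cfsg.Agent.Lib.SylHS.DataSub

/-! Checks of the subgroup certificate, part 6. -/

set_option autoImplicit false
set_option maxRecDepth 100000
set_option maxHeartbeats 0

namespace CfsgLib.SylHS

theorem check_sub6_0 : ((List.range 13).all fun j => repOK (repAt (468 + j))) = true := by
  decide +kernel

theorem check_sub6_1 : ((List.range 13).all fun j => repOK (repAt (481 + j))) = true := by
  decide +kernel

theorem check_sub6_2 : ((List.range 13).all fun j => repOK (repAt (494 + j))) = true := by
  decide +kernel

theorem check_sub6_3 : ((List.range 13).all fun j => repOK (repAt (507 + j))) = true := by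
  decide +kernel

theorem check_sub6_4 : ((List.range 13).all fun j => repOK (repAt (520 + j))) = true := by
  decide +kernel

theorem check_sub6_5 : ((List.range 1).all fun j => repOK (repAt (533 + j))) = true := by
  decide +kernel

end CfsgLib.SylHS
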