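import Cfsg.Agent.Lib.SylHS.DataSub

/-! Checks of the subgroup certificate, part 7. -/

set_option autoImplicit false
set_option maxRecDepth 100000
set_option maxHeartbeats 0

namespace CfsgLib.SylHS

theorem check_sub7_0 : ((List.range 8).all fun j => repOK (repAt (534 + j))) = true := by
  decide +kernel

end CfsgLib.SylHS
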