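import Cfsg.Agent.Lib.SylHS.Code
import Cfsg.Agent.Lib.KnownA.HSModel.Invol.Classes

/-! The table agrees with the permutations of the Sylow subgroup of the numbered group. -/

set_option autoImplicit false
set_option maxRecDepth 100000
set_option maxHeartbeats 0

namespace CfsgLib.SylHS

open CfsgLib.KnownA.PermCert CfsgLib.KnownA.HSModel.Invol

/-- The permutation of an index, as a code. -/
def code (d : ℕ) : ℕ := permTree.get d

theorem check_valid : ((List.range 512).all fun d => valid 100 (code d)) = true := by
  decide +kernel

theorem check_one : eqW 100 [code 0] [] = true := by decide +kernel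

theorem check_gen_low : ((List.range 512).all fun a => (List.range 5).all fun i =>
    (List.range 100).all fun v => Nat.beq (pimg (code (t1 a (2 ^ i))) v)
      (pimg (code a) (pimg (code (2 ^ i)) v))) = true := by
  decide +kernel

theorem check_gen_high : ((List.range 512).all fun a => (List.range 4).all fun i =>
    (List.range 100).all fun v => Nat.beq (pimg (code (t2 a (2 ^ i))) v)
      (pimg (code a) (pimg (code (32 * 2 ^ i)) v))) = true := by
  decide +kernel

theorem check_rec_low : ((List.range 512).all fun a => Nat.beq (t1 a 0) a &&
    (List.range 31).all fun l => (List.range 5).any fun i => Nat.ble (2 ^ i) (l + 1) &&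
      Nat.beq (t1 (l + 1 - 2 ^ i) (2 ^ i)) (l + 1) &&
      Nat.beq (t1 a (l + 1)) (t1 (t1 a (l + 1 - 2 ^ i)) (2 ^ i))) = true := by
  decide +kernel

theorem check_rec_high : ((List.range 512).all fun a => Nat.beq (t2 a 0) a &&
    (List.range 15).all fun l => (List.range 4).any fun i => Nat.ble (2 ^ i) (l + 1) &&
      Nat.beq (t2 (32 * (l + 1 - 2 ^ i)) (2 ^ i)) (32 * (l + 1)) &&
      Nat.beq (t2 a (l + 1)) (t2 (t2 a (l + 1 - 2 ^ i)) (2 ^ i))) = true := by
  decide +kernel

theorem check_split : (((List.range 512).all fun b => Nat.beq (t1 (b / 32 * 32) (b % 32)) b) &&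
    ((List.range 16).all fun h => Nat.beq (t2 0 h) (32 * h))) = true := by
  decide +kernel

theorem check_iv : ((List.range 512).all fun a => Nat.beq (mt a (iv a)) 0) = true := by
  decide +kernel

theorem check_words : ((List.range 9).all fun i =>
    (genWords.getD i []).all (fun k => Nat.blt k sylowGens.length) &&
      eqW 100 [code (2 ^ i)] ((genWords.getD i []).map fun k => sylowGens.getD k 0)) = true := by
  decide +kernel

theorem check_chain : ((List.range 2).all fun i =>
    ((sylowChain.getD i (0, [])).2.zip (chainIdx.getD i [])).all (fun p =>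
      Nat.blt p.2 512 && Nat.beq p.1 (code p.2)) &&
      Nat.beq (chainIdx.getD i []).length (sylowChain.getD i (0, [])).2.length) = true := by
  decide +kernel

end CfsgLib.SylHS
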