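import Cfsg.Agent.Lib.SylHS.CheckSub0
import Cfsg.Agent.Lib.SylHS.CheckSub1
import Cfsg.Agent.Lib.SylHS.CheckSub2
import Cfsg.Agent.Lib.SylHS.CheckSub3
import Cfsg.Agent.Lib.SylHS.CheckSub4
import Cfsg.Agent.Lib.SylHS.CheckSub5
import Cfsg.Agent.Lib.SylHS.CheckSub6
import Cfsg.Agent.Lib.SylHS.CheckSub7

/-! The checks of the subgroup certificate, assembled. -/

set_option autoImplicit false
set_option maxRecDepth 100000

namespace CfsgLib.SylHS

theorem of_chunk {s n : ℕ} (h : ((List.range n).all fun j => repOK (repAt (s + j))) = true) {i : ℕ}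
    (hs : s ≤ i) (hi : i < s + n) : repOK (repAt i) = true := by
  have := List.all_eq_true.1 h (i - s) (List.mem_range.2 (by omega))
  rwa [Nat.add_sub_cancel' hs] at this

theorem rep_ok {i : ℕ} (hi : i < 542) : repOK (repAt i) = true := by
  rcases Nat.lt_or_ge i 13 with h | h
  · exact of_chunk check_sub0_0 (by omega) h
  rcases Nat.lt_or_ge i 26 with h | h
  · exact of_chunk check_sub0_1 (by omega) h
  rcases Nat.lt_or_ge i 39 with h | h
  · exact of_chunk check_sub0_2 (by omega) h
  rcases Nat.lt_or_ge i 52 with h | h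
  · exact of_chunk check_sub0_3 (by omega) h
  rcases Nat.lt_or_ge i 65 with h | h
  · exact of_chunk check_sub0_4 (by omega) h
  rcases Nat.lt_or_ge i 78 with h | h
  · exact of_chunk check_sub0_5 (by omega) h
  rcases Nat.lt_or_ge i 91 with h | h
  · exact of_chunk check_sub1_0 (by omega) h
  rcases Nat.lt_or_ge i 104 with h | h
  · exact of_chunk check_sub1_1 (by omega) h
  rcases Nat.lt_or_ge i 117 with h | h
  · exact of_chunk check_sub1_2 (by omega) h
  rcases Nat.lt_or_ge i 130 with h | h
  · exact of_chunk check_sub1_3 (by omega) h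
  rcases Nat.lt_or_ge i 143 with h | h
  · exact of_chunk check_sub1_4 (by omega) h
  rcases Nat.lt_or_ge i 156 with h | h
  · exact of_chunk check_sub1_5 (by omega) h
  rcases Nat.lt_or_ge i 169 with h | h
  · exact of_chunk check_sub2_0 (by omega) h
  rcases Nat.lt_or_ge i 182 with h | h
  · exact of_chunk check_sub2_1 (by omega) h
  rcases Nat.lt_or_ge i 195 with h | h
  · exact of_chunk check_sub2_2 (by omega) h
  rcases Nat.lt_or_ge i 208 with h | h
  · exact of_chunk check_sub2_3 (by omega) h
  rcases Nat.lt_or_ge i 221 with h | h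
  · exact of_chunk check_sub2_4 (by omega) h
  rcases Nat.lt_or_ge i 234 with h | h
  · exact of_chunk check_sub2_5 (by omega) h
  rcases Nat.lt_or_ge i 247 with h | h
  · exact of_chunk check_sub3_0 (by omega) h
  rcases Nat.lt_or_ge i 260 with h | h
  · exact of_chunk check_sub3_1 (by omega) h
  rcases Nat.lt_or_ge i 273 with h | h
  · exact of_chunk check_sub3_2 (by omega) h
  rcases Nat.lt_or_ge i 286 with h | h
  · exact of_chunk check_sub3_3 (by omega) h
  rcases Nat.lt_or_ge i 299 with h | h
  · exact of_chunk check_sub3_4 (by omega) h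
  rcases Nat.lt_or_ge i 312 with h | h
  · exact of_chunk check_sub3_5 (by omega) h
  rcases Nat.lt_or_ge i 325 with h | h
  · exact of_chunk check_sub4_0 (by omega) h
  rcases Nat.lt_or_ge i 338 with h | h
  · exact of_chunk check_sub4_1 (by omega) h
  rcases Nat.lt_or_ge i 351 with h | h
  · exact of_chunk check_sub4_2 (by omega) h
  rcases Nat.lt_or_ge i 364 with h | h
  · exact of_chunk check_sub4_3 (by omega) h
  rcases Nat.lt_or_ge i 377 with h | h
  · exact of_chunk check_sub4_4 (by omega) h
  rcases Nat.lt_or_ge i 390 with h | h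
  · exact of_chunk check_sub4_5 (by omega) h
  rcases Nat.lt_or_ge i 403 with h | h
  · exact of_chunk check_sub5_0 (by omega) h
  rcases Nat.lt_or_ge i 416 with h | h
  · exact of_chunk check_sub5_1 (by omega) h
  rcases Nat.lt_or_ge i 429 with h | h
  · exact of_chunk check_sub5_2 (by omega) h
  rcases Nat.lt_or_ge i 442 with h | h
  · exact of_chunk check_sub5_3 (by omega) h
  rcases Nat.lt_or_ge i 455 with h | h
  · exact of_chunk check_sub5_4 (by omega) h
  rcases Nat.lt_or_ge i 468 with h | h
  · exact of_chunk check_sub5_5 (by omega) h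
  rcases Nat.lt_or_ge i 481 with h | h
  · exact of_chunk check_sub6_0 (by omega) h
  rcases Nat.lt_or_ge i 494 with h | h
  · exact of_chunk check_sub6_1 (by omega) h
  rcases Nat.lt_or_ge i 507 with h | h
  · exact of_chunk check_sub6_2 (by omega) h
  rcases Nat.lt_or_ge i 520 with h | h
  · exact of_chunk check_sub6_3 (by omega) h
  rcases Nat.lt_or_ge i 533 with h | h
  · exact of_chunk check_sub6_4 (by omega) h
  rcases Nat.lt_or_ge i 534 with h | h
  · exact of_chunk check_sub6_5 (by omega) h
  rcases Nat.lt_or_ge i 542 with h | h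
  · exact of_chunk check_sub7_0 (by omega) h
  omega

theorem gen_ok {i : ℕ} (hi : i < 542) : genOK (repAt i).mask (repAt i).gens = true := by
  have h := rep_ok hi
  simp only [repOK, Bool.and_eq_true] at h
  exact h.1.1

theorem sup_ok {i : ℕ} (hi : i < 542) :
    supsOK (fun k => (repAt k).gens) (fun k => (repAt k).mask) 542 (repAt i).mask (repAt i).gens
      (repAt i).cov (repAt i).sups = true := by
  have h := rep_ok hi
  simp only [repOK, Bool.and_eq_true] at h
  exact h.1.2

theorem wit_ok {i : ℕ} (hi : i < 542) :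
    witOK (repAt i).mask (repAt i).gens (repAt i).wit = true := by
  have h := rep_ok hi
  simp only [repOK, Bool.and_eq_true] at h
  exact h.2

end CfsgLib.SylHS
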