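import Cfsg.Agent.Lib.SylHS.Frame
import Cfsg.Agent.Lib.SylHS.Code

/-! The mask of the candidate of order 128 codes a subgroup. -/

set_option autoImplicit false
set_option maxRecDepth 100000

namespace CfsgLib.SylHS.Frame

theorem closed_p : closedOK p8Mask = true := by decide +kernel

end CfsgLib.SylHS.Frame
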