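import Cfsg.Agent.Lib.SylHS.StepC
import Cfsg.Agent.Lib.SylHS.BalanceR
import Cfsg.Agent.Lib.Invol.JankoOneWeakFour

/-!
The cores of the centralizers of the involutions of the elementary abelian subgroup of order 8
generate a subgroup of odd order normalized by the centralizer of the central involution.
-/

set_option autoImplicit false
set_option maxRecDepth 100000
set_option linter.style.haveILetI false
set_option linter.unusedSectionVars false

namespace CfsgLib.SylHS

open Subgroup CfsgLib.Fusion CfsgLib.SylAltEight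

universe u

variable {G : Type u} [Group G] [Finite G]

theorem conj_centralizer {g a x : G} (hx : x ∈ centralizer ({g * a * g⁻¹} : Set G)) :
    g⁻¹ * x * g ∈ centralizer ({a} : Set G) := by
  rw [mem_centralizer_singleton_iff] at hx ⊢
  calc g⁻¹ * x * g * a = g⁻¹ * (x * (g * a * g⁻¹)) * g := by group
    _ = g⁻¹ * (g * a * g⁻¹ * x) * g := by rw [hx]
    _ = a * (g⁻¹ * x * g) := by group

variable [IsSimpleGroup G] (S : Sylow 2 G) (F : Frame (S : Subgroup G)) (hA : AllFacts.{u})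
  (hS : SpFacts F)
include hA hS

/-- Balance for a pair of commuting elements, the second conjugate to the central involution. -/
theorem core_pair {v : G} (g : G) (hv : v * v = 1) (hvw : Commute v (g * F.z * g⁻¹)) :
    Cfsg.centralizerPPrimeCore 2 v ⊓ centralizer ({g * F.z * g⁻¹} : Set G) ≤
      Cfsg.centralizerPPrimeCore 2 (g * F.z * g⁻¹) := by
  haveI : Fact (Nat.Prime 2) := ⟨Nat.prime_two⟩
  have hT := hA _ _ F
  set H := centralizer ({F.z} : Set G) with hH
  have hv0 : g⁻¹ * v * g ∈ H := conj_centralizer (mem_centralizer_singleton_iff.2 hvw.eq)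
  obtain ⟨h, hh⟩ := Invol.exists_conj_mem_sylow (S.subtype (S_le_H S F))
    (H := zpowers (⟨g⁻¹ * v * g, hv0⟩ : H)) (fun w => ⟨1, Subtype.ext (by
      obtain ⟨j, hj⟩ := mem_zpowers_iff.1 w.2
      rw [SubmonoidClass.coe_pow, ← hj, ← zpow_natCast, ← zpow_mul, mul_comm, zpow_mul,
        zpow_natCast, pow_one, show (⟨g⁻¹ * v * g, hv0⟩ : H) ^ 2 = 1 from Subtype.ext (by
          push_cast
          rw [pow_two, show g⁻¹ * v * g * (g⁻¹ * v * g) = g⁻¹ * (v * v) * g by group, hv, mul_one,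
            inv_mul_cancel]), one_zpow, OneMemClass.coe_one])⟩)
  obtain ⟨g', hg'⟩ : ∃ g', g' = g * (h : G)⁻¹ := ⟨_, rfl⟩
  have hs : g'⁻¹ * v * g' ∈ (S : Subgroup G) := by
    have := hh ⟨g⁻¹ * v * g, hv0⟩ (mem_zpowers _)
    rw [hg', show (g * (h : G)⁻¹)⁻¹ * v * (g * (h : G)⁻¹) = (h : G) * (g⁻¹ * v * g) * (h : G)⁻¹ by group]
    exact this
  have hw : g' * F.z * g'⁻¹ = g * F.z * g⁻¹ := by
    rw [hg', show g * (h : G)⁻¹ * F.z * (g * (h : G)⁻¹)⁻¹ = g * ((h : G)⁻¹ * F.z * h) * g⁻¹ by group,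
      mul_assoc (h : G)⁻¹, ← mem_centralizer_singleton_iff.1 h.2, inv_mul_cancel_left]
  rw [← hw]
  obtain ⟨d, hd, hdC, hcom⟩ : ∃ d ∈ F.subR, d ∉ F.subC ∧ Commute (g'⁻¹ * v * g') d := by
    by_cases h1 : g'⁻¹ * v * g' = 1
    · obtain ⟨d, hd, hdC⟩ : ∃ d ∈ F.subR, d ∉ F.subC := by
        by_contra hno
        push Not at hno
        have := card_le_of_le (show F.subR ≤ F.subC from hno)
        rw [hT.card_R, hT.card_C] at this
        norm_num at this
      exact ⟨d, hd, hdC, h1 ▸ Commute.one_left d⟩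
    · exact hT.commute_R _ hs (Invol.invol_of_mul_self (by
        rw [show g'⁻¹ * v * g' * (g'⁻¹ * v * g') = g'⁻¹ * (v * v) * g' by group, hv, mul_one,
          inv_mul_cancel]) h1)
  set θ := Cfsg.centralizerPPrimeCore 2 F.z with hθ
  refine core_inf_le_of_normal_two (R := F.subR.map (MulAut.conj g').toMonoidHom)
    (D := zpowers (g' * d * g'⁻¹)) ((S.2.to_le (F.sub_le _)).map _) ?_
    (zpowers_le.2 ⟨d, hd, rfl⟩) (zpowers_le.2 (mem_centralizer_singleton_iff.2 ?_))
    (fun y hy r hr => ?_) fun k hk hko hkD => ?_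
  · rintro _ ⟨r, hr, rfl⟩
    refine mem_centralizer_singleton_iff.2 ?_
    show g' * r * g'⁻¹ * (g' * F.z * g'⁻¹) = g' * F.z * g'⁻¹ * (g' * r * g'⁻¹)
    rw [conj_mul, conj_mul, F.z_central (F.sub_le _ hr)]
  · calc g' * d * g'⁻¹ * v = g' * (d * (g'⁻¹ * v * g')) * g'⁻¹ := by group
      _ = g' * (g'⁻¹ * v * g' * d) * g'⁻¹ := by rw [hcom.eq]
      _ = v * (g' * d * g'⁻¹) := by group
  · obtain ⟨r, hr, rfl⟩ := hr
    obtain ⟨o, ho, n, hn, e⟩ := exists_core_mul_R S F hA hS (conj_centralizer hy)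
    have hrH : r ∈ H := S_le_H S F (F.sub_le _ hr)
    have hr' : n * r * n⁻¹ ∈ F.subR := (mem_normalizer_iff.1 hn r).1 hr
    have hin : g'⁻¹ * y * g' * r * (g'⁻¹ * y * g')⁻¹ ∈ θ ⊔ F.subR := by
      rw [e, show o * n * r * (o * n)⁻¹ = o * (n * r * n⁻¹ * o⁻¹ * (n * r * n⁻¹)⁻¹) * (n * r * n⁻¹) by group]
      exact mul_mem (mem_sup_left (mul_mem ho
        (core_conj_self (S_le_H S F (F.sub_le _ hr')) (inv_mem ho)))) (mem_sup_right hr')
    have hle : θ ⊔ F.subR ≤ (Cfsg.centralizerPPrimeCore 2 (g' * F.z * g'⁻¹) ⊔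
        F.subR.map (MulAut.conj g').toMonoidHom).comap (MulAut.conj g').toMonoidHom :=
      sup_le (fun a ha => mem_sup_left (core_conj ha)) fun a ha => mem_sup_right ⟨a, ha, rfl⟩
    have := hle hin
    show y * (g' * r * g'⁻¹) * y⁻¹ ∈ _
    rw [mem_comap] at this
    simpa [mul_assoc] using this
  · have h1 := core_conj (g := g'⁻¹) (hkD _ (mem_zpowers _))
    rw [show g'⁻¹ * (g' * F.z * g'⁻¹) * g'⁻¹⁻¹ = F.z by group] at h1
    have h2 : g'⁻¹ * k * g' * d * (g'⁻¹ * k * g')⁻¹ * d⁻¹ ∈ θ := by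
      rwa [show g'⁻¹ * (k * (g' * d * g'⁻¹) * k⁻¹ * (g' * d * g'⁻¹)⁻¹) * g'⁻¹⁻¹ =
        g'⁻¹ * k * g' * d * (g'⁻¹ * k * g')⁻¹ * d⁻¹ by group] at h1
    have h3 := mem_core_of_fixed S F hA hS (conj_centralizer hk)
      (by rwa [Invol.orderOf_conj_inv_eq]) hd hdC h2
    have h4 := core_conj (g := g') h3
    rwa [show g' * (g'⁻¹ * k * g') * g'⁻¹ = k by group] at h4

theorem balanced_V : Balanced F.subV := by
  have hT := hA _ _ F
  intro v hv _ w hw hw1
  obtain ⟨m, -, rfl⟩ := (normalizer_V S F hT (hcand_of hA S F)).2 w hw hw1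
  exact core_pair S F hA hS m (by rw [← pow_two]; exact hT.V_sq v hv) (hT.V_comm v hv _ hw)

/-- The closure of the cores has odd order. -/
theorem odd_W : Odd (Nat.card (coreClosure F.subV)) :=
  have hT := hA _ _ F
  odd_coreClosure hT.V_comm hT.V_sq hT.card_V.ge (balanced_V S F hA hS)

theorem core_le_W : Cfsg.centralizerPPrimeCore 2 F.z ≤ coreClosure F.subV :=
  core_le_closure (hA _ _ F).z_mem_V F.z_ne_one

/-- Two elements of the central product commute up to the involution. -/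
theorem comm_R {r s : G} (hr : r ∈ F.subR) (hs : s ∈ F.subR) :
    r * s * r⁻¹ = s ∨ r * s * r⁻¹ = s * F.z := by
  obtain ⟨a, ha, rfl⟩ := F.mem_subR.1 hr
  obtain ⟨b, hb, rfl⟩ := F.mem_subR.1 hs
  have hbl := (mem_elems.1 hb).1
  rw [F.p_conj (mem_elems.1 ha).1 hbl]
  have hc := hS.vec_comm a ha b hb
  cases hf : SpFour.form (rVec a) (rVec b)
  · exact Or.inl (by rw [hc.2 hf])
  · exact Or.inr (by rw [hc.1 hf, ← F.mul b hbl zIdx (by decide)]; rfl)

/-- An involution of `V` outside the centre commuting with a given element of the central product. -/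
theorem exists_commute_V {x : G} (hx : x ∈ F.subR) :
    ∃ u ∈ F.subV, u ≠ 1 ∧ u ≠ F.z ∧ Commute x u := by
  have hT := hA _ _ F
  have key : ∀ A : Finset G, A.card ≤ 4 → ∃ a ∈ F.subV, a ∉ A := by
    intro A hA'
    by_contra h
    push Not at h
    have h1 : Nat.card F.subV ≤ Nat.card A :=
      Nat.card_le_card_of_injective (fun v => (⟨v, h v v.2⟩ : A)) fun a b e => by
        have := congrArg Subtype.val e
        exact Subtype.ext this
    rw [hT.card_V, Nat.card_eq_fintype_card, Fintype.card_coe] at h1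
    omega
  classical
  obtain ⟨a, ha, haA⟩ := key {1, F.z} (by
    have := Finset.card_insert_le (1 : G) {F.z}
    simp only [Finset.card_singleton] at this
    omega)
  obtain ⟨b, hb, hbA⟩ := key {1, F.z, a, a * F.z} (by
    have := Finset.card_le_four (a := (1 : G)) (b := F.z) (c := a) (d := a * F.z)
    exact this)
  simp only [Finset.mem_insert, Finset.mem_singleton, not_or] at haA hbA
  rcases comm_R S F hA hS hx (hT.V_le_R ha) with ea | ea
  · exact ⟨a, ha, haA.1, haA.2, mul_inv_eq_iff_eq_mul.1 ea⟩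
  rcases comm_R S F hA hS hx (hT.V_le_R hb) with eb | eb
  · exact ⟨b, hb, hbA.1, hbA.2.1, mul_inv_eq_iff_eq_mul.1 eb⟩
  have hinv : ∀ y ∈ F.subV, y⁻¹ = y := fun y hy =>
    inv_eq_of_mul_eq_one_right (by rw [← pow_two]; exact hT.V_sq y hy)
  refine ⟨a * b, mul_mem ha hb, fun e => ?_, fun e => ?_, mul_inv_eq_iff_eq_mul.1 ?_⟩
  · exact hbA.2.2.1 ((eq_inv_of_mul_eq_one_right e).trans (hinv a ha))
  · exact hbA.2.2.2 (by rw [← e, ← mul_assoc, show a * a = 1 by rw [← pow_two]; exact hT.V_sq a ha, one_mul])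
  · rw [← conj_mul, ea, eb, mul_assoc, ← mul_assoc F.z b, ← F.z_central (F.sub_le _ hb), mul_assoc b,
      F.z_sq, mul_one]

/-- The normalizer of the central product normalizes the closure. -/
theorem normalizer_R_le_W :
    normalizer (F.subR : Set G) ≤ normalizer (coreClosure F.subV : Set G) := by
  have hT := hA _ _ F
  intro n hn
  refine Invol.mem_normalizer_iff_of_finite fun x hx => ?_
  have h : coreClosure F.subV ≤ (coreClosure F.subV).comap (MulAut.conj n).toMonoidHom := by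
    refine iSup_le fun a y hy => ?_
    show n * y * n⁻¹ ∈ coreClosure F.subV
    obtain ⟨v, hv⟩ : ∃ v, v = n * (a : G) * n⁻¹ := ⟨_, rfl⟩
    have hyv : n * y * n⁻¹ ∈ Cfsg.centralizerPPrimeCore 2 v := hv ▸ core_conj hy
    have hvR : v ∈ F.subR := hv ▸ (mem_normalizer_iff.1 hn _).1 (hT.V_le_R a.2.1)
    have hvv : v * v = 1 := by
      rw [hv, conj_mul, ← pow_two, hT.V_sq _ a.2.1, mul_one, mul_inv_cancel]
    obtain ⟨u, hu, hu1, huz, hvu⟩ := exists_commute_V S F hA hS hvR
    have hvz : Commute v F.z := F.z_central (F.sub_le _ hvR)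
    set θ := Cfsg.centralizerPPrimeCore 2 v
    have hinv : ∀ y : G, y * y = 1 → Commute v y → ∀ h ∈ θ, y * h * y ∈ θ := fun y hy hvy h hh => by
      have := core_conj_self (g := y) (mem_centralizer_singleton_iff.2 hvy.eq.symm) hh
      rwa [inv_eq_of_mul_eq_one_right hy] at this
    have huu : u * u = 1 := by rw [← pow_two]; exact hT.V_sq u hu
    have fixed : ∀ w ∈ F.subV, w ≠ 1 → Commute v w → ∀ h ∈ θ, w * h * w = h → h ∈ coreClosure F.subV := by
      intro w hw hw1 hvw h hh e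
      obtain ⟨m, -, rfl⟩ := (normalizer_V S F hT (hcand_of hA S F)).2 w hw hw1
      refine core_le_closure hw hw1 (core_pair S F hA hS m hvv hvw ⟨hh, mem_centralizer_singleton_iff.2 ?_⟩)
      have hww : m * F.z * m⁻¹ * (m * F.z * m⁻¹) = 1 := by
        rw [conj_mul, F.z_sq, mul_one, mul_inv_cancel]
      calc h * (m * F.z * m⁻¹) = m * F.z * m⁻¹ * h * (m * F.z * m⁻¹) * (m * F.z * m⁻¹) := by rw [e]
        _ = m * F.z * m⁻¹ * h * (m * F.z * m⁻¹ * (m * F.z * m⁻¹)) := by group
        _ = m * F.z * m⁻¹ * h := by rw [hww, mul_one]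
    have hzu : F.z * u = u * F.z := (F.z_central (F.sub_le _ hu)).symm
    refine Invol.J1Cent.Weak.le_of_four (W := coreClosure F.subV) (odd_core v) F.z_sq huu hzu
      (hinv _ F.z_sq hvz) (hinv _ huu hvu) (fixed _ hT.z_mem_V F.z_ne_one hvz) (fixed _ hu hu1 hvu)
      (fun h hh e => fixed (F.z * u) (mul_mem hT.z_mem_V hu)
        (fun e' => huz ((eq_inv_of_mul_eq_one_right e').trans (inv_eq_of_mul_eq_one_right F.z_sq)))
        (hvz.mul_right hvu) h hh (by
          rw [show F.z * u * h * (F.z * u) = F.z * u * h * (u * F.z) by rw [hzu]]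
          simpa [mul_assoc] using e))
      hyv
  exact h hx

theorem centralizer_z_le_W :
    centralizer ({F.z} : Set G) ≤ normalizer (coreClosure F.subV : Set G) := fun g hg => by
  obtain ⟨o, ho, n, hn, rfl⟩ := exists_core_mul_R S F hA hS hg
  exact mul_mem (le_normalizer (core_le_W S F hA hS ho)) (normalizer_R_le_W S F hA hS hn)

/-- The closure meets the centralizer in its core. -/
theorem W_inf_H : coreClosure F.subV ⊓ centralizer ({F.z} : Set G) =
    Cfsg.centralizerPPrimeCore 2 F.z := by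
  refine le_antisymm (le_core inf_le_right (fun g hg => ?_) ?_)
    (le_inf (core_le_W S F hA hS) (core_le _))
  · refine Invol.mem_normalizer_iff_of_finite fun x hx => ⟨?_, ?_⟩
    · exact (mem_normalizer_iff.1 (centralizer_z_le_W S F hA hS hg) x).1 hx.1
    · exact Subgroup.mul_mem _ (Subgroup.mul_mem _ hg hx.2) (Subgroup.inv_mem _ hg)
  · exact (odd_W S F hA hS).of_dvd_nat (card_dvd_of_le inf_le_left)

end CfsgLib.SylHS
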