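import Cfsg.Agent.Lib.SylHS.CZ
import Cfsg.Agent.Lib.Invol.BrauerSuzuki
import Cfsg.Agent.Lib.Solvable.PCore

/-!
The centralizer of the central involution is its core times the normalizer of the central product.
-/

set_option autoImplicit false
set_option maxRecDepth 100000
set_option linter.style.haveILetI false
set_option linter.unusedSectionVars false

namespace CfsgLib.SylHS

open Subgroup CfsgLib.Fusion CfsgLib.SylAltEight

universe u

variable {G : Type u} [Group G] [Finite G] (S : Sylow 2 G) (F : Frame (S : Subgroup G))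
  (hA : AllFacts.{u})
include hA

theorem exists_gen_C : ∃ c ∈ F.subC, c * c = F.z ∧ c ≠ 1 ∧ c ≠ F.z ∧ F.subC = zpowers c ∧
    ∀ x ∈ F.subC, x * x ≠ 1 → x = c ∨ x = F.z * c := by
  have hT := hA _ _ F
  obtain ⟨g, hg⟩ := hT.C_cyclic.exists_generator
  have hC : F.subC = zpowers (g : G) := le_antisymm (fun x hx => by
    obtain ⟨k, hk⟩ := mem_zpowers_iff.1 (hg ⟨x, hx⟩)
    exact mem_zpowers_iff.2 ⟨k, by simpa using congrArg Subtype.val hk⟩) (zpowers_le.2 g.2)
  have ho : orderOf (g : G) = 4 := by rw [← Nat.card_zpowers, ← hC, hT.card_C]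
  have h4 : ∀ x ∈ F.subC, x * x * (x * x) = 1 := fun x hx => by
    have h := pow_card_eq_one' (x := (⟨x, hx⟩ : F.subC))
    rw [hT.card_C] at h
    have h' : x ^ 4 = 1 := congrArg Subtype.val h
    rw [← h', show 4 = 2 + 2 from rfl, pow_add, pow_two]
  have hne : (g : G) * g ≠ 1 := fun h => by
    have := Nat.le_of_dvd two_pos (orderOf_dvd_of_pow_eq_one (n := 2) ((pow_two (g : G)).trans h))
    omega
  have hsq : ∀ x ∈ F.subC, x * x ≠ 1 → x * x = F.z := fun x hx h =>
    F.eq_z_of_sq (mul_mem hx hx) (h4 x hx) h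
  refine ⟨g, g.2, hsq g g.2 hne, fun h => hne (by rw [h, one_mul]), fun h => hne (by rw [h, F.z_sq]),
    hC, fun x hx hx2 => ?_⟩
  have hcx : Commute x (g : G) := by
    obtain ⟨k, hk⟩ := mem_zpowers_iff.1 (hC ▸ hx)
    exact hk ▸ (Commute.refl (g : G)).zpow_left k
  have hy : x * (g : G)⁻¹ * (x * (g : G)⁻¹) = 1 := by
    rw [(hcx.inv_right).symm.mul_mul_mul_comm, ← _root_.mul_inv_rev, hsq x hx hx2, hsq g g.2 hne,
      mul_inv_cancel]
  by_cases h1 : x * (g : G)⁻¹ = 1
  · exact Or.inl (mul_inv_eq_one.1 h1)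
  · exact Or.inr (mul_inv_eq_iff_eq_mul.1 (F.eq_z_of_sq (mul_mem hx (inv_mem g.2)) hy h1))

/-- In the centralizer modulo the involution the centre of the central product is isolated. -/
theorem conj_mem_C_core {g : G} (hg : g ∈ centralizer ({F.z} : Set G)) :
    ∀ x ∈ F.subC, g * x * g⁻¹ ∈ Cfsg.centralizerPPrimeCore 2 F.z ⊔ F.subC := by
  haveI : Fact (Nat.Prime 2) := ⟨Nat.prime_two⟩
  have hT := hA _ _ F
  obtain ⟨c, hc, hcc, hc1, hcz, hC, hgen⟩ := exists_gen_C S F hA
  set H := centralizer ({F.z} : Set G) with hH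
  have hSH := S_le_H S F
  have hzH : F.z ∈ H := mem_centralizer_singleton_iff.2 rfl
  let zH : H := ⟨F.z, hzH⟩
  let cH : H := ⟨c, hSH (F.sub_le _ hc)⟩
  have hzc : ∀ y : H, y * zH = zH * y := fun y => Subtype.ext (mem_centralizer_singleton_iff.1 y.2)
  haveI : (zpowers zH).Normal := ⟨fun y hy k => by
    obtain ⟨j, rfl⟩ := mem_zpowers_iff.1 hy
    rw [((show Commute k zH from hzc k).zpow_right j).eq, mul_inv_cancel_right]
    exact zpow_mem_zpowers _ j⟩
  have hzz : ∀ w ∈ zpowers zH, w = 1 ∨ w = zH := by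
    intro w hw
    obtain ⟨j, rfl⟩ := mem_zpowers_iff.1 hw
    have h2 : zH ^ (2 : ℕ) = 1 := Subtype.ext (by simp [pow_two, F.z_sq, zH])
    rcases Int.even_or_odd' j with ⟨i, rfl | rfl⟩
    · left; rw [zpow_mul, show ((2 : ℤ)) = ((2 : ℕ) : ℤ) from rfl, zpow_natCast, h2, one_zpow]
    · right; rw [zpow_add, zpow_mul, show ((2 : ℤ)) = ((2 : ℕ) : ℤ) from rfl, zpow_natCast, h2,
        one_zpow, one_mul, zpow_one]
  let mk := QuotientGroup.mk' (zpowers zH)
  have hiso : Cfsg.IsIsolatedInvolution (mk cH) := by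
    refine ⟨Invol.invol_of_mul_self ?_ fun h => ?_, fun q hq => ?_⟩
    · rw [← map_mul]
      exact (QuotientGroup.eq_one_iff _).2 (by
        rw [show cH * cH = zH from Subtype.ext hcc]; exact mem_zpowers _)
    · rcases hzz _ ((QuotientGroup.eq_one_iff _).1 h) with h' | h'
      · exact hc1 (congrArg Subtype.val h')
      · exact hcz (congrArg Subtype.val h')
    obtain ⟨k₀, rfl⟩ := QuotientGroup.mk'_surjective _ q
    change Commute (mk cH) (mk k₀ * mk cH * (mk k₀)⁻¹) at hq
    change mk k₀ * mk cH * (mk k₀)⁻¹ = mk cH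
    rw [← map_inv, ← map_mul, ← map_mul] at hq ⊢
    set c' := k₀ * cH * k₀⁻¹ with hc'
    have hcomm : cH * c' * cH⁻¹ * c'⁻¹ ∈ zpowers zH := (QuotientGroup.eq_one_iff _).1 (by
      show mk _ = 1
      rw [map_mul, map_mul, map_mul, map_inv, map_inv, hq.eq]
      group)
    have hc'2 : c' * c' = zH := by
      rw [hc', conj_mul, show cH * cH = zH from Subtype.ext hcc, hzc k₀, mul_inv_cancel_right]
    have hn : cH ∈ normalizer (zpowers c' : Set H) := by
      refine Invol.mem_normalizer_iff_of_finite fun y hy => ?_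
      obtain ⟨j, rfl⟩ := mem_zpowers_iff.1 hy
      rw [← conj_zpow]
      refine zpow_mem ?_ j
      rw [show cH * c' * cH⁻¹ = (cH * c' * cH⁻¹ * c'⁻¹) * c' by group]
      refine mul_mem ?_ (mem_zpowers _)
      rcases hzz _ hcomm with e | e <;> rw [e]
      · exact one_mem _
      · exact hc'2 ▸ mul_mem (mem_zpowers _) (mem_zpowers _)
    have hp : ∀ y : H, y * y = zH → IsPGroup 2 (zpowers y) := fun y hy w => ⟨2, Subtype.ext (by
      obtain ⟨j, hj⟩ := mem_zpowers_iff.1 w.2
      have h4 : y ^ 4 = 1 := by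
        rw [show 4 = 2 + 2 from rfl, pow_add, pow_two, hy]
        exact Subtype.ext F.z_sq
      rw [SubmonoidClass.coe_pow, ← hj, ← zpow_natCast, ← zpow_mul, mul_comm, zpow_mul,
        zpow_natCast, show (2 : ℕ) ^ 2 = 4 from rfl, h4, one_zpow, OneMemClass.coe_one])⟩
    have hD : IsPGroup 2 ↥(zpowers cH ⊔ zpowers c') :=
      (hp cH (Subtype.ext hcc)).to_sup_of_normal_right' (hp c' hc'2) (zpowers_le.2 hn)
    obtain ⟨k, hk⟩ := Invol.exists_conj_mem_sylow (S.subtype hSH) (H := zpowers cH ⊔ zpowers c') hD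
    have e1 := closed_C S F hA k.2 hc (hk cH (mem_sup_left (mem_zpowers _)))
    have e2 := closed_C S F hA (mul_mem k.2 k₀.2) hc (by
      have := hk c' (mem_sup_right (mem_zpowers _))
      rw [show (k : G) * k₀ * c * ((k : G) * k₀)⁻¹ = ((k * c' * k⁻¹ : H) : G) by
        simp [hc', cH, mul_assoc]]
      exact this)
    have ne : ∀ y : G, y ∈ H → y * c * y⁻¹ * (y * c * y⁻¹) ≠ 1 := fun y hy h => F.z_ne_one (by
      rw [conj_mul, hcc] at h
      exact conj_eq_one_iff.1 h)
    have key : (mk (k * cH * k⁻¹) = mk cH) ∧ mk ((k * k₀) * cH * (k * k₀)⁻¹) = mk cH := by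
      have hcase : ∀ y : H, (y : G) * c * (y : G)⁻¹ ∈ F.subC → mk (y * cH * y⁻¹) = mk cH := by
        intro y hy
        rcases hgen _ hy (ne y y.2) with e | e
        · exact congrArg mk (Subtype.ext e)
        · rw [show y * cH * y⁻¹ = zH * cH from Subtype.ext e, map_mul,
            show mk zH = 1 from (QuotientGroup.eq_one_iff _).2 (mem_zpowers _), one_mul]
      exact ⟨hcase k e1, hcase (k * k₀) e2⟩
    have h1 := key.1
    have h2 := key.2
    rw [show k * k₀ * cH * (k * k₀)⁻¹ = k * c' * k⁻¹ by rw [hc']; group, ← h1] at h2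
    simp only [map_mul, mul_left_inj, mul_right_inj] at h2
    exact h2
  set K := (Cfsg.oddCore (H ⧸ zpowers zH)).comap mk with hK
  let gH : H := ⟨g, hg⟩
  have hgK : gH * cH * gH⁻¹ * cH⁻¹ ∈ K := by
    have h := inv_mem (Invol.zstar _ hiso (mk gH))
    rw [hK, mem_comap]
    simpa [map_mul, map_inv, mul_assoc] using h
  -- the preimage of the core is the core times the involution
  have hKmem : ∀ x ∈ K, ∃ o ∈ Cfsg.centralizerPPrimeCore 2 F.z, ∃ w ∈ F.subC, (x : G) = o * w := by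
    intro x hx
    have hzK : zpowers zH ≤ K := fun w hw => by
      rw [hK, mem_comap]
      rw [show mk w = 1 from (QuotientGroup.eq_one_iff _).2 hw]
      exact one_mem _
    have hidx : ((zpowers zH).subgroupOf K).index = Nat.card (Cfsg.oddCore (H ⧸ zpowers zH)) := by
      have h1 := card_mul_index K
      rw [hK, index_comap_of_surjective _ (QuotientGroup.mk'_surjective _)] at h1
      have h2 := card_eq_card_quotient_mul_card_subgroup (zpowers zH)
      have h3 := card_mul_index (Cfsg.oddCore (H ⧸ zpowers zH))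
      have h4 := card_mul_index ((zpowers zH).subgroupOf K)
      rw [Nat.card_congr (subgroupOfEquivOfLe hzK).toEquiv] at h4
      have hpos : 0 < (Cfsg.oddCore (H ⧸ zpowers zH)).index := Nat.pos_of_ne_zero index_ne_zero_of_finite
      have hpos2 : 0 < Nat.card (zpowers zH) := Nat.card_pos
      rw [← hK, ← h4, h2, ← h3] at h1
      exact Nat.eq_of_mul_eq_mul_left hpos2 (Nat.eq_of_mul_eq_mul_right hpos (by linarith))
    have hz2 : Nat.card ((zpowers zH).subgroupOf K) = 2 := by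
      rw [Nat.card_congr (subgroupOfEquivOfLe hzK).toEquiv, Nat.card_zpowers, Subgroup.orderOf_mk,
        F.orderOf_z]
    obtain ⟨N, hN, hcompl⟩ := Transfer.exists_normal_complement_of_normalizer_le_centralizer
      ((zpowers zH).subgroupOf K) (by rw [hz2, hidx]; exact Nat.coprime_two_left.2 (Invol.odd_card_oddCore _))
      (fun n _ => mem_centralizer_iff.2 fun w hw => Subtype.ext (by
        obtain ⟨j, hj⟩ := mem_zpowers_iff.1 hw
        show (w : H) * (n : H) = (n : H) * (w : H)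
        rw [show (w : H) = zH ^ j from hj.symm]
        exact ((show Commute (n : H) zH from hzc n).zpow_right j).eq.symm))
    have hNodd : Odd (Nat.card N) := by
      rw [← hcompl.index_eq_card, hidx]; exact Invol.odd_card_oddCore _
    obtain ⟨⟨⟨o, ho⟩, ⟨w, hw⟩⟩, how, -⟩ := hcompl.existsUnique ⟨x, hx⟩
    haveI : (Cfsg.oddCore K).Characteristic := Solvable.pPrimeCore_characteristic 2 K
    haveI : K.Normal := by rw [hK]; infer_instance
    have ho' : (o : H) ∈ Cfsg.oddCore H :=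
      Invol.le_oddCore (N := (Cfsg.oddCore K).map K.subtype) inferInstance (by
        rw [card_map_of_injective K.subtype_injective]; exact Invol.odd_card_oddCore _)
        ⟨o, Invol.le_oddCore hN hNodd ho, rfl⟩
    refine ⟨_, mem_core_iff.2 ⟨(o : H).2, ho'⟩, _, ?_, congrArg (fun y : K => ((y : H) : G)) how.symm⟩
    rcases hzz _ hw with e | e
    · show ((w : H) : G) ∈ _
      rw [show ((w : H) : G) = 1 from congrArg Subtype.val e]; exact one_mem _
    · show ((w : H) : G) ∈ _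
      rw [show ((w : H) : G) = F.z from congrArg Subtype.val e]; exact hT.z_mem_C
  have hgc : g * c * g⁻¹ ∈ Cfsg.centralizerPPrimeCore 2 F.z ⊔ F.subC := by
    obtain ⟨o, ho, w, hw, e⟩ := hKmem _ hgK
    rw [show g * c * g⁻¹ = (g * c * g⁻¹ * c⁻¹) * c by group,
      show g * c * g⁻¹ * c⁻¹ = o * w from e]
    exact mul_mem (mul_mem (mem_sup_left ho) (mem_sup_right hw)) (mem_sup_right hc)
  intro x hx
  obtain ⟨j, rfl⟩ := mem_zpowers_iff.1 (hC ▸ hx)
  rw [← conj_zpow]
  exact zpow_mem hgc j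

/-- The centralizer is the core times the normalizer of the centre of the central product. -/
theorem exists_core_mul_C {g : G} (hg : g ∈ centralizer ({F.z} : Set G)) :
    ∃ o ∈ Cfsg.centralizerPPrimeCore 2 F.z, ∃ y ∈ normalizer (F.subC : Set G), g = o * y := by
  haveI : Fact (Nat.Prime 2) := ⟨Nat.prime_two⟩
  have hT := hA _ _ F
  set θ := Cfsg.centralizerPPrimeCore 2 F.z
  set M := θ ⊔ F.subC with hM
  have hCH : F.subC ≤ centralizer ({F.z} : Set G) := (F.sub_le _).trans (S_le_H S F)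
  have hCn : F.subC ≤ normalizer (θ : Set G) := fun c hc =>
    Invol.mem_normalizer_iff_of_finite fun y hy => core_conj_self (hCH hc) hy
  have hC2 : IsPGroup 2 F.subC := S.2.to_le (F.sub_le _)
  have hsplit : ∀ x ∈ M, ∃ o ∈ θ, ∃ c ∈ F.subC, x = o * c := fun x hx => by
    rw [← SetLike.mem_coe, coe_mul_of_right_le_normalizer_left _ _ hCn] at hx
    obtain ⟨o, ho, c, hc, e⟩ := hx
    exact ⟨o, ho, c, hc, e.symm⟩
  obtain ⟨T, hT2⟩ := (hC2.comap_of_injective M.subtype M.subtype_injective :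
    IsPGroup 2 (F.subC.subgroupOf M)).exists_le_sylow
  have hTC : ∀ t : M, t ∈ T → (t : G) ∈ F.subC := by
    intro t ht
    obtain ⟨o, ho, c, hc, e⟩ := hsplit t t.2
    have hoT : (⟨o, mem_sup_left ho⟩ : M) ∈ T := by
      have := mul_mem ht (inv_mem (hT2 (show (⟨c, mem_sup_right hc⟩ : M) ∈ F.subC.subgroupOf M from hc)))
      rwa [show t * (⟨c, mem_sup_right hc⟩ : M)⁻¹ = ⟨o, mem_sup_left ho⟩ from
        Subtype.ext (by simp [e])] at this
    have : o = 1 := eq_one_of_pGroup_odd (T.2.map M.subtype) (odd_core _) ⟨_, hoT, rfl⟩ ho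
    rw [e, this, one_mul]; exact hc
  obtain ⟨m, hm⟩ := Invol.exists_conj_mem_sylow T
    (H := (F.subC.map (MulAut.conj g).toMonoidHom).subgroupOf M)
    ((hC2.map _).comap_of_injective M.subtype M.subtype_injective)
  have hy : (m : G) * g ∈ normalizer (F.subC : Set G) := by
    refine Invol.mem_normalizer_iff_of_finite fun c hc => ?_
    have h := hTC _ (hm ⟨g * c * g⁻¹, conj_mem_C_core S F hA hg c hc⟩ ⟨c, hc, rfl⟩)
    rw [show (m : G) * g * c * ((m : G) * g)⁻¹ = (m : G) * (g * c * g⁻¹) * (m : G)⁻¹ by group]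
    exact h
  obtain ⟨o, ho, c, hc, e⟩ := hsplit (m : G)⁻¹ (inv_mem m.2)
  exact ⟨o, ho, c * ((m : G) * g), mul_mem (le_normalizer hc) hy, by
    rw [← mul_assoc, ← e, inv_mul_cancel_left]⟩

variable (hS : SpFacts F)
include hS

/-- The core of the normalizer of the centre is in the core of the centralizer. -/
theorem oddCore_normalizer_C_le {o : normalizer (F.subC : Set G)}
    (ho : o ∈ Cfsg.oddCore (normalizer (F.subC : Set G))) :
    (o : G) ∈ Cfsg.centralizerPPrimeCore 2 F.z := by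
  haveI : Fact (Nat.Prime 2) := ⟨Nat.prime_two⟩
  have hT := hA _ _ F
  set θ := Cfsg.centralizerPPrimeCore 2 F.z
  let Y := normalizer (F.subC : Set G)
  set O := (Cfsg.oddCore Y).map Y.subtype
  have hYH : Y ≤ centralizer ({F.z} : Set G) := F.normalizer_C_le hT
  have hOY : O ≤ Y := map_subtype_le _
  have hθn : ∀ h ∈ centralizer ({F.z} : Set G), h ∈ normalizer (θ : Set G) := fun h hh =>
    Invol.mem_normalizer_iff_of_finite fun y hy => core_conj_self hh hy
  haveI : (Cfsg.oddCore Y).Characteristic := Solvable.pPrimeCore_characteristic 2 Y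
  have hOn : ∀ y ∈ Y, ∀ x ∈ O, y * x * y⁻¹ ∈ O := by
    rintro y hy _ ⟨x, hx, rfl⟩
    exact ⟨_, (inferInstance : (Cfsg.oddCore Y).Normal).conj_mem x hx ⟨y, hy⟩, rfl⟩
  refine le_core (K := θ ⊔ O) (sup_le (core_le _) (hOY.trans hYH)) (fun g hg => ?_)
    (odd_sup (fun x hx => hθn x (hYH (hOY hx))) (odd_core _) ?_) (mem_sup_right ⟨o, ho, rfl⟩)
  · obtain ⟨a, ha, y, hy, rfl⟩ := exists_core_mul_C S F hA hg
    refine mul_mem (le_normalizer (mem_sup_left ha)) (Invol.mem_normalizer_iff_of_finite fun x hx => ?_)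
    have hle : θ ⊔ O ≤ (θ ⊔ O).comap (MulAut.conj y).toMonoidHom :=
      sup_le (fun w hw => mem_sup_left (core_conj_self (hYH hy) hw))
        fun w hw => mem_sup_right (hOn y hy w hw)
    exact hle hx
  · rw [card_map_of_injective Y.subtype_injective]
    exact Invol.odd_card_oddCore _

/-- The centralizer is its core times the normalizer of the central product. -/
theorem exists_core_mul_R [IsSimpleGroup G] {g : G} (hg : g ∈ centralizer ({F.z} : Set G)) :
    ∃ o ∈ Cfsg.centralizerPPrimeCore 2 F.z, ∃ n ∈ normalizer (F.subR : Set G), g = o * n := by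
  haveI : Fact (Nat.Prime 2) := ⟨Nat.prime_two⟩
  have hT := hA _ _ F
  obtain ⟨a₀, ha₀, y₀, hy₀, rfl⟩ := exists_core_mul_C S F hA hg
  suffices key : ∀ y ∈ normalizer (F.subC : Set G),
      ∃ o ∈ Cfsg.centralizerPPrimeCore 2 F.z, ∃ n ∈ normalizer (F.subR : Set G), y = o * n by
    obtain ⟨o, ho, n, hn, rfl⟩ := key y₀ hy₀
    exact ⟨a₀ * o, mul_mem ha₀ ho, n, hn, by rw [mul_assoc]⟩
  set Y := normalizer (F.subC : Set G)
  have hYH : Y ≤ centralizer ({F.z} : Set G) := F.normalizer_C_le hT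
  have hRY : normalizer (F.subR : Set G) ≤ Y := F.normalizer_R_le hT
  have hSY : (S : Subgroup G) ≤ Y := (F.T_le_normalizer_R hT).trans hRY
  let W : Sylow 2 Y := S.subtype hSY
  let B : Subgroup Y := F.subQ.subgroupOf Y
  have hQS : F.subQ ≤ (S : Subgroup G) := F.sub_le _
  have hBW : B ≤ (W : Subgroup Y) := fun x hx => hQS hx
  have hBidx : (B.subgroupOf (W : Subgroup Y)).index = 2 := by
    have h1 := card_mul_index (B.subgroupOf (W : Subgroup Y))
    rw [Nat.card_congr (subgroupOfEquivOfLe hBW).toEquiv,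
      Nat.card_congr (subgroupOfEquivOfLe (hQS.trans hSY)).toEquiv,
      show Nat.card (W : Subgroup Y) = Nat.card (S : Subgroup G) from
        Nat.card_congr (subgroupOfEquivOfLe hSY).toEquiv] at h1
    have h2 := card_mul_index (F.subQ.subgroupOf (S : Subgroup G))
    rw [hT.index_Q, Nat.card_congr (subgroupOfEquivOfLe hQS).toEquiv] at h2
    have hpos : 0 < Nat.card F.subQ := Nat.card_pos
    nlinarith
  obtain ⟨N, hN, hN2, hNW⟩ := exists_normal_index_two W B
    (fun y x hx hyx => closed_Q S F hA (hYH y.2) hx hyx) hBidx hBW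
  have hQN : ∀ x : Y, (x : G) ∈ F.subQ → x ∈ N := fun x hx => (hNW.ge (show x ∈ B from hx)).1
  -- the group modulo the centre of the central product
  let ι : N →* G := Y.subtype.comp N.subtype
  have hι : Function.Injective ι := fun a b e => Subtype.ext (Subtype.ext e)
  let C₁ : Subgroup N := F.subC.comap ι
  haveI hC₁ : C₁.Normal := ⟨fun x hx n => (mem_normalizer_iff.1 (n : Y).2 (ι x)).1 hx⟩
  let φ := QuotientGroup.mk' C₁
  have hφs : Function.Surjective φ := QuotientGroup.mk'_surjective _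
  have hφ1 : ∀ x : N, φ x = 1 ↔ ι x ∈ F.subC := fun x => QuotientGroup.eq_one_iff x
  have hCQ : F.subC ≤ F.subQ := hT.C_le_R.trans hT.R_le_Q
  -- membership in images
  have hmap : ∀ (L : Subgroup G), F.subC ≤ L → ∀ x : N, φ x ∈ (L.comap ι).map φ ↔ ι x ∈ L := by
    intro L hL x
    refine ⟨fun ⟨l, hl, e⟩ => ?_, fun h => ⟨x, h, rfl⟩⟩
    have h1 : ι (l⁻¹ * x) ∈ F.subC := (hφ1 _).1 (by rw [map_mul, map_inv, e, inv_mul_cancel])
    have := mul_mem (show ι l ∈ L from hl) (hL h1)
    rwa [map_mul, map_inv, mul_inv_cancel_left] at this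
  have liftN : ∀ x : G, x ∈ F.subQ → ∃ n : N, ι n = x := fun x hx =>
    ⟨⟨⟨x, hSY (hQS hx)⟩, hQN _ hx⟩, rfl⟩
  have hQ2 : IsPGroup 2 (F.subQ.comap ι) := (S.2.to_le hQS).comap_of_injective ι hι
  have hQcard : Nat.card (F.subQ.comap ι) = Nat.card F.subQ := by
    refine Nat.card_congr (Equiv.ofBijective (fun x => (⟨ι x, x.2⟩ : F.subQ)) ⟨fun a b e => by
      have := congrArg Subtype.val e
      exact Subtype.ext (hι this), fun x => ?_⟩)
    obtain ⟨n, hn⟩ := liftN x x.2
    exact ⟨⟨n, show ι n ∈ F.subQ from hn ▸ x.2⟩, Subtype.ext hn⟩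
  have hQidx : ¬ 2 ∣ (F.subQ.comap ι).index := by
    have h1 := card_mul_index (F.subQ.comap ι)
    rw [hQcard] at h1
    have h2 := card_mul_index N
    rw [hN2] at h2
    have h3 := card_mul_index (W : Subgroup Y)
    rw [show Nat.card (W : Subgroup Y) = Nat.card (S : Subgroup G) from
      Nat.card_congr (subgroupOfEquivOfLe hSY).toEquiv] at h3
    have h4 := card_mul_index (F.subQ.subgroupOf (S : Subgroup G))
    rw [hT.index_Q, Nat.card_congr (subgroupOfEquivOfLe hQS).toEquiv] at h4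
    have hpos : 0 < Nat.card F.subQ := Nat.card_pos
    have e : (F.subQ.comap ι).index = (W : Subgroup Y).index := by nlinarith
    rw [e]; exact W.not_dvd_index
  let P : Sylow 2 N := hQ2.toSylow hQidx
  let PX := P.mapSurjective hφs
  have hPX : (PX : Subgroup (N ⧸ C₁)) = (F.subQ.comap ι).map φ := rfl
  have hmemP : ∀ x, x ∈ (PX : Subgroup (N ⧸ C₁)) → ∃ n : N, ι n ∈ F.subQ ∧ φ n = x := by
    rintro _ ⟨n, hn, rfl⟩; exact ⟨n, hn, rfl⟩
  set R' := (F.subR.comap ι).map φ with hR'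
  have memR : ∀ x : N, φ x ∈ R' ↔ ι x ∈ F.subR := hmap _ hT.C_le_R
  have memQ : ∀ x : N, φ x ∈ (PX : Subgroup (N ⧸ C₁)) ↔ ι x ∈ F.subQ := hmap _ hCQ
  have normR : ∀ n : N, φ n ∈ normalizer (R' : Set (N ⧸ C₁)) → ι n ∈ normalizer (F.subR : Set G) := by
    intro n hn
    refine Invol.mem_normalizer_iff_of_finite fun r hr => ?_
    obtain ⟨m, rfl⟩ := liftN r (hT.R_le_Q hr)
    have := (mem_normalizer_iff.1 hn (φ m)).1 ((memR m).2 hr)
    rw [← map_inv, ← map_mul, ← map_mul, memR] at this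
    simpa using this
  have commφ : ∀ a b : N, φ a * φ b = φ b * φ a ↔ ι a * ι b * (ι a)⁻¹ * (ι b)⁻¹ ∈ F.subC := by
    intro a b
    rw [← mul_inv_eq_one, ← map_mul, ← map_mul, ← map_inv, ← map_mul, hφ1]
    simp [mul_assoc]
  have hsp := isSp_spGrp S F hA hS
  have h8 := t8_spGrp S F hA hS
  have h16 := not_dvd_spGrp S F hA hS
  have h4 := h4_spGrp S F hA hS
  have hfixed : ∀ (n : normalizer (F.subR : Set G)) (r : G), r ∈ F.subR →
      ((n : G) * r * (n : G)⁻¹ * r⁻¹ ∈ F.subC ↔ F.act hT hS n (F.vec hT hS r) = F.vec hT hS r) := by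
    intro n r hr
    rw [F.act_apply hT hS n hr, ← F.vecN_eq_zero hT hS (mul_mem (F.conj_R_mem hT hS n.2 hr) (inv_mem hr)),
      F.vecN_mul hT hS (F.conj_R_mem hT hS n.2 hr) (inv_mem hr)]
    have h2 := F.vecN_mul hT hS hr (inv_mem hr)
    rw [mul_inv_cancel, (F.vecN_eq_zero hT hS (one_mem _)).2 (one_mem _)] at h2
    rw [Nat.xor_eq_zero_iff, ← Nat.xor_eq_zero_iff.1 h2.symm]
    exact ⟨fun e => Fin.ext e, fun e => congrArg Fin.val e⟩
  have hx : ∀ (n : N) (hn : φ n ∈ normalizer (R' : Set (N ⧸ C₁))), Odd (orderOf (φ n)) →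
      Odd (orderOf (F.act hT hS ⟨ι n, normR n hn⟩)) := by
    intro n hn ho
    refine ho.of_dvd_nat (orderOf_dvd_of_pow_eq_one ?_)
    rw [← map_pow]
    refine F.act_eq_one_of_mem hT hS (hT.C_le_R ?_)
    rw [SubmonoidClass.coe_pow, ← map_pow]
    exact (hφ1 _).1 (by rw [map_pow, pow_orderOf_eq_one])
  have key := normalizer_sup_oddCore_eq_top' PX (R := R') ?hsc ?hc ?he ?hself ?hfree ?h8 ?hNS ?hu ?hout
  case hsc =>
    refine ⟨map_mono fun x hx => hT.R_le_Q hx, ?_⟩
    rintro _ ⟨r, hr, rfl⟩ q hq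
    obtain ⟨n, rfl⟩ := hφs q
    rw [← map_inv, ← map_mul, ← map_mul] at hq ⊢
    rw [memQ] at hq
    rw [memR]
    simp only [map_mul, map_inv] at hq ⊢
    exact closed_R S F hA (hYH (n : Y).2) hr (hQS hq)
  case hc =>
    rintro _ ⟨a, ha, rfl⟩ _ ⟨b, hb, rfl⟩
    rw [commφ]
    exact (F.act_eq_one_iff hT hS ⟨ι a, le_normalizer ha⟩).1 (F.act_eq_one_of_mem hT hS ha) _ hb
  case he =>
    rintro _ ⟨a, ha, rfl⟩
    rw [← map_pow, hφ1, map_pow, pow_two, ← F.vecN_eq_iff hT hS ha ha]
  case hself =>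
    intro s hs hcomm
    obtain ⟨n, hn, rfl⟩ := hmemP s hs
    refine (memR n).2 (mem_R_of_act S F hA hS (n := ⟨ι n, F.T_le_normalizer_R hT (hQS hn)⟩)
      (hQS hn) ((F.act_eq_one_iff hT hS _).2 fun r hr => ?_))
    obtain ⟨m, rfl⟩ := liftN r (hT.R_le_Q hr)
    exact (commφ n m).1 (hcomm _ ((memR m).2 hr))
  case hfree =>
    intro q hq ho r hr hr1 hqr r' hr'
    obtain ⟨n, rfl⟩ := hφs q
    obtain ⟨a, ha, rfl⟩ := hr
    obtain ⟨b, hb, rfl⟩ := hr'
    have hne : F.vec hT hS (ι a) ≠ 0 := fun e => hr1 ((hφ1 a).2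
      ((F.vecN_eq_zero hT hS ha).1 (congrArg Fin.val e)))
    have h := SpFour.pow_four_of_fixed hsp h8 h16 h4 ⟨⟨ι n, normR n hq⟩, rfl⟩ hne
      ((hfixed ⟨ι n, normR n hq⟩ _ ha).1 ((commφ n a).1 hqr))
    have h1 : F.act hT hS ⟨ι n, normR n hq⟩ = 1 := orderOf_eq_one_iff.1
      (Nat.eq_one_of_dvd_coprimes (Nat.Coprime.pow_right 2 (Nat.coprime_two_right.2 (hx n hq ho)))
        dvd_rfl (orderOf_dvd_of_pow_eq_one h))
    exact (commφ n b).2 ((F.act_eq_one_iff hT hS _).1 h1 _ hb)
  case h8 =>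
    have e : Nat.card R' = 16 := by
      refine (Nat.card_congr (Equiv.ofBijective
        (fun v : Fin 16 => (⟨φ (liftN _ (hT.R_le_Q (F.rep_mem hT hS v))).choose,
          (memR _).2 (by rw [(liftN _ (hT.R_le_Q (F.rep_mem hT hS v))).choose_spec]
                         exact F.rep_mem hT hS v)⟩ : R')) ⟨fun v w e => ?_, fun x => ?_⟩)).symm.trans
        (Nat.card_fin 16)
      · have e' := congrArg Subtype.val e
        simp only at e'
        rw [← inv_mul_eq_one, ← map_inv, ← map_mul, hφ1, map_mul, map_inv,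
          (liftN _ (hT.R_le_Q (F.rep_mem hT hS v))).choose_spec,
          (liftN _ (hT.R_le_Q (F.rep_mem hT hS w))).choose_spec,
          ← F.vecN_eq_zero hT hS (mul_mem (inv_mem (F.rep_mem hT hS v)) (F.rep_mem hT hS w)),
          F.vecN_mul hT hS (inv_mem (F.rep_mem hT hS v)) (F.rep_mem hT hS w)] at e'
        have h2 := F.vecN_mul hT hS (inv_mem (F.rep_mem hT hS v)) (F.rep_mem hT hS v)
        rw [inv_mul_cancel, (F.vecN_eq_zero hT hS (one_mem _)).2 (one_mem _)] at h2
        rw [Nat.xor_eq_zero_iff.1 h2.symm, Nat.xor_eq_zero_iff, F.vecN_rep hT hS,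
          F.vecN_rep hT hS] at e'
        exact Fin.ext e'
      · obtain ⟨_, r, hr, rfl⟩ := x
        refine ⟨F.vec hT hS (ι r), Subtype.ext ?_⟩
        show φ _ = φ r
        rw [← inv_mul_eq_one, ← map_inv, ← map_mul, hφ1, map_mul, map_inv,
          (liftN _ (hT.R_le_Q (F.rep_mem hT hS (F.vec hT hS (ι r))))).choose_spec,
          ← F.vecN_eq_zero hT hS (mul_mem (inv_mem (F.rep_mem hT hS _)) hr),
          F.vecN_mul hT hS (inv_mem (F.rep_mem hT hS _)) hr]
        have h2 := F.vecN_mul hT hS (inv_mem (F.rep_mem hT hS (F.vec hT hS (ι r)))) (F.rep_mem hT hS (F.vec hT hS (ι r)))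
        rw [inv_mul_cancel, (F.vecN_eq_zero hT hS (one_mem _)).2 (one_mem _), F.vecN_rep hT hS] at h2
        exact h2.symm
    omega
  case hNS =>
    intro q hq
    refine Invol.mem_normalizer_iff_of_finite fun x hx => ?_
    obtain ⟨r, hr, rfl⟩ := hx
    obtain ⟨n, rfl⟩ := hφs q
    have h := (mem_normalizer_iff.1 hq (φ r)).1 ((memQ r).2 (hT.R_le_Q hr))
    rw [← map_inv, ← map_mul, ← map_mul] at h ⊢
    rw [memQ] at h
    rw [memR]
    simp only [map_mul, map_inv] at h ⊢
    exact closed_R S F hA (hYH (n : Y).2) hr (hQS h)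
  case hu =>
    intro u hu huo huR
    obtain ⟨q, hq, rfl⟩ := hmemP u hu
    let qn : normalizer (F.subR : Set G) := ⟨ι q, F.T_le_normalizer_R hT (hQS hq)⟩
    have hv4 : SpFour.cd (F.act hT hS qn) ∈ SpFour.v4 := cd_act_Q S F hA hS hq
    have ht1 : F.act hT hS qn ≠ 1 := fun e => huR ((memR q).2 (mem_R_of_act S F hA hS (hQS hq) e))
    refine ⟨?_, fun c hc hc1 huc n hn hnu => ?_⟩
    · obtain ⟨a, b, ha, hb, hab, hfa, hfb⟩ := SpFour.exists_two_fixed hv4
      obtain ⟨p, hp⟩ := liftN _ (hT.R_le_Q (F.rep_mem hT hS a))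
      obtain ⟨p', hp'⟩ := liftN _ (hT.R_le_Q (F.rep_mem hT hS b))
      have hne : ∀ (v : Fin 16) (m : N), ι m = F.rep hT hS v → v ≠ 0 → φ m ≠ 1 := fun v m hm hv e =>
        hv (Fin.ext (by
          rw [← F.vecN_rep hT hS v, ← hm]
          exact (F.vecN_eq_zero hT hS (hm ▸ F.rep_mem hT hS v)).2 ((hφ1 m).1 e)))
      have hcomm : ∀ (v : Fin 16) (m : N), ι m = F.rep hT hS v → F.act hT hS qn v = v →
          Commute (φ q) (φ m) := fun v m hm hv => (commφ q m).2 (by
        rw [hm]; exact (hfixed qn _ (F.rep_mem hT hS v)).2 (by rwa [F.vec_rep]))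
      refine ⟨φ p, (memR p).2 (hp ▸ F.rep_mem hT hS a), φ p', (memR p').2 (hp' ▸ F.rep_mem hT hS b),
        hne a p hp ha, hne b p' hp' hb, fun e => hab ?_, hcomm a p hp hfa, hcomm b p' hp' hfb⟩
      rw [← mul_inv_eq_one, ← map_inv, ← map_mul, hφ1, map_mul, map_inv, hp, hp',
        ← F.vecN_eq_zero hT hS (mul_mem (F.rep_mem hT hS a) (inv_mem (F.rep_mem hT hS b))),
        F.vecN_mul hT hS (F.rep_mem hT hS a) (inv_mem (F.rep_mem hT hS b))] at e
      have h2 := F.vecN_mul hT hS (F.rep_mem hT hS b) (inv_mem (F.rep_mem hT hS b))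
      rw [mul_inv_cancel, (F.vecN_eq_zero hT hS (one_mem _)).2 (one_mem _)] at h2
      rw [← Nat.xor_eq_zero_iff.1 h2.symm, Nat.xor_eq_zero_iff, F.vecN_rep hT hS,
        F.vecN_rep hT hS] at e
      exact Fin.ext e
    obtain ⟨r, hr, rfl⟩ := hc
    obtain ⟨m, rfl⟩ := hφs n
    set mn : normalizer (F.subR : Set G) := ⟨ι m, normR m hn⟩ with hmn
    have hxt : F.act hT hS mn * F.act hT hS qn = F.act hT hS qn * F.act hT hS mn := by
      rw [← mul_inv_eq_iff_eq_mul, ← mul_inv_eq_one, ← map_inv, ← map_inv, ← map_mul, ← map_mul,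
        ← map_mul]
      refine F.act_eq_one_of_mem hT hS (hT.C_le_R ?_)
      push_cast
      exact (commφ m q).1 (mul_inv_eq_iff_eq_mul.1 hnu)
    rcases SpFour.centralizer_cases hsp h8 h16 h4 ⟨mn, rfl⟩ hv4 ht1 hxt with ⟨hx4, hxv, hxn⟩ | hfix
    · exfalso
      -- the image of the part in the subgroup of index two has a Sylow subgroup of order four
      let NR : Subgroup (normalizer (F.subR : Set G)) := (N.map Y.subtype).subgroupOf _
      let Pv : Subgroup (Equiv.Perm (Fin 16)) :=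
        (F.subQ.subgroupOf (normalizer (F.subR : Set G))).map (F.act hT hS)
      set x := F.act hT hS mn
      have hPv : ∀ y ∈ Pv, SpFour.cd y ∈ SpFour.v4 := by
        rintro _ ⟨y, hy, rfl⟩; exact cd_act_Q S F hA hS hy
      have hPv' : ∀ c ∈ SpFour.v4, ∃ y ∈ Pv, SpFour.cd y = c := fun c hc => by
        obtain ⟨y, hy, e⟩ := exists_Q_of_v4 S F hA hS hc
        exact ⟨_, ⟨y, hy, rfl⟩, e⟩
      have hxP : x ∈ normalizer (Pv : Set (Equiv.Perm (Fin 16))) :=
        Invol.mem_normalizer_iff_of_finite fun y hy => by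
          obtain ⟨c', hc', u', hu', e⟩ := hxn _ (hPv y hy) y rfl
          obtain ⟨y', hy', ey⟩ := hPv' c' hc'
          rw [e, mul_inv_cancel_right, SpFour.cd_inj (hu'.trans ey.symm)]
          exact hy'
      have hxP' : x ∉ Pv := fun h => hxv (hPv x h)
      have hp2 : IsPGroup 2 Pv := ((S.2.to_le hQS).comap_of_injective _ (Subtype.val_injective)).map _
      have hz : IsPGroup 2 (zpowers x) := fun w => ⟨2, Subtype.ext (by
        obtain ⟨j, hj⟩ := mem_zpowers_iff.1 w.2
        rw [SubmonoidClass.coe_pow, ← hj, ← zpow_natCast, ← zpow_mul, mul_comm, zpow_mul,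
          zpow_natCast, show (2 : ℕ) ^ 2 = 4 from rfl, hx4, one_zpow, OneMemClass.coe_one])⟩
      set D := zpowers x ⊔ Pv
      have hD : IsPGroup 2 D := hz.to_sup_of_normal_right' hp2 (zpowers_le.2 hxP)
      have h4P : 4 ≤ Nat.card Pv := by
        have hle : SpFour.v4.toFinset.card ≤ Nat.card Pv := by
          classical
          haveI := Fintype.ofFinite Pv
          rw [Nat.card_eq_fintype_card]
          refine le_trans (Finset.card_le_card ?_)
            (Finset.card_image_le (f := fun y : Pv => SpFour.cd y) (s := Finset.univ))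
          intro c hc
          obtain ⟨y, hy, e⟩ := hPv' c (List.mem_toFinset.1 hc)
          exact Finset.mem_image.2 ⟨⟨y, hy⟩, Finset.mem_univ _, e⟩
        rwa [show SpFour.v4.toFinset.card = 4 by decide +kernel] at hle
      have hlt : Nat.card Pv < Nat.card D := by
        refine lt_of_le_of_ne (card_le_of_le le_sup_right) fun e => hxP' ?_
        rw [eq_of_le_of_card_ge (le_sup_right : Pv ≤ D) e.ge]
        exact mem_sup_left (mem_zpowers x)
      obtain ⟨k, hk⟩ := IsPGroup.iff_card.1 hD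
      have h8D : 8 ∣ Nat.card D := by
        rw [hk, show (8 : ℕ) = 2 ^ 3 by norm_num]
        refine pow_dvd_pow 2 ?_
        by_contra h
        have : 2 ^ k ≤ 2 ^ 2 := Nat.pow_le_pow_right (by norm_num) (by omega)
        omega
      have hDI : D ≤ NR.map (F.act hT hS) := sup_le (zpowers_le.2 ⟨mn, ⟨(m : Y), m.2, rfl⟩, rfl⟩)
        (map_mono fun y hy => ⟨⟨y, hSY (hQS hy)⟩, hQN _ hy, rfl⟩)
      have hdiv : 8 ∣ Nat.card (NR.map (F.act hT hS)) := h8D.trans (card_dvd_of_le hDI)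
      have h1 := card_mul_index ((F.act hT hS).comp NR.subtype).ker
      rw [index_ker, show ((F.act hT hS).comp NR.subtype).range = NR.map (F.act hT hS) by
        rw [MonoidHom.range_comp, range_subtype]] at h1
      have h64 : 64 ∣ Nat.card ((F.act hT hS).comp NR.subtype).ker := by
        let RN : Subgroup NR := (F.subR.comap ((normalizer (F.subR : Set G)).subtype.comp NR.subtype))
        have hRN : Nat.card RN = 64 := by
          rw [← hT.card_R]
          refine Nat.card_congr (Equiv.ofBijective (fun y => (⟨((y : NR) : G), y.2⟩ : F.subR))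
            ⟨fun a b e => by
              have := congrArg Subtype.val e
              exact Subtype.ext (Subtype.ext (Subtype.ext this)), fun y => ?_⟩)
          exact ⟨⟨⟨⟨y, le_normalizer y.2⟩, ⟨⟨y, hSY (F.sub_le _ y.2)⟩, hQN _ (hT.R_le_Q y.2), rfl⟩⟩,
            y.2⟩, rfl⟩
        rw [← hRN]
        exact card_dvd_of_le fun y hy => F.act_eq_one_of_mem hT hS hy
      have h512 : 512 ∣ Nat.card NR := h1 ▸ (show (512 : ℕ) = 64 * 8 by norm_num) ▸ Nat.mul_dvd_mul h64 hdiv
      have hN512 : 512 ∣ Nat.card N := by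
        refine h512.trans ?_
        rw [← card_map_of_injective (normalizer (F.subR : Set G)).subtype_injective (K := NR),
          ← card_map_of_injective Y.subtype_injective (K := N)]
        exact card_dvd_of_le (by rintro _ ⟨y, hy, rfl⟩; exact hy)
      have h2 := card_mul_index N
      rw [hN2] at h2
      have h3 := card_mul_index (W : Subgroup Y)
      rw [show Nat.card (W : Subgroup Y) = Nat.card (S : Subgroup G) from
        Nat.card_congr (subgroupOfEquivOfLe hSY).toEquiv, F.card_T] at h3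
      refine W.not_dvd_index (Nat.dvd_of_mul_dvd_mul_left (show 0 < 512 by norm_num) ?_)
      rw [h3, ← h2]
      exact Nat.mul_dvd_mul hN512 dvd_rfl
    · rw [← mul_inv_eq_one, ← map_inv, ← map_inv, ← map_mul, ← map_mul, ← map_mul, hφ1]
      simp only [map_mul, map_inv]
      exact (hfixed mn _ hr).2 (hfix _ ((hfixed qn _ hr).1 ((commφ q r).1 huc)))
  case hout =>
    obtain ⟨u, hu, huR, hu2⟩ := hT.outer_R
    obtain ⟨m, rfl⟩ := liftN u hu
    refine ⟨φ m, (memQ m).2 hu, Invol.invol_of_mul_self ?_ ?_, fun e => huR ((memR m).1 e)⟩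
    · rw [← map_mul, hφ1, map_mul]; exact hu2
    · exact fun e => huR (hT.C_le_R ((hφ1 m).1 e))
  -- lift the factorization
  set K := (Cfsg.oddCore (N ⧸ C₁)).comap φ with hK
  have hCK : C₁ ≤ K := fun w hw => by
    rw [hK, mem_comap]
    rw [(hφ1 w).2 hw]
    exact one_mem _
  have hCidx : (C₁.subgroupOf K).index = Nat.card (Cfsg.oddCore (N ⧸ C₁)) := by
    have h1 := card_mul_index K
    rw [hK, index_comap_of_surjective _ hφs] at h1
    have h2 := card_eq_card_quotient_mul_card_subgroup C₁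
    have h3 := card_mul_index (Cfsg.oddCore (N ⧸ C₁))
    have h4' := card_mul_index (C₁.subgroupOf K)
    rw [Nat.card_congr (subgroupOfEquivOfLe hCK).toEquiv] at h4'
    have hpos : 0 < (Cfsg.oddCore (N ⧸ C₁)).index := Nat.pos_of_ne_zero index_ne_zero_of_finite
    have hpos2 : 0 < Nat.card C₁ := Nat.card_pos
    rw [← hK, ← h4', h2, ← h3] at h1
    exact Nat.eq_of_mul_eq_mul_left hpos2 (Nat.eq_of_mul_eq_mul_right hpos (by linarith))
  have hC4 : Nat.card (C₁.subgroupOf K) = 4 := by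
    rw [Nat.card_congr (subgroupOfEquivOfLe hCK).toEquiv, ← hT.card_C]
    refine Nat.card_congr (Equiv.ofBijective (fun x => (⟨ι x, x.2⟩ : F.subC)) ⟨fun a b e => by
      have := congrArg Subtype.val e
      exact Subtype.ext (hι this), fun x => ?_⟩)
    obtain ⟨n, hn⟩ := liftN x (hCQ x.2)
    exact ⟨⟨n, show ι n ∈ F.subC from hn ▸ x.2⟩, Subtype.ext hn⟩
  obtain ⟨M, hMn, hcompl⟩ := Transfer.exists_normal_complement_of_normalizer_le_centralizer
    (C₁.subgroupOf K) (by
      rw [hC4, hCidx, show (4 : ℕ) = 2 ^ 2 by norm_num]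
      exact Nat.Coprime.pow_left 2 (Nat.coprime_two_left.2 (Invol.odd_card_oddCore _)))
    (fun k _ => mem_centralizer_iff.2 fun w hw => by
      have ho : Odd (Nat.card (Cfsg.oddCore (N ⧸ C₁))) := Invol.odd_card_oddCore _
      have hk : ι (k : N) ^ Nat.card (Cfsg.oddCore (N ⧸ C₁)) ∈ F.subC := by
        rw [← map_pow, ← hφ1, map_pow]
        exact congrArg Subtype.val (pow_card_eq_one' (x := (⟨φ k, k.2⟩ : Cfsg.oddCore (N ⧸ C₁))))
      exact Subtype.ext (hι (by
        rw [Subgroup.coe_mul, Subgroup.coe_mul, map_mul, map_mul]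
        exact (F.commute_C_of_odd ((k : N) : Y).2 hT.z_mem_C ho
          (fun x hx => hT.C_central _ hk x (hT.C_le_R hx)) _ hw).symm)))
  have hMo : Odd (Nat.card M) := by
    rw [← hcompl.index_eq_card, hCidx]; exact Invol.odd_card_oddCore _
  haveI : K.Normal := by rw [hK]; infer_instance
  haveI : (Cfsg.oddCore K).Characteristic := Solvable.pPrimeCore_characteristic 2 K
  haveI : (Cfsg.oddCore N).Characteristic := Solvable.pPrimeCore_characteristic 2 N
  have hcore : ∀ o : K, o ∈ M → ι o ∈ Cfsg.centralizerPPrimeCore 2 F.z := by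
    intro o ho
    have h1 : (o : N) ∈ Cfsg.oddCore N :=
      Invol.le_oddCore (N := (Cfsg.oddCore K).map K.subtype) inferInstance (by
        rw [card_map_of_injective K.subtype_injective]; exact Invol.odd_card_oddCore _)
        ⟨o, Invol.le_oddCore hMn hMo ho, rfl⟩
    refine oddCore_normalizer_C_le S F hA hS (o := ((o : N) : Y)) ?_
    exact Invol.le_oddCore (N := (Cfsg.oddCore N).map N.subtype) inferInstance (by
      rw [card_map_of_injective N.subtype_injective]; exact Invol.odd_card_oddCore _)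
      ⟨o, h1, rfl⟩
  have hfac : ∀ n : N, ∃ o ∈ Cfsg.centralizerPPrimeCore 2 F.z,
      ∃ a ∈ normalizer (F.subR : Set G), ι n = o * a := by
    intro n
    have hn : φ n ∈ normalizer (R' : Set (N ⧸ C₁)) ⊔ Cfsg.oddCore (N ⧸ C₁) := key ▸ mem_top _
    haveI : (Cfsg.oddCore (N ⧸ C₁)).Characteristic := Solvable.pPrimeCore_characteristic 2 _
    rw [← SetLike.mem_coe, mul_normal] at hn
    obtain ⟨q, hq, o', ho', e⟩ := hn
    obtain ⟨m, rfl⟩ := hφs q
    have hk : m⁻¹ * n ∈ K := by
      rw [hK, mem_comap, map_mul, map_inv, ← e, inv_mul_cancel_left]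
      exact ho'
    obtain ⟨⟨⟨o, ho⟩, ⟨w, hw⟩⟩, how, -⟩ := hcompl.existsUnique ⟨_, hk⟩
    have how' : ι (m⁻¹ * n) = ι (o : N) * ι (w : N) := by
      rw [← map_mul]; exact congrArg ι (congrArg Subtype.val how).symm
    rw [map_mul, map_inv, inv_mul_eq_iff_eq_mul, ← mul_assoc] at how'
    have hm := normR m hq
    refine ⟨ι m * ι (o : N) * (ι m)⁻¹, core_conj_self (hYH (m : Y).2) (hcore o ho), ι m * ι (w : N),
      mul_mem hm (le_normalizer (hT.C_le_R hw)), ?_⟩
    rw [how']; group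
  intro y hy
  by_cases hyN : (⟨y, hy⟩ : Y) ∈ N
  · exact hfac ⟨_, hyN⟩
  · obtain ⟨s, hs, hsQ⟩ : ∃ s ∈ (S : Subgroup G), s ∉ F.subQ := by
      by_contra h
      push Not at h
      have := hT.index_Q
      rw [subgroupOf_eq_top.2 h, index_top] at this
      norm_num at this
    have hsN : (⟨s, hSY hs⟩ : Y) ∉ N := fun h => hsQ (hNW.le ⟨h, hs⟩)
    have h : (⟨y, hy⟩ : Y) * (⟨s, hSY hs⟩ : Y)⁻¹ ∈ N := by
      refine (mul_mem_iff_of_index_two hN2).2 (iff_of_false hyN fun h => hsN ?_)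
      exact inv_mem_iff.1 h
    obtain ⟨o, ho, a, ha, e⟩ := hfac ⟨_, h⟩
    refine ⟨o, ho, a * s, mul_mem ha (F.T_le_normalizer_R hT hs), ?_⟩
    have e' : y * s⁻¹ = o * a := e
    rw [← mul_assoc, ← e', inv_mul_cancel_right]

end CfsgLib.SylHS
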