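import Cfsg.Agent.Lib.SylHS.Code

/-!
Further masks in the table: the index-two subgroup over the first candidate, the centre of the
central product, and coordinates on the central product modulo its centre.
-/

set_option autoImplicit false
set_option maxRecDepth 100000

namespace CfsgLib.SylHS

/-- The subgroup of index two generated by the first candidate and the Frattini subgroup. -/
def bMask : ℕ := 0x55555555555555555555555555555555555555555555555555555555555555555555555555555555555555555555555555555555555555555555555555555555

/-- The centre of the central product. -/
def cMask : ℕ := 0x1000000000000000000000000000000010000000000000000000000000000000100000000000000000000000000000001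

/-- The index of a generator of the centre of the central product. -/
def cIdx : ℕ := 128

/-- The representative in the central product of a vector of the symplectic space. -/
def rVal (v : ℕ) : ℕ := [0, 48, 8, 56, 104, 88, 96, 80, 24, 40, 16, 32, 112, 64, 120, 72].getD v 0

/-- The vector of an element of the central product. -/
def rVec (x : ℕ) : ℕ :=
  ((List.range 16).find? fun v => mem cMask (mt (iv (rVal v)) x)).getD 0

/-- The code of the action of an index on the vectors. -/
def actCode (s : ℕ) : ℕ :=
  (List.range 16).foldl (fun acc v => acc + (rVec (cj s (rVal v))) <<< (4 * v)) 0

end CfsgLib.SylHS
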