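import Cfsg.Agent.Lib.SylHS.SpData
import Mathlib

/-!
Groups of symplectic maps of a space of dimension four over the field with two elements with the
given dihedral Sylow subgroup and subgroup of order 24.
-/

set_option autoImplicit false
set_option maxRecDepth 100000

namespace CfsgLib.SylHS.SpFour

/-- Evaluate a number before handing it on. -/
def force {α : Type} (n : ℕ) (f : ℕ → α) : α :=
  match n with
  | 0 => f 0
  | k + 1 => f (k + 1)

/-- The value of a code. -/
def app (c v : ℕ) : ℕ := (c >>> (4 * v)) % 16

/-- The code of a list of values. -/
def encode (f : ℕ → ℕ) : ℕ := (List.range 16).foldl (fun acc v => acc + (f v) <<< (4 * v)) 0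

/-- Composition. -/
def comp (a b : ℕ) : ℕ := force a fun a => force b fun b => encode fun v => app a (app b v)

/-- The symplectic form. -/
def form (a b : ℕ) : Bool :=
  ((a.testBit 0 && b.testBit 1) ^^ (a.testBit 1 && b.testBit 0)) ^^
    ((a.testBit 2 && b.testBit 3) ^^ (a.testBit 3 && b.testBit 2))

/-- The code of the linear extension of four values. -/
def extend (a b c d : ℕ) : ℕ :=
  encode fun v => (if v.testBit 0 then a else 0) ^^^ (if v.testBit 1 then b else 0) ^^^
    (if v.testBit 2 then c else 0) ^^^ (if v.testBit 3 then d else 0)

/-- The identity. -/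
def idc : ℕ := encode id

/-- The codes of the symplectic maps. -/
def spList : List ℕ :=
  (List.range 16).flatMap fun a =>
  ((List.range 16).filter fun b => form a b).flatMap fun b =>
  ((List.range 16).filter fun c => !form a c && !form b c).flatMap fun c =>
  ((List.range 16).filter fun d => !form a d && !form b d && form c d).map fun d => extend a b c d

/-- The product of the atoms named in a word. -/
def word (g : ℕ) (w : List ℕ) : ℕ :=
  w.foldl (fun acc i => comp acc (if Nat.beq i 0 then g else h4.getD (i - 1) idc)) idc

/-- Membership. -/
def has (l : List ℕ) (x : ℕ) : Bool := l.any fun y => Nat.beq y x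

/-- The product witnesses a larger power of two. -/
def enlarges (g : ℕ) (w : List ℕ) : Bool :=
  force (word g w) fun x =>
  force (comp x x) fun x2 =>
  force (comp x2 x2) fun x4 =>
  force (comp x4 x4) fun x8 =>
  !has t8 x && Nat.beq (comp x8 x8) idc &&
    t8.all fun t => force (comp x t) fun a => t8.any fun t' => Nat.beq a (comp t' x)

/-- The two overgroups. -/
def five (k : Bool) : List (ℕ × ℕ) := if k then five1 else five0

/-- Composition of coded maps of five points. -/
def comp5 (a b : ℕ) : ℕ :=
  (List.range 5).foldl (fun acc i => acc + (((a >>> (3 * ((b >>> (3 * i)) % 8))) % 8) <<< (3 * i))) 0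

end CfsgLib.SylHS.SpFour
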