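import Cfsg.Agent.Lib.SylHS.Frame
import Cfsg.Agent.Lib.SylHS.Masks
import Cfsg.Agent.Lib.SylHS.SpDefs

/-!
The properties of the distinguished subgroups of the Sylow subgroup that the fusion argument uses.
-/

set_option autoImplicit false
set_option maxRecDepth 100000

namespace CfsgLib.SylHS

open Subgroup

universe u

variable {G : Type u} [Group G] {T : Subgroup G}

namespace Frame

variable (F : Frame T)

/-- The elementary abelian subgroup of order 8. -/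
def subV : Subgroup G := F.sub vMask
/-- The homocyclic subgroup of order 64. -/
def subA : Subgroup G := F.sub aMask
/-- The central product of order 64. -/
def subR : Subgroup G := F.sub rMask
/-- The centre of the central product. -/
def subC : Subgroup G := F.sub cMask
/-- The subgroup of index two over the candidate of order 128. -/
def subB : Subgroup G := F.sub bMask
/-- The candidate of order 128. -/
def subP : Subgroup G := F.sub p8Mask
/-- The first candidate of order 256. -/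
def subQ : Subgroup G := F.sub p11Mask
/-- The second candidate of order 256. -/
def subU : Subgroup G := F.sub p12Mask

end Frame

/-- An automorphism of `P` preserves `X`. -/
def Pres {P : Subgroup G} (α : MulAut P) (X : Subgroup G) : Prop :=
  ∀ x : P, (x : G) ∈ X → ((α x : P) : G) ∈ X

/-- What the table gives. -/
structure TableFacts (F : Frame T) : Prop where
  card_V : Nat.card F.subV = 8
  card_A : Nat.card F.subA = 64
  card_R : Nat.card F.subR = 64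
  card_C : Nat.card F.subC = 4
  card_P : Nat.card F.subP = 128
  index_B : (F.subB.subgroupOf T).index = 2
  index_Q : (F.subQ.subgroupOf T).index = 2
  z_mem_V : F.z ∈ F.subV
  z_mem_C : F.z ∈ F.subC
  V_le_A : F.subV ≤ F.subA
  V_le_R : F.subV ≤ F.subR
  C_le_R : F.subC ≤ F.subR
  R_le_Q : F.subR ≤ F.subQ
  A_le_Q : F.subA ≤ F.subQ
  A_le_U : F.subA ≤ F.subU
  P_le_B : F.subP ≤ F.subB
  P_inf_Q : F.subP ⊓ F.subQ = F.subR
  conj_V : ∀ s ∈ T, ∀ x ∈ F.subV, s * x * s⁻¹ ∈ F.subV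
  conj_A : ∀ s ∈ T, ∀ x ∈ F.subA, s * x * s⁻¹ ∈ F.subA
  conj_R : ∀ s ∈ T, ∀ x ∈ F.subR, s * x * s⁻¹ ∈ F.subR
  conj_C : ∀ s ∈ T, ∀ x ∈ F.subC, s * x * s⁻¹ ∈ F.subC
  V_comm : ∀ a ∈ F.subV, ∀ b ∈ F.subV, a * b = b * a
  V_sq : ∀ a ∈ F.subV, a ^ 2 = 1
  A_comm : ∀ a ∈ F.subA, ∀ b ∈ F.subA, a * b = b * a
  A_pow : ∀ a ∈ F.subA, a ^ 4 = 1
  A_omega : ∀ a ∈ F.subA, a * a = 1 → a ∈ F.subV
  cent_V : ∀ x ∈ T, (∀ v ∈ F.subV, x * v = v * x) → x ∈ F.subA
  A_equiv : Nonempty (F.subA ≃* Multiplicative (ZMod 4 × ZMod 4 × ZMod 4))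
  C_cyclic : IsCyclic F.subC
  C_central : ∀ c ∈ F.subC, ∀ r ∈ F.subR, c * r = r * c
  cent_R : ∀ x ∈ T, (∀ r ∈ F.subR, x * r = r * x) → x ∈ F.subC
  extraspecial : ∃ E : Subgroup G, E ≤ F.subR ∧ Cfsg.IsExtraspecial 2 E ∧ Nat.card E = 32 ∧
    F.subC ⊔ E = F.subR ∧ F.subC ⊓ E = E ⊓ centralizer (E : Set G)
  center : ∀ x ∈ T, (∀ y ∈ T, x * y = y * x) → x = 1 ∨ x = F.z
  transvection : ∀ u ∈ T, orderOf u = 2 → u ∉ F.subV →
    (∃ a ∈ F.subV, u * a * u⁻¹ * a⁻¹ ≠ 1) ∧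
    (∀ a ∈ F.subV, ∀ b ∈ F.subV, u * a * u⁻¹ * a⁻¹ ≠ 1 → u * b * u⁻¹ * b⁻¹ ≠ 1 →
      u * a * u⁻¹ * a⁻¹ = u * b * u⁻¹ * b⁻¹) ∧
    ∃ a ∈ F.subV, ∃ b ∈ F.subV, a ≠ 1 ∧ b ≠ 1 ∧ a ≠ b ∧ Commute u a ∧ Commute u b
  outer_V : ∃ u ∈ T, orderOf u = 2 ∧ u ∉ F.subV
  outer_R : ∃ u ∈ F.subQ, u ∉ F.subR ∧ u * u ∈ F.subC
  commute_R : ∀ a ∈ T, orderOf a = 2 → ∃ r ∈ F.subR, r ∉ F.subC ∧ Commute a r
  aut_top : IsPGroup 2 (MulAut T)
  autP_z : ∀ α : MulAut F.subP, ∀ x : F.subP, (x : G) = F.z → ((α x : F.subP) : G) = F.z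
  autP_R : ∀ α : MulAut F.subP, Pres α F.subR
  autQ_z : ∀ α : MulAut F.subQ, ∀ x : F.subQ, (x : G) = F.z → ((α x : F.subQ) : G) = F.z
  autQ_V : ∀ α : MulAut F.subQ, Pres α F.subV
  autQ_A : ∀ α : MulAut F.subQ, Pres α F.subA
  autQ_R : ∀ α : MulAut F.subQ, Odd (orderOf α) → Pres α F.subR
  autU_V : ∀ α : MulAut F.subU, Pres α F.subV
  autU_A : ∀ α : MulAut F.subU, Pres α F.subA
  autU_B : ∀ α : MulAut F.subU, Pres α F.subB
  autU_z : ∀ α : MulAut F.subU, Odd (orderOf α) →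
    (∀ x : F.subU, (x : G) = F.z → ((α x : F.subU) : G) = F.z) → α = 1

/-- Coordinates on the central product modulo its centre. -/
structure SpFacts (F : Frame T) : Prop where
  vec_mul : ∀ a ∈ elems rMask, ∀ b ∈ elems rMask, rVec (mt a b) = rVec a ^^^ rVec b
  vec_lt : ∀ a ∈ elems rMask, rVec a < 16
  vec_zero : ∀ a ∈ elems rMask, rVec a = 0 ↔ mem cMask a = true
  val_spec : ∀ v < 16, mem rMask (rVal v) = true ∧ rVal v < 512 ∧ rVec (rVal v) = v
  vec_comm : ∀ a ∈ elems rMask, ∀ b ∈ elems rMask,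
    (SpFour.form (rVec a) (rVec b) = true → cj a b = mt b zIdx) ∧
      (SpFour.form (rVec a) (rVec b) = false → cj a b = b)
  act_spec : ∀ s < 512, ∀ a ∈ elems rMask, rVec (cj s a) = SpFour.app (actCode s) (rVec a)
  act_mem : ∀ s < 512, actCode s ∈ SpFour.t8
  act_onto : ∀ c ∈ SpFour.t8, ∃ s < 512, actCode s = c
  act_Q : ∀ s ∈ elems p11Mask, actCode s ∈ SpFour.v4
  act_Q_onto : ∀ c ∈ SpFour.v4, ∃ s ∈ elems p11Mask, actCode s = c
  act_P : ∀ s ∈ elems p8Mask, actCode s = SpFour.idc ∨ actCode s = SpFour.tau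
  act_P_onto : ∃ s ∈ elems p8Mask, actCode s = SpFour.tau
  act_kernel : ∀ s < 512, actCode s = SpFour.idc → mem rMask s = true

end CfsgLib.SylHS
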