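import Cfsg.Agent.Lib.SylHS.FactsBasic
import Cfsg.Agent.Lib.SylHS.TableFacts
import Cfsg.Agent.Lib.SylHS.SpData

/-!
Coordinates on the central product modulo its centre.
-/

set_option autoImplicit false
set_option maxRecDepth 100000

namespace CfsgLib.SylHS

open Subgroup

universe u

theorem vec_mul_check : ((elems rMask).all fun a => (elems rMask).all fun b =>
    Nat.beq (rVec (mt a b)) (rVec a ^^^ rVec b)) = true := by decide +kernel

theorem vec_checks : ((elems rMask).all fun a => Nat.blt (rVec a) 16 &&
    (Nat.beq (rVec a) 0 == mem cMask a) &&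
    (elems rMask).all fun b => Nat.beq (cj a b)
      (bif SpFour.form (rVec a) (rVec b) then mt b zIdx else b)) = true := by decide +kernel

theorem val_check : ((List.range 16).all fun v => mem rMask (rVal v) && Nat.blt (rVal v) 512 &&
    Nat.beq (rVec (rVal v)) v) = true := by decide +kernel

/-- The coordinates, packed. -/
def rvTab : ℕ := 0xe0000000c000000040000000600000005000000070000000f0000000d0000000300000001000000090000000b000000080000000a00000002000000000000000e0000000c000000040000000600000005000000070000000f0000000d0000000300000001000000090000000b000000080000000a00000002000000000000000e0000000c000000040000000600000005000000070000000f0000000d0000000300000001000000090000000b000000080000000a00000002000000000000000e0000000c000000040000000600000005000000070000000f0000000d0000000300000001000000090000000b000000080000000a0000000200000000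

/-- The coordinates by lookup. -/
def rvL (x : ℕ) : ℕ := (rvTab >>> (4 * x)) % 16

/-- The code of the action by lookup. -/
def actF (s : ℕ) : ℕ :=
  (List.range 16).foldl (fun acc v => acc + (rvL (cj s (rVal v))) <<< (4 * v)) 0

theorem rv_check : ((elems rMask).all fun a => Nat.beq (rVec a) (rvL a)) = true := by decide +kernel

/-- A chunk of the check on the action. -/
def actChunk (k : ℕ) : Bool :=
  (List.range 64).all fun j => SpFour.force (64 * k + j) fun s => SpFour.force (actF s) fun c =>
    SpFour.has SpFour.t8 c && (!mem p11Mask s || SpFour.has SpFour.v4 c) &&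
      (!mem p8Mask s || Nat.beq c SpFour.idc || Nat.beq c SpFour.tau) &&
      (!Nat.beq c SpFour.idc || mem rMask s) &&
      (elems rMask).all fun a => mem rMask (cj s a) &&
        Nat.beq (rvL (cj s a)) (SpFour.app c (rvL a))

theorem act_check0 : actChunk 0 = true := by decide +kernel

theorem act_check1 : actChunk 1 = true := by decide +kernel

theorem act_check2 : actChunk 2 = true := by decide +kernel

theorem act_check3 : actChunk 3 = true := by decide +kernel

theorem act_check4 : actChunk 4 = true := by decide +kernel

theorem act_check5 : actChunk 5 = true := by decide +kernel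

theorem act_check6 : actChunk 6 = true := by decide +kernel

theorem act_check7 : actChunk 7 = true := by decide +kernel

theorem onto_check : ((SpFour.t8.all fun c => (List.range 512).any fun s => Nat.beq (actF s) c) &&
    (SpFour.v4.all fun c => (elems p11Mask).any fun s => Nat.beq (actF s) c) &&
    (elems p8Mask).any fun s => Nat.beq (actF s) SpFour.tau) = true := by decide +kernel

theorem force_eq {α : Type} (n : ℕ) (f : ℕ → α) : SpFour.force n f = f n := by cases n <;> rfl

theorem mem_of_has {l : List ℕ} {x : ℕ} (h : SpFour.has l x = true) : x ∈ l := by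
  obtain ⟨y, hy, e⟩ := List.any_eq_true.1 h
  rwa [← beq_true.1 e]

theorem act_all {s : ℕ} (hs : s < 512) : actCode s = actF s ∧
    SpFour.has SpFour.t8 (actCode s) = true ∧
    (mem p11Mask s = true → SpFour.has SpFour.v4 (actCode s) = true) ∧
    (mem p8Mask s = true → actCode s = SpFour.idc ∨ actCode s = SpFour.tau) ∧
    (actCode s = SpFour.idc → mem rMask s = true) ∧
    ∀ a ∈ elems rMask, rVec (cj s a) = SpFour.app (actCode s) (rVec a) := by
  have hk : actChunk (s / 64) = true := by
    have : s / 64 < 8 := by omega
    interval_cases (s / 64)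
    · exact act_check0
    · exact act_check1
    · exact act_check2
    · exact act_check3
    · exact act_check4
    · exact act_check5
    · exact act_check6
    · exact act_check7
  have h := List.all_eq_true.1 hk (s % 64) (List.mem_range.2 (Nat.mod_lt _ (by norm_num)))
  simp only [force_eq, Nat.div_add_mod, Bool.and_eq_true, List.all_eq_true, Bool.or_eq_true,
    Bool.not_eq_true', beq_true] at h
  obtain ⟨⟨⟨⟨ht, hv⟩, hp⟩, hi⟩, ha⟩ := h
  have hrv : ∀ a ∈ elems rMask, rVec a = rvL a := fun a ha' =>
    beq_true.1 (List.all_eq_true.1 rv_check a ha')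
  have hcj : ∀ a ∈ elems rMask, rVec (cj s a) = rvL (cj s a) := fun a ha' =>
    hrv _ (mem_elems.2 ⟨mt_lt _ _, (ha a ha').1⟩)
  have hval : ∀ v < 16, rVal v ∈ elems rMask := fun v hv' => by
    have h3 := List.all_eq_true.1 val_check v (List.mem_range.2 hv')
    simp only [Bool.and_eq_true, Nat.blt_eq] at h3
    exact mem_elems.2 ⟨h3.1.2, h3.1.1⟩
  have e : actCode s = actF s := List.foldl_ext _ _ 0 fun acc v hv' => by
    rw [hcj _ (hval v (List.mem_range.1 hv'))]
  rw [e]
  refine ⟨rfl, ht, fun hm => hv.resolve_left (by rw [hm]; decide), fun hm => ?_, fun hc => ?_,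
    fun a ha' => ?_⟩
  · rcases hp with (h | h) | h
    · rw [hm] at h; exact Bool.noConfusion h
    · exact Or.inl h
    · exact Or.inr h
  · refine hi.resolve_left fun h => ?_
    rw [beq_true.2 hc] at h
    exact Bool.noConfusion h
  · rw [hcj a ha', hrv a ha']
    exact (ha a ha').2

variable {G : Type u} [Group G] {T : Subgroup G}

/-- The coordinates have the required properties. -/
theorem spFacts (F : Frame T) : SpFacts F := by
  have h1 := vec_mul_check
  have h2 := vec_checks
  have h3 := val_check
  have h5 := onto_check
  simp only [List.all_eq_true, List.any_eq_true, List.mem_range, Bool.and_eq_true, beq_true,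
    Nat.blt_eq] at h1 h2 h3 h5
  constructor
  · exact h1
  · exact fun a ha => (h2 a ha).1.1
  · intro a ha
    have := (h2 a ha).1.2
    rw [beq_iff_eq] at this
    rw [← this, beq_true]
  · exact fun v hv => ⟨(h3 v hv).1.1, (h3 v hv).1.2, (h3 v hv).2⟩
  · intro a ha b hb
    have := (h2 a ha).2 b hb
    exact ⟨fun h => by rw [this, h]; rfl, fun h => by rw [this, h]; rfl⟩
  · exact fun s hs a ha => (act_all hs).2.2.2.2.2 a ha
  · exact fun s hs => mem_of_has (act_all hs).2.1
  · intro c hc
    obtain ⟨s, hs, e⟩ := h5.1.1 c hc
    exact ⟨s, hs, (act_all hs).1.trans e⟩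
  · intro s hs
    obtain ⟨hl, hm⟩ := mem_elems.1 hs
    exact mem_of_has ((act_all hl).2.2.1 hm)
  · intro c hc
    obtain ⟨s, hs, e⟩ := h5.1.2 c hc
    exact ⟨s, hs, (act_all (mem_elems.1 hs).1).1.trans e⟩
  · intro s hs
    obtain ⟨hl, hm⟩ := mem_elems.1 hs
    exact (act_all hl).2.2.2.1 hm
  · obtain ⟨s, hs, e⟩ := h5.2
    exact ⟨s, hs, (act_all (mem_elems.1 hs).1).1.trans e⟩
  · exact fun s hs he => (act_all hs).2.2.2.2.1 he

end CfsgLib.SylHS
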