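import Cfsg.Agent.Lib.SylHS.FactsBasic
import Cfsg.Agent.Lib.SylHS.TableFacts
import Cfsg.Agent.Lib.Coprime.SymplecticType

/-!
The abelian subgroups, the central product, and the outer involutions.
-/

set_option autoImplicit false
set_option maxRecDepth 100000
set_option linter.style.haveILetI false

namespace CfsgLib.SylHS

open Subgroup
open scoped commutatorElement

universe u

/-- The extraspecial subgroup of the central product. -/
def eMask : ℕ :=
  0x10101010101010101010101010101010000000000000000000000000000000001010101010101010101010101010101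

/-- A power. -/
def pw (a : ℕ) : ℕ → ℕ
  | 0 => 0
  | k + 1 => mt a (pw a k)

/-- Coordinates on the homocyclic subgroup. -/
def aIdx (n : ℕ) : ℕ := mt (pw 9 (n / 16 % 4)) (mt (pw 20 (n / 4 % 4)) (pw 29 (n % 4)))

/-- The commutator of an index with another. -/
def cm (u a : ℕ) : ℕ := mt (cj u a) (iv a)

theorem closed_e : closedOK eMask = true := by decide +kernel

theorem v_checks : ((elems vMask).all fun a => Nat.beq (mt a a) 0 &&
    (elems vMask).all fun b => Nat.beq (mt a b) (mt b a)) = true := by decide +kernel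

theorem a_checks : ((elems aMask).all fun a => Nat.beq (mt (mt a a) (mt a a)) 0 &&
    (!Nat.beq (mt a a) 0 || mem vMask a) &&
    (elems aMask).all fun b => Nat.beq (mt a b) (mt b a)) = true := by decide +kernel

theorem cent_checks : ((List.range 512).all fun x =>
    (!((elems vMask).all fun v => Nat.beq (mt x v) (mt v x)) || mem aMask x) &&
    (!((elems rMask).all fun v => Nat.beq (mt x v) (mt v x)) || mem cMask x) &&
    (!([1, 36, 256, 4, 64, 8, 128, 16, 2].all fun v => Nat.beq (mt x v) (mt v x)) ||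
      Nat.beq x 0 || Nat.beq x zIdx)) = true := by decide +kernel

theorem c_checks : (Nat.beq (maskOf ((List.range 4).map (pw cIdx))) cMask &&
    ((elems cMask).all fun c => (elems rMask).all fun r => Nat.beq (mt c r) (mt r c))) = true := by
  decide +kernel

theorem idx_checks : ((List.range 64).all fun m => mem aMask (aIdx m) && (List.range 64).all fun n =>
    Nat.beq (mt (aIdx m) (aIdx n)) (aIdx ((m / 16 + n / 16) % 4 * 16 + (m / 4 + n / 4) % 4 * 4 +
      (m + n) % 4)) && (Nat.beq m n || !Nat.beq (aIdx m) (aIdx n))) = true := by decide +kernel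

theorem e_checks : (subOK eMask rMask &&
    Nat.beq (eMask &&& cMask) (1 ||| 1 <<< zIdx) &&
    Nat.beq (elems eMask).length 32 &&
    ((elems eMask).all fun a => ((Nat.beq (mt a a) 0 || Nat.beq (mt a a) zIdx) &&
      (!((elems eMask).all fun b => Nat.beq (mt a b) (mt b a)) || Nat.beq a 0 || Nat.beq a zIdx)) &&
      (elems eMask).all fun b => Nat.beq (mt (mt a b) (mt (iv a) (iv b))) 0 ||
        Nat.beq (mt (mt a b) (mt (iv a) (iv b))) zIdx) &&
    ((elems rMask).all fun r => (elems cMask).any fun c => mem eMask (mt c r))) = true := by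
  decide +kernel

theorem u_checks : ((List.range 512).all fun u => !Nat.beq (mt u u) 0 || Nat.beq u 0 ||
    ((mem vMask u || (((elems vMask).any fun a => !Nat.beq (cm u a) 0) &&
      ((elems vMask).all fun a => (elems vMask).all fun b => Nat.beq (cm u a) 0 ||
        Nat.beq (cm u b) 0 || Nat.beq (cm u a) (cm u b)) &&
      (elems vMask).any fun a => !Nat.beq a 0 && Nat.beq (mt u a) (mt a u) &&
        (elems vMask).any fun b => !Nat.beq b 0 && !Nat.beq a b && Nat.beq (mt u b) (mt b u))) &&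
    (elems rMask).any fun r => !mem cMask r && Nat.beq (mt u r) (mt r u))) = true := by
  decide +kernel

theorem outer_checks : ((List.range 512).any (fun u =>
      Nat.beq (mt u u) 0 && !Nat.beq u 0 && !mem vMask u) &&
    (elems p11Mask).any fun u => !mem rMask u && mem cMask (mt u u)) = true := by decide +kernel

variable {G : Type u} [Group G] {T : Subgroup G} (F : Frame T)

namespace Frame

theorem sub_comm {m k : ℕ} (hm : closedOK m = true) (hk : closedOK k = true)
    (h : ∀ a ∈ elems m, ∀ b ∈ elems k, mt a b = mt b a) {x y : G} (hx : x ∈ F.sub m)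
    (hy : y ∈ F.sub k) : x * y = y * x := by
  obtain ⟨a, ha, rfl⟩ := (F.mem_sub_iff hm).1 hx
  obtain ⟨b, hb, rfl⟩ := (F.mem_sub_iff hk).1 hy
  exact (F.comm_iff (elems_lt m a ha) (elems_lt k b hb)).2 (h a ha b hb)

theorem v_comm : ∀ a ∈ F.sub vMask, ∀ b ∈ F.sub vMask, a * b = b * a := fun _ ha _ hb =>
  F.sub_comm closed_v closed_v (fun a ha b hb => by
    have h := v_checks
    simp only [List.all_eq_true, Bool.and_eq_true, beq_true] at h
    exact (h a ha).2 b hb) ha hb

theorem v_sq : ∀ a ∈ F.sub vMask, a ^ 2 = 1 := by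
  intro a ha
  obtain ⟨d, hd, rfl⟩ := (F.mem_sub_iff closed_v).1 ha
  have h := v_checks
  simp only [List.all_eq_true, Bool.and_eq_true, beq_true] at h
  have hd' := elems_lt _ d hd
  rw [pow_two, F.mul d hd' d hd', (h d hd).1, F.p_zero]

theorem a_comm : ∀ a ∈ F.sub aMask, ∀ b ∈ F.sub aMask, a * b = b * a := fun _ ha _ hb =>
  F.sub_comm closed_a closed_a (fun a ha b hb => by
    have h := a_checks
    simp only [List.all_eq_true, Bool.and_eq_true, beq_true] at h
    exact (h a ha).2 b hb) ha hb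

theorem a_pow : ∀ a ∈ F.sub aMask, a ^ 4 = 1 := by
  intro a ha
  obtain ⟨d, hd, rfl⟩ := (F.mem_sub_iff closed_a).1 ha
  have h := a_checks
  simp only [List.all_eq_true, Bool.and_eq_true, beq_true] at h
  have hd' := elems_lt _ d hd
  rw [show (4 : ℕ) = 2 + 2 from rfl, pow_add, pow_two, F.mul d hd' d hd',
    F.mul _ (mt_lt _ _) _ (mt_lt _ _), (h d hd).1.1, F.p_zero]

theorem a_omega : ∀ a ∈ F.sub aMask, a * a = 1 → a ∈ F.sub vMask := by
  intro a ha h1
  obtain ⟨d, hd, rfl⟩ := (F.mem_sub_iff closed_a).1 ha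
  have h := a_checks
  simp only [List.all_eq_true, Bool.and_eq_true, beq_true, Bool.or_eq_true, Bool.not_eq_true'] at h
  have hd' := elems_lt _ d hd
  rw [F.mul d hd' d hd', F.eq_one_iff (mt_lt d d)] at h1
  refine (F.mem_sub closed_v hd').2 ((h d hd).1.2.resolve_left fun h2 => ?_)
  rw [beq_true.2 h1] at h2
  exact Bool.noConfusion h2

theorem cent_aux {x : G} (hx : x ∈ T) {m : ℕ} (hm : closedOK m = true)
    (h : ∀ v ∈ F.sub m, x * v = v * x) : ∃ d < 512, F.p d = x ∧
      ((elems m).all fun v => Nat.beq (mt d v) (mt v d)) = true := by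
  obtain ⟨d, hd, rfl⟩ := F.surj x hx
  refine ⟨d, hd, rfl, List.all_eq_true.2 fun v hv => beq_true.2 ?_⟩
  exact (F.comm_iff hd (elems_lt m v hv)).1 (h _ ((F.mem_sub_iff hm).2 ⟨v, hv, rfl⟩))

theorem cent_v : ∀ x ∈ T, (∀ v ∈ F.sub vMask, x * v = v * x) → x ∈ F.sub aMask := by
  intro x hx h
  obtain ⟨d, hd, rfl, hall⟩ := F.cent_aux hx closed_v h
  have hc := cent_checks
  simp only [List.all_eq_true (l := List.range 512), List.mem_range, Bool.and_eq_true,
    Bool.or_eq_true, Bool.not_eq_true'] at hc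
  exact (F.mem_sub closed_a hd).2 ((hc d hd).1.1.resolve_left (by rw [hall]; decide))

theorem cent_r : ∀ x ∈ T, (∀ r ∈ F.sub rMask, x * r = r * x) → x ∈ F.sub cMask := by
  intro x hx h
  obtain ⟨d, hd, rfl, hall⟩ := F.cent_aux hx closed_r h
  have hc := cent_checks
  simp only [List.all_eq_true (l := List.range 512), List.mem_range, Bool.and_eq_true,
    Bool.or_eq_true, Bool.not_eq_true'] at hc
  exact (F.mem_sub closed_c hd).2 ((hc d hd).1.2.resolve_left (by rw [hall]; decide))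

theorem center_T : ∀ x ∈ T, (∀ y ∈ T, x * y = y * x) → x = 1 ∨ x = F.z := by
  intro x hx h
  obtain ⟨d, hd, rfl⟩ := F.surj x hx
  have hc := cent_checks
  simp only [List.all_eq_true (l := List.range 512), List.mem_range, Bool.and_eq_true,
    Bool.or_eq_true, Bool.not_eq_true'] at hc
  have hall : ([1, 36, 256, 4, 64, 8, 128, 16, 2].all fun v => Nat.beq (mt d v) (mt v d)) = true := by
    refine List.all_eq_true.2 fun v hv => beq_true.2 ?_
    have hv' : v < 512 := basis_lt v hv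
    exact (F.comm_iff hd hv').1 (h _ (F.p_mem v hv'))
  rcases (hc d hd).2 with (h' | h') | h'
  · rw [hall] at h'; exact Bool.noConfusion h'
  · exact Or.inl (by rw [beq_true.1 h', F.p_zero])
  · exact Or.inr (by rw [beq_true.1 h']; rfl)

theorem p_pw {a : ℕ} (ha : a < 512) : ∀ k, F.p (pw a k) = F.p a ^ k
  | 0 => by rw [pow_zero, pw, F.p_zero]
  | k + 1 => by
    have hk : pw a k < 512 := by cases k with
      | zero => norm_num [pw]
      | succ j => exact mt_lt _ _
    rw [pw, ← F.mul a ha _ hk, p_pw ha k, ← pow_succ']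

theorem c_cyclic : IsCyclic (F.sub cMask) := by
  have h := c_checks
  simp only [Bool.and_eq_true, beq_true] at h
  have hc : cIdx < 512 := by decide
  have e : F.sub cMask = Subgroup.zpowers (F.p cIdx) := by
    refine le_antisymm (fun x hx => ?_) (zpowers_le.2 ((F.mem_sub closed_c hc).2 (by decide +kernel)))
    obtain ⟨d, hd, rfl⟩ := (F.mem_sub_iff closed_c).1 hx
    have hm := (mem_elems.1 hd).2
    rw [← h.1, mem_maskOf, List.mem_map] at hm
    obtain ⟨k, -, rfl⟩ := hm
    rw [F.p_pw hc]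
    exact Subgroup.npow_mem_zpowers _ _
  rw [e]
  infer_instance

theorem c_central : ∀ c ∈ F.sub cMask, ∀ r ∈ F.sub rMask, c * r = r * c := fun _ hc _ hr =>
  F.sub_comm closed_c closed_r (fun a ha b hb => by
    have h := c_checks
    simp only [List.all_eq_true, Bool.and_eq_true, beq_true] at h
    exact h.2 a ha b hb) hc hr

/-- A code of a vector. -/
def code64 (v : Multiplicative (ZMod 4 × ZMod 4 × ZMod 4)) : ℕ :=
  v.toAdd.1.val * 16 + v.toAdd.2.1.val * 4 + v.toAdd.2.2.val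

theorem a_equiv : Nonempty (F.sub aMask ≃* Multiplicative (ZMod 4 × ZMod 4 × ZMod 4)) := by
  have h := idx_checks
  simp only [List.all_eq_true, List.mem_range, Bool.and_eq_true, beq_true, Bool.or_eq_true,
    Bool.not_eq_true'] at h
  have hlt : ∀ v, code64 v < 64 := fun v => by
    have := ZMod.val_lt v.toAdd.1
    have := ZMod.val_lt v.toAdd.2.1
    have := ZMod.val_lt v.toAdd.2.2
    unfold code64; omega
  have ilt : ∀ n, aIdx n < 512 := fun n => mt_lt _ _
  let f : Multiplicative (ZMod 4 × ZMod 4 × ZMod 4) →* F.sub aMask :=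
    MonoidHom.mk' (fun v => ⟨F.p (aIdx (code64 v)), (F.mem_sub closed_a (ilt _)).2 (h _ (hlt v)).1⟩)
      fun v w => Subtype.ext (by
        show F.p _ = F.p _ * F.p _
        rw [F.mul _ (ilt _) _ (ilt _), ((h _ (hlt v)).2 _ (hlt w)).1]
        refine congrArg (fun n => F.p (aIdx n)) ?_
        have := ZMod.val_lt v.toAdd.1
        have := ZMod.val_lt v.toAdd.2.1
        have := ZMod.val_lt v.toAdd.2.2
        have := ZMod.val_lt w.toAdd.1
        have := ZMod.val_lt w.toAdd.2.1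
        have := ZMod.val_lt w.toAdd.2.2
        simp only [code64, toAdd_mul, Prod.fst_add, Prod.snd_add, ZMod.val_add]
        omega)
  have hinj : Function.Injective f := fun v w e => by
    have e1 : aIdx (code64 v) = aIdx (code64 w) :=
      F.inj _ (ilt _) _ (ilt _) (congrArg Subtype.val e)
    have e2 : code64 v = code64 w := ((h _ (hlt v)).2 _ (hlt w)).2.resolve_right (by
      intro h'; rw [beq_true.2 e1] at h'; exact Bool.noConfusion h')
    have := ZMod.val_lt v.toAdd.1
    have := ZMod.val_lt v.toAdd.2.1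
    have := ZMod.val_lt v.toAdd.2.2
    have := ZMod.val_lt w.toAdd.1
    have := ZMod.val_lt w.toAdd.2.1
    have := ZMod.val_lt w.toAdd.2.2
    unfold code64 at e2
    refine Multiplicative.toAdd.injective (Prod.ext (ZMod.val_injective 4 (by omega))
      (Prod.ext (ZMod.val_injective 4 (by omega)) (ZMod.val_injective 4 (by omega))))
  haveI := F.finite
  haveI : Finite ↥(F.sub aMask) := Finite.of_injective _ (inclusion_injective (F.sub_le _))
  refine ⟨(MulEquiv.ofBijective f ((Nat.bijective_iff_injective_and_card f).2 ⟨hinj, ?_⟩)).symm⟩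
  rw [F.card_a, Nat.card_eq_fintype_card]
  rfl

theorem extraspecial : ∃ E : Subgroup G, E ≤ F.sub rMask ∧ Cfsg.IsExtraspecial 2 E ∧
    Nat.card E = 32 ∧ F.sub cMask ⊔ E = F.sub rMask ∧
    F.sub cMask ⊓ E = E ⊓ centralizer (E : Set G) := by
  classical
  haveI : Fact (Nat.Prime 2) := ⟨Nat.prime_two⟩
  haveI := F.finite
  have h := e_checks
  simp only [Bool.and_eq_true, List.all_eq_true (l := elems eMask), List.all_eq_true (l := elems rMask),
    List.any_eq_true, beq_true, Bool.or_eq_true, Bool.not_eq_true'] at h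
  obtain ⟨⟨⟨⟨hER, hEC⟩, hcard⟩, hall⟩, hcov⟩ := h
  haveI : Finite ↥(F.sub eMask) := Finite.of_injective _ (inclusion_injective (F.sub_le _))
  set Z := Subgroup.zpowers F.z with hZ
  have hzE : F.z ∈ F.sub eMask := (F.mem_sub closed_e (by decide)).2 (by decide +kernel)
  have hmemZ : ∀ d, d < 512 → (d = 0 ∨ d = zIdx) → F.p d ∈ Z := by
    rintro d - (rfl | rfl)
    · rw [F.p_zero]; exact one_mem _
    · exact Subgroup.mem_zpowers _
  have hcent : ∀ x ∈ F.sub eMask, (∀ y ∈ F.sub eMask, x * y = y * x) ↔ x ∈ Z := by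
    intro x hx
    obtain ⟨a, ha, rfl⟩ := (F.mem_sub_iff closed_e).1 hx
    constructor
    · intro hc
      refine hmemZ a (elems_lt _ a ha) ?_
      rcases (hall a ha).1.2 with (h' | h') | h'
      · exfalso
        rw [← Bool.not_eq_true, List.all_eq_true] at h'
        refine h' fun b hb => beq_true.2 ?_
        exact (F.comm_iff (elems_lt _ a ha) (elems_lt _ b hb)).1
          (hc _ ((F.mem_sub_iff closed_e).2 ⟨b, hb, rfl⟩))
      · exact Or.inl h'
      · exact Or.inr h'
    · intro hz y hy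
      obtain ⟨k, hk⟩ := Subgroup.mem_zpowers_iff.1 hz
      rw [← hk]
      exact Commute.zpow_left (F.z_central (F.sub_le _ hy)).symm k
  refine ⟨F.sub eMask, F.sub_mono (beq_true.2 ?_), ?_, (F.card_sub closed_e).trans hcard, ?_, ?_⟩
  · exact beq_true.1 hER
  · refine CfsgLib.Coprime.isExtraspecial_of_central (F.isPGroup.to_le (F.sub_le _))
      (Z.subgroupOf (F.sub eMask)) ?_ ?_ ?_ ?_ ?_
    · rw [Nat.card_congr (subgroupOfEquivOfLe (zpowers_le.2 hzE)).toEquiv, Nat.card_zpowers,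
        F.orderOf_z]
    · ext x
      rw [mem_center_iff, mem_subgroupOf, ← hcent x x.2]
      exact ⟨fun hx y hy => (congrArg Subtype.val (hx ⟨y, hy⟩)).symm,
        fun hx y => Subtype.ext (hx y y.2).symm⟩
    · intro x y
      obtain ⟨a, ha, ea⟩ := (F.mem_sub_iff closed_e).1 x.2
      obtain ⟨b, hb, eb⟩ := (F.mem_sub_iff closed_e).1 y.2
      have ha' := elems_lt _ a ha
      have hb' := elems_lt _ b hb
      rw [mem_subgroupOf, commutatorElement_def, coe_mul, coe_mul, coe_mul, coe_inv, coe_inv, ← ea,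
        ← eb, F.p_inv ha', F.p_inv hb', mul_assoc, F.mul a ha' b hb', F.mul _ (iv_lt a) _ (iv_lt b),
        F.mul _ (mt_lt _ _) _ (mt_lt _ _)]
      exact hmemZ _ (mt_lt _ _) ((hall a ha).2 b hb)
    · intro x
      obtain ⟨a, ha, ea⟩ := (F.mem_sub_iff closed_e).1 x.2
      rw [mem_subgroupOf, coe_pow, ← ea, pow_two, F.mul a (elems_lt _ a ha) a (elems_lt _ a ha)]
      exact hmemZ _ (mt_lt _ _) (hall a ha).1.1
    · intro htop
      have h1 : Nat.card (Z.subgroupOf (F.sub eMask)) = 32 := by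
        rw [htop, card_top, F.card_sub closed_e, hcard]
      rw [Nat.card_congr (subgroupOfEquivOfLe (zpowers_le.2 hzE)).toEquiv, Nat.card_zpowers,
        F.orderOf_z] at h1
      exact absurd h1 (by norm_num)
  · refine le_antisymm (sup_le F.c_le_r (F.sub_mono (beq_true.2 (beq_true.1 hER)))) fun x hx => ?_
    obtain ⟨r, hr, rfl⟩ := (F.mem_sub_iff closed_r).1 hx
    obtain ⟨c, hc, hcr⟩ := hcov r hr
    have hr' := elems_lt _ r hr
    have hc' := elems_lt _ c hc
    have : F.p r = (F.p c)⁻¹ * F.p (mt c r) := by rw [← F.mul c hc' r hr', inv_mul_cancel_left]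
    rw [this]
    exact Subgroup.mul_mem_sup (inv_mem ((F.mem_sub_iff closed_c).2 ⟨c, hc, rfl⟩))
      ((F.mem_sub closed_e (mt_lt _ _)).2 hcr)
  · ext x
    simp only [Subgroup.mem_inf, mem_centralizer_iff, SetLike.mem_coe]
    constructor
    · rintro ⟨hc, he⟩
      refine ⟨he, fun y hy => ((hcent x he).2 ?_ y hy).symm⟩
      obtain ⟨a, ha, rfl⟩ := (F.mem_sub_iff closed_e).1 he
      have ha' := elems_lt _ a ha
      have hm : mem (eMask &&& cMask) a = true :=
        mem_and.2 ⟨(mem_elems.1 ha).2, (F.mem_sub closed_c ha').1 hc⟩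
      rw [hEC] at hm
      refine hmemZ a ha' ((mem_or.1 hm).imp mem_one.1 fun h' => ?_)
      rw [mem, Nat.shiftLeft_eq, one_mul, Nat.testBit_two_pow, decide_eq_true_eq] at h'
      exact h'.symm
    · rintro ⟨he, hc⟩
      refine ⟨?_, he⟩
      obtain ⟨k, hk⟩ := Subgroup.mem_zpowers_iff.1 ((hcent x he).1 fun y hy => (hc y hy).symm)
      rw [← hk]
      exact zpow_mem ((F.mem_sub closed_c (show zIdx < 512 by decide)).2 (by decide +kernel)) k

theorem orderOf_two {d : ℕ} (hd : d < 512) (h2 : mt d d = 0) (h0 : d ≠ 0) : orderOf (F.p d) = 2 :=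
  orderOf_eq_prime (hp := ⟨Nat.prime_two⟩) (by rw [pow_two, F.mul d hd d hd, h2, F.p_zero])
    fun h => h0 ((F.eq_one_iff hd).1 h)

theorem u_spec {u : G} (hu : u ∈ T) (ho : orderOf u = 2) : ∃ d < 512, F.p d = u ∧
    (mem vMask d = true ∨ (((elems vMask).any fun a => !Nat.beq (cm d a) 0) = true ∧
      (∀ a ∈ elems vMask, ∀ b ∈ elems vMask, (cm d a = 0 ∨ cm d b = 0) ∨ cm d a = cm d b) ∧
      ∃ a ∈ elems vMask, (a ≠ 0 ∧ mt d a = mt a d) ∧
        ∃ b ∈ elems vMask, (b ≠ 0 ∧ a ≠ b) ∧ mt d b = mt b d)) ∧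
    ∃ r ∈ elems rMask, mem cMask r = false ∧ mt d r = mt r d := by
  obtain ⟨d, hd, rfl⟩ := F.surj u hu
  have h := List.all_eq_true.1 u_checks d (List.mem_range.2 hd)
  have h2 : mt d d = 0 := by
    have := pow_orderOf_eq_one (F.p d)
    rwa [ho, pow_two, F.mul d hd d hd, F.eq_one_iff (mt_lt d d)] at this
  have h0 : d ≠ 0 := fun e => by
    rw [e, F.p_zero, orderOf_one] at ho; exact absurd ho (by norm_num)
  simp only [Bool.or_eq_true, Bool.not_eq_true', Bool.and_eq_true, List.any_eq_true,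
    List.all_eq_true, beq_true] at h
  rw [beq_true.2 h2] at h
  rcases h with (h | h) | ⟨h, r, hr, hrc, hrr⟩
  · exact Bool.noConfusion h
  · exact absurd h h0
  refine ⟨d, hd, rfl, h.imp id ?_, r, hr, hrc, hrr⟩
  rintro ⟨⟨⟨a, ha, hne⟩, hb⟩, a', ha', ⟨ha0, hac⟩, b, hb', ⟨hb0, hab⟩, hbc⟩
  exact ⟨List.any_eq_true.2 ⟨a, ha, by rw [hne]; rfl⟩, hb, a', ha',
    ⟨fun e => by rw [beq_true.2 e] at ha0; exact Bool.noConfusion ha0, hac⟩, b, hb',
    ⟨fun e => by rw [beq_true.2 e] at hb0; exact Bool.noConfusion hb0,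
      fun e => by rw [beq_true.2 e] at hab; exact Bool.noConfusion hab⟩, hbc⟩

theorem p_cm {u a : ℕ} (hu : u < 512) (ha : a < 512) :
    F.p u * F.p a * (F.p u)⁻¹ * (F.p a)⁻¹ = F.p (cm u a) := by
  rw [F.p_conj hu ha, F.p_inv ha, F.mul (cj u a) (mt_lt _ _) _ (iv_lt a)]; rfl

theorem transvection : ∀ u ∈ T, orderOf u = 2 → u ∉ F.sub vMask →
    (∃ a ∈ F.sub vMask, u * a * u⁻¹ * a⁻¹ ≠ 1) ∧
    (∀ a ∈ F.sub vMask, ∀ b ∈ F.sub vMask, u * a * u⁻¹ * a⁻¹ ≠ 1 → u * b * u⁻¹ * b⁻¹ ≠ 1 →
      u * a * u⁻¹ * a⁻¹ = u * b * u⁻¹ * b⁻¹) ∧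
    ∃ a ∈ F.sub vMask, ∃ b ∈ F.sub vMask, a ≠ 1 ∧ b ≠ 1 ∧ a ≠ b ∧ Commute u a ∧ Commute u b := by
  intro u hu ho huV
  obtain ⟨d, hd, rfl, h, -⟩ := F.u_spec hu ho
  obtain ⟨hne, hsame, a, ha, ⟨ha0, hac⟩, b, hb, ⟨hb0, hab⟩, hbc⟩ :=
    h.resolve_left fun h' => huV ((F.mem_sub closed_v hd).2 h')
  have hmem : ∀ e ∈ elems vMask, F.p e ∈ F.sub vMask := fun e he =>
    (F.mem_sub_iff closed_v).2 ⟨e, he, rfl⟩
  refine ⟨?_, ?_, ⟨_, hmem a ha, _, hmem b hb, ?_, ?_, ?_, ?_, ?_⟩⟩
  · obtain ⟨e, he, h'⟩ := List.any_eq_true.1 hne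
    refine ⟨_, hmem e he, fun h1 => ?_⟩
    rw [F.p_cm hd (elems_lt _ e he), F.eq_one_iff (show cm d e < 512 from mt_lt _ _)] at h1
    rw [h1] at h'
    exact Bool.noConfusion h'
  · intro x hx y hy hx1 hy1
    obtain ⟨i, hi, rfl⟩ := (F.mem_sub_iff closed_v).1 hx
    obtain ⟨j, hj, rfl⟩ := (F.mem_sub_iff closed_v).1 hy
    rw [F.p_cm hd (elems_lt _ i hi)] at hx1 ⊢
    rw [F.p_cm hd (elems_lt _ j hj)] at hy1 ⊢
    rcases hsame i hi j hj with (h' | h') | h'
    · exact absurd (by rw [h', F.p_zero]) hx1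
    · exact absurd (by rw [h', F.p_zero]) hy1
    · rw [h']
  · exact fun h' => ha0 ((F.eq_one_iff (elems_lt _ a ha)).1 h')
  · exact fun h' => hb0 ((F.eq_one_iff (elems_lt _ b hb)).1 h')
  · exact fun h' => hab ((F.p_inj (elems_lt _ a ha) (elems_lt _ b hb)).1 h')
  · exact (F.comm_iff hd (elems_lt _ a ha)).2 hac
  · exact (F.comm_iff hd (elems_lt _ b hb)).2 hbc

theorem commute_r : ∀ a ∈ T, orderOf a = 2 → ∃ r ∈ F.sub rMask, r ∉ F.sub cMask ∧ Commute a r := by
  intro a ha ho
  obtain ⟨d, hd, rfl, -, r, hr, hrc, hrr⟩ := F.u_spec ha ho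
  have hr' := elems_lt _ r hr
  refine ⟨_, (F.mem_sub_iff closed_r).2 ⟨r, hr, rfl⟩, fun h => ?_, (F.comm_iff hd hr').2 hrr⟩
  rw [F.mem_sub closed_c hr', hrc] at h
  exact Bool.false_ne_true h

theorem outer_v : ∃ u ∈ T, orderOf u = 2 ∧ u ∉ F.sub vMask := by
  have h := outer_checks
  simp only [Bool.and_eq_true, List.any_eq_true, List.mem_range, beq_true, Bool.not_eq_true'] at h
  obtain ⟨⟨d, hd, ⟨h2, h0⟩, hv⟩, -⟩ := h
  refine ⟨_, F.p_mem d hd, F.orderOf_two hd h2 (fun e => ?_), fun h' => ?_⟩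
  · rw [beq_true.2 e] at h0; exact Bool.noConfusion h0
  · rw [F.mem_sub closed_v hd, hv] at h'; exact Bool.false_ne_true h'

theorem outer_r : ∃ u ∈ F.sub p11Mask, u ∉ F.sub rMask ∧ u * u ∈ F.sub cMask := by
  have h := outer_checks
  simp only [Bool.and_eq_true, List.any_eq_true, Bool.not_eq_true'] at h
  obtain ⟨-, d, hd, hr, hc⟩ := h
  have hd' := elems_lt _ d hd
  refine ⟨_, (F.mem_sub_iff closed_p11).2 ⟨d, hd, rfl⟩, fun h' => ?_, ?_⟩
  · rw [F.mem_sub closed_r hd', hr] at h'; exact Bool.false_ne_true h'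
  · rw [F.mul d hd' d hd', F.mem_sub closed_c (mt_lt d d)]; exact hc

end Frame

end CfsgLib.SylHS
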