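import Cfsg.Agent.Lib.SylHS.FactsAut
import Cfsg.Agent.Lib.SylHS.FactsTable
import Cfsg.Agent.Lib.SylHS.FactsSp

/-!
The table facts assembled.
-/

set_option autoImplicit false
set_option maxRecDepth 100000

namespace CfsgLib.SylHS

open Subgroup

universe u

variable {G : Type u} [Group G] {T : Subgroup G}

/-- What the table gives. -/
theorem tableFacts (F : Frame T) : TableFacts F where
  card_V := F.card_v
  card_A := F.card_a
  card_R := F.card_r
  card_C := F.card_c
  card_P := F.card_p8
  index_B := F.index_b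
  index_Q := F.index_p11
  z_mem_V := F.z_mem_v
  z_mem_C := (F.mem_sub closed_c (show zIdx < 512 by decide)).2 (by decide +kernel)
  V_le_A := F.v_le_a
  V_le_R := F.v_le_r
  C_le_R := F.c_le_r
  R_le_Q := F.r_le_p11
  A_le_Q := F.a_le_p11
  A_le_U := F.a_le_p12
  P_le_B := F.p8_le_b
  P_inf_Q := F.p8_inf_p11
  conj_V := fun _ hs _ hx => F.conj_v hs hx
  conj_A := fun _ hs _ hx => F.conj_a hs hx
  conj_R := fun _ hs _ hx => F.conj_r hs hx
  conj_C := fun _ hs _ hx => F.conj_c hs hx
  V_comm := F.v_comm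
  V_sq := F.v_sq
  A_comm := F.a_comm
  A_pow := F.a_pow
  A_omega := F.a_omega
  cent_V := F.cent_v
  A_equiv := F.a_equiv
  C_cyclic := F.c_cyclic
  C_central := F.c_central
  cent_R := F.cent_r
  extraspecial := F.extraspecial
  center := F.center_T
  transvection := F.transvection
  outer_V := F.outer_v
  outer_R := F.outer_r
  commute_R := F.commute_r
  aut_top := F.isPGroup_aut_top
  autP_z := F.aut_p8_z
  autP_R := F.aut_p8_r
  autQ_z := F.aut_p11_z
  autQ_V := F.aut_p11_v
  autQ_A := F.aut_p11_a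
  autQ_R := F.aut_p11_r
  autU_V := F.aut_p12_v
  autU_A := F.aut_p12_a
  autU_B := F.aut_p12_b
  autU_z := F.aut_p12_fix

end CfsgLib.SylHS
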