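import Cfsg.Agent.Lib.SylHS.Main
import Cfsg.Agent.Lib.SylHS.FactsMain

/-!
A finite simple group with a Sylow `2`-subgroup of Higman–Sims type is the Higman–Sims group, given
the recognition by an involution centralizer and a `2`-local subgroup.
-/

set_option autoImplicit false

namespace CfsgLib.SylHS

universe u

/-- The table facts hold in every group. -/
theorem allFacts : AllFacts.{u} := fun _ _ _ _ F => tableFacts F

/-- The classification, modulo the recognition theorem. -/
theorem isoHS_of_recog {G : Type u} [Group G] [Finite G] [IsSimpleGroup G] (S : Sylow 2 G)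
    (P : Sylow 2 ↥Cfsg.Spor.HS)
    (hS : Nonempty (↥(S : Subgroup G) ≃* ↥(P : Subgroup ↥Cfsg.Spor.HS))) (hrec : RecogHS.{u}) :
    Cfsg.Spor.IsoHS G :=
  isoHS_of_sylow S P hS allFacts (fun F => spFacts F) hrec

end CfsgLib.SylHS
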