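import Cfsg.Agent.Lib.Fusion.Alperin
import Cfsg.Agent.Lib.Fusion.CandidateEngine
import Cfsg.Agent.Lib.Invol.Strong

/-!
Outer involutions of an essential subgroup form one class, so their cosets share all invariants.
-/

set_option autoImplicit false
set_option linter.style.haveILetI false
set_option linter.unusedSectionVars false

namespace CfsgLib.SylHS

open Cfsg Cfsg.FusionSystem Subgroup CfsgLib.Fusion CfsgLib.Invol

/-- A subgroup with the normalizers of the nontrivial subgroups of a Sylow `2`-subgroup is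
strongly embedded. -/
theorem isStronglyEmbedded_of_containsLocals {X : Type*} [Group X] [Finite X]
    {T : Sylow 2 X} {Y : Subgroup X} (hY : Y ≠ ⊤) (hT : (T : Subgroup X) ≠ ⊥)
    (hloc : ContainsLocals (T : Subgroup X) Y) : Cfsg.IsStronglyEmbedded Y := by
  haveI : Fact (Nat.Prime 2) := ⟨Nat.prime_two⟩
  have hTY := containsLocals_le hloc hT
  have heven : ∀ K : Subgroup X, (T : Subgroup X) ≤ K → Even (Nat.card K) := fun K hK => by
    haveI : Nontrivial T := (Subgroup.nontrivial_iff_ne_bot _).2 hT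
    obtain ⟨n, hn, hcard⟩ := T.isPGroup'.nontrivial_iff_card.1 inferInstance
    exact even_iff_two_dvd.2 ((hcard ▸ dvd_pow_self 2 hn.ne' : 2 ∣ Nat.card T).trans
      (Subgroup.card_dvd_of_le hK))
  refine ⟨hY, heven Y hTY, fun g hg => ?_⟩
  by_contra hodd
  obtain ⟨x, hx⟩ := exists_prime_orderOf_dvd_card'
    (G := ↥(Y ⊓ Y.map (MulAut.conj g).toMonoidHom)) 2
    (even_iff_two_dvd.1 (Nat.not_odd_iff_even.1 hodd))
  obtain ⟨hxY, v, hvY, hv⟩ := x.2
  have hxo : orderOf (x : X) = 2 := by rwa [orderOf_coe]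
  have intoT : ∀ w ∈ Y, orderOf w = 2 → ∃ y ∈ Y, y * w * y⁻¹ ∈ (T : Subgroup X) := by
    intro w hw hwo
    have hp : IsPGroup 2 (Subgroup.zpowers (⟨w, hw⟩ : Y)) := IsPGroup.of_card (n := 1) (by
      rw [Nat.card_zpowers, ← orderOf_coe]
      simpa using hwo)
    obtain ⟨W, hW⟩ := hp.exists_le_sylow
    obtain ⟨y, hy⟩ := MulAction.exists_smul_eq Y W (T.subtype hTY)
    refine ⟨y, y.2, ?_⟩
    have h1 : (y * ⟨w, hw⟩ * y⁻¹ : Y) ∈ (T.subtype hTY : Subgroup Y) := by
      rw [← hy, Sylow.coe_subgroup_smul]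
      exact ⟨⟨w, hw⟩, hW (Subgroup.mem_zpowers _), rfl⟩
    exact h1
  have hv' : g * v * g⁻¹ = x := hv
  have hvo : orderOf v = 2 := by rw [← hxo, ← hv', orderOf_conj_eq]
  obtain ⟨y₁, hy₁, h1⟩ := intoT x hxY hxo
  obtain ⟨y₂, hy₂, h2⟩ := intoT v hvY hvo
  have hne : Subgroup.zpowers (y₂ * v * y₂⁻¹) ≠ ⊥ := by
    rw [Ne, Subgroup.zpowers_eq_bot]
    intro h
    rw [conj_eq_one_iff] at h
    rw [h, orderOf_one] at hvo
    exact absurd hvo (by norm_num)
  have hmem : (y₁ * g * y₂⁻¹)⁻¹ ∈ Y := by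
    refine mem_of_containsLocals hloc (Subgroup.zpowers_le.2 h2) hne fun u hu => ?_
    obtain ⟨k, rfl⟩ := Subgroup.mem_zpowers_iff.1 hu
    rw [inv_inv, ← conj_zpow]
    refine Subgroup.zpow_mem _ ?_ k
    rw [← hv'] at h1
    simpa [mul_assoc] using h1
  have := Y.mul_mem (Y.mul_mem (Y.inv_mem hy₁) (inv_mem_iff.1 hmem)) hy₂
  exact hg (by simpa [mul_assoc] using this)

variable {Ω : Type*} [Group Ω] {S : Subgroup Ω} [Finite S] {F : FusionSystem S}

/-- The size of the centralizer in `P` of an element. -/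
noncomputable def fixCard (P : Subgroup Ω) (c : Ω) : ℕ :=
  Nat.card {p : P // c * (p : Ω) * c⁻¹ = (p : Ω)}

/-- Outer involutions of an essential subgroup lie in one class: for `a`, `b` normalizing `P`,
outside `P` with squares in `P`, every centralizer size on `P` of an element of `aP` occurs in
`bP`. -/
theorem exists_fixCard_eq (hS : IsPGroup 2 S) (hF : F.IsSaturated 2) {P : Subgroup Ω}
    (hP : F.IsEssential 2 P) {a b : Ω} (ha : a ∈ normalizerIn S P) (hb : b ∈ normalizerIn S P)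
    (haP : a ∉ P) (hbP : b ∉ P) (ha2 : a * a ∈ P) (hb2 : b * b ∈ P) (x : P) :
    ∃ y : P, fixCard P (b * y) = fixCard P (a * x) := by
  haveI : Fact (Nat.Prime 2) := ⟨Nat.prime_two⟩
  have hPS := hP.1.1
  haveI := finite_of_le hPS
  obtain ⟨W, Y, hW, hY, hloc, -⟩ := exists_locals_of_essential hS hF hP
  have hse := isStronglyEmbedded_of_containsLocals hY hW hloc
  set π := QuotientGroup.mk' ((Inn P).subgroupOf (F.autGroup P))
  let mk : ∀ c, c ∈ normalizerIn S P → F.autGroup P := fun c hc =>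
    ⟨P.normalizerMonoidHom ⟨c, hc.2⟩,
      autInducedBy_le_autGroup hPS (mem_autInducedBy_iff.2 ⟨c, hc.1, fun _ => rfl⟩)⟩
  have hmk : ∀ c (hc : c ∈ normalizerIn S P) (p : P),
      ((((mk c hc : F.autGroup P) : MulAut P) p : P) : Ω) = c * p * c⁻¹ := fun c hc p => rfl
  have ord : ∀ c (hc : c ∈ normalizerIn S P), c ∉ P → c * c ∈ P → orderOf (π (mk c hc)) = 2 := by
    intro c hc hcP hc2
    refine orderOf_eq_prime ?_ fun h => hcP ?_
    · rw [← map_pow]
      refine (QuotientGroup.eq_one_iff _).2 ⟨⟨c * c, hc2⟩, ?_⟩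
      refine MulEquiv.ext fun p => Subtype.ext ?_
      show c * c * (p : Ω) * (c * c)⁻¹ = _
      rw [pow_two]
      show _ = c * (c * p * c⁻¹) * c⁻¹
      group
    · exact mem_of_normalizerMonoidHom_mem_inn hP.1 hc ((QuotientGroup.eq_one_iff
        (N := (Inn P).subgroupOf (F.autGroup P)) _).1 h)
  obtain ⟨q, hq⟩ := isConj_iff.1 (Invol.se_isConj hse (ord a ha haP ha2) (ord b hb hbP hb2))
  obtain ⟨g, rfl⟩ := QuotientGroup.mk'_surjective _ q
  have hd : π ((mk b hb)⁻¹ * (g * mk a ha * g⁻¹)) = 1 := by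
    rw [map_mul, map_inv, map_mul, map_mul, map_inv, hq, inv_mul_cancel]
  obtain ⟨h, hh⟩ : ∃ h : P, ((mk b hb : MulAut P))⁻¹ *
      ((g : MulAut P) * (mk a ha : MulAut P) * (g : MulAut P)⁻¹) = MulAut.conj h := by
    obtain ⟨h, hh⟩ := (QuotientGroup.eq_one_iff
      (N := (Inn P).subgroupOf (F.autGroup P)) _).1 hd
    exact ⟨h, hh.symm⟩
  refine ⟨h * (g : MulAut P) x, ?_⟩
  have key : ∀ p : P, (a * x) * (p : Ω) * (a * x)⁻¹ =
      ((((mk a ha : F.autGroup P) : MulAut P) (x * p * x⁻¹) : P) : Ω) := fun p => by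
    rw [hmk a ha, coe_mul, coe_mul, coe_inv]
    group
  refine Nat.card_congr (Equiv.subtypeEquiv (g : MulAut P).toEquiv fun p => ?_).symm
  have e : (b * ↑(h * (g : MulAut P) x)) * (((g : MulAut P) p : P) : Ω) *
      (b * ↑(h * (g : MulAut P) x))⁻¹ =
      (((g : MulAut P) ((mk a ha : MulAut P) (x * p * x⁻¹)) : P) : Ω) := by
    have h1 := MulEquiv.congr_fun hh ((g : MulAut P) (x * p * x⁻¹))
    simp only [MulAut.mul_apply, MulAut.inv_apply_self, MulAut.conj_apply] at h1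
    have h2 := congrArg (mk b hb : MulAut P) h1
    rw [MulAut.apply_inv_self] at h2
    rw [h2, hmk b hb]
    simp only [map_mul, map_inv, coe_mul, coe_inv]
    group
  show (a * x) * (p : Ω) * (a * x)⁻¹ = (p : Ω) ↔ _
  rw [key p]
  show _ ↔ (b * ↑(h * (g : MulAut P) x)) * (((g : MulAut P) p : P) : Ω) * _ = _
  rw [e]
  exact ⟨fun h3 => by rw [Subtype.ext h3]; rfl, fun h3 =>
    congrArg Subtype.val ((g : MulAut P).injective (Subtype.ext h3))⟩

end CfsgLib.SylHS
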