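import Cfsg.Agent.Lib.SylHS.Subgroups
import Cfsg.Agent.Lib.SylHS.OneClass

/-!
The candidates for the essential subgroups of a saturated system on the Sylow subgroup of the
Higman–Sims group.
-/

set_option autoImplicit false
set_option maxRecDepth 100000
set_option linter.style.haveILetI false

namespace CfsgLib.SylHS

open Subgroup

universe u

variable {G : Type u} [Group G] {T : Subgroup G} (F : Frame T)

theorem chainOK_spec {a : ℕ} : ∀ {ms : List ℕ}, chainOK a ms = true → ∀ i, i + 1 < ms.length →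
    ms.getD i 0 &&& ms.getD (i + 1) 0 = ms.getD i 0 ∧
      ∀ h ∈ elems (ms.getD (i + 1) 0), mem (ms.getD i 0) (mt (iv h) (cj a h)) = true
  | [], _, i, hi => by simp at hi
  | [_], _, i, hi => by simp at hi
  | x :: y :: rest, h, i, hi => by
    simp only [chainOK, Bool.and_eq_true, List.all_eq_true, beq_true] at h
    cases i with
    | zero => simpa using ⟨h.1.1, h.1.2⟩
    | succ i => simpa using chainOK_spec h.2 i (by simpa using hi)

theorem candMask_eq (k : ℕ) (hk : k < 4) : candMask ⟨k, hk⟩ =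
    (if k = 0 then p8Mask else if k = 1 then p11Mask else if k = 2 then p12Mask else aMask) := by
  interval_cases k <;> rfl

namespace Frame

/-- The candidates for essential subgroups. -/
def cand (k : Fin 4) : Subgroup G := F.sub (candMask k)

theorem sub_top : F.sub (2 ^ 512 - 1) = T := by
  refine le_antisymm (F.sub_le _) fun x hx => ?_
  obtain ⟨d, hd, rfl⟩ := F.surj x hx
  refine subset_closure ((F.mem_set_p hd).2 ?_)
  rw [mem, Nat.testBit_two_pow_sub_one, decide_eq_true_eq]; exact hd

theorem normalizes_of_normOK {i a : ℕ} (hi : i < 542)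
    (h : normOK (repAt i).mask (repAt i).gens a = true) [Finite ↥T] :
    F.p a ∈ Cfsg.FusionSystem.normalizerIn T (F.sub (repAt i).mask) := by
  simp only [normOK, Bool.and_eq_true, List.all_eq_true, Nat.blt_eq] at h
  refine ⟨F.p_mem a h.1, ?_⟩
  haveI : Finite (F.sub (repAt i).mask : Set G) :=
    Finite.of_injective (fun x : (F.sub (repAt i).mask : Set G) => (⟨x.1, F.sub_le _ x.2⟩ : ↥T))
      fun x y e => Subtype.ext (congrArg (fun w : ↥T => (w : G)) e)
  refine mem_normalizer_fintype fun y hy => ?_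
  have hle : F.sub (repAt i).mask ≤
      (F.sub (repAt i).mask).comap (MulAut.conj (F.p a)).toMonoidHom := by
    conv_lhs => rw [F.sub_eq_closure (gen_ok hi)]
    refine (closure_le _).2 ?_
    rintro _ ⟨g, hg, rfl⟩
    show F.p a * F.p g * (F.p a)⁻¹ ∈ F.sub (repAt i).mask
    rw [F.p_conj h.1 (gens_lt (gen_ok hi) g hg)]
    exact (F.mem_sub_get hi (cj_lt _ _)).2 (h.2 g hg)
  exact hle hy

theorem fixCard_eq {i c : ℕ} (hi : i < 542) (hc : c < 512) :
    fixCard (F.sub (repAt i).mask) (F.p c) =
      (elems (repAt i).mask).countP fun h => Nat.beq (mt c h) (mt h c) := by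
  rw [countP_eq (P := F.sub (repAt i).mask) (F.coe_sub_get hi).symm.subset hc]
  refine Nat.card_congr (Equiv.subtypeEquivRight fun y => ?_)
  rw [mul_inv_eq_iff_eq_mul, ← F.coe_sub_get hi]
  exact ⟨fun h => ⟨y.2, h⟩, fun h => h.2⟩

/-- The dichotomy for one subgroup of the list. -/
theorem cand_of_essential [Finite G] {E : Cfsg.FusionSystem T} (hE : E.IsSaturated 2) {i : ℕ}
    (hi : i < 542) (hP : E.IsEssential 2 (F.sub (repAt i).mask)) :
    ∃ k, F.cand k = F.sub (repAt i).mask := by
  haveI : Fact (Nat.Prime 2) := ⟨Nat.prime_two⟩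
  set P := F.sub (repAt i).mask with hPdef
  have hset : (P : Set G) = F.set (repAt i).mask := F.coe_sub_get hi
  have hc : Cfsg.FusionSystem.centralizerIn T P ≤ P := hP.1.2 P (Fusion.isConj_refl (F.sub_le _))
  have hw := wit_ok hi
  revert hw
  generalize (repAt i).wit = w
  intro hw
  have hg := gen_ok hi
  cases w with
  | notCentric c =>
    simp only [witOK, Bool.and_eq_true, List.all_eq_true, beq_true, Nat.blt_eq,
      Bool.not_eq_true'] at hw
    obtain ⟨⟨hc512, hcm⟩, hcc⟩ := hw
    exfalso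
    refine Bool.eq_false_iff.1 hcm ((F.mem_sub_get hi hc512).1 (hc ⟨F.p_mem c hc512, fun y hy => ?_⟩))
    rw [hPdef, F.sub_eq_closure hg] at hy
    refine (comm_closure (x := F.p c) ?_ y hy).symm
    rintro _ ⟨g, hg', rfl⟩
    exact (F.comm_iff hc512 (gens_lt hg g hg')).2 (hcc g hg')
  | whole =>
    simp only [witOK, beq_true] at hw
    have := Fusion.lt_of_essential F.isPGroup hE hP
    rw [hPdef, hw, F.sub_top] at this
    exact absurd this (lt_irrefl _)
  | candidate k =>
    simp only [witOK, Bool.and_eq_true, beq_true, Nat.blt_eq] at hw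
    exact ⟨⟨k, hw.1⟩, by rw [hPdef, cand, candMask_eq k hw.1, hw.2]⟩
  | invol a b x n =>
    simp only [witOK, Bool.and_eq_true, List.all_eq_true, beq_true, Nat.blt_eq,
      Bool.not_eq_true'] at hw
    obtain ⟨⟨⟨⟨⟨⟨⟨⟨⟨hna, hnb⟩, ham⟩, hbm⟩, ha2⟩, hb2⟩, hx⟩, hxm⟩, hn⟩, hall⟩ := hw
    exfalso
    have hna' := hna; have hnb' := hnb
    simp only [normOK, Bool.and_eq_true, Nat.blt_eq] at hna' hnb'
    have hout : ∀ e, e < 512 → mem (repAt i).mask e = false → F.p e ∉ P := fun e he hm h => by
      rw [hPdef, F.mem_sub_get hi he, hm] at h; exact Bool.false_ne_true h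
    have hsq : ∀ e, e < 512 → mem (repAt i).mask (mt e e) = true → F.p e * F.p e ∈ P := fun e he hm => by
      rw [F.mul e he e he, hPdef, F.mem_sub_get hi (mt_lt e e)]; exact hm
    obtain ⟨y, hy⟩ := exists_fixCard_eq F.isPGroup hE hP (F.normalizes_of_normOK hi hna)
      (F.normalizes_of_normOK hi hnb) (hout a hna'.1 ham) (hout b hnb'.1 hbm) (hsq a hna'.1 ha2)
      (hsq b hnb'.1 hb2) ⟨F.p x, (F.mem_sub_get hi hx).2 hxm⟩
    obtain ⟨d, hd, hde⟩ : (y : G) ∈ {z | ∃ d ∈ elems (repAt i).mask, F.p d = z} :=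
      mem_set_elems.1 (hset ▸ y.2)
    have hlt := elems_lt _ d hd
    rw [← hde, F.mul b hnb'.1 d hlt] at hy
    have hy' := hy.trans (by rw [show F.p a * F.p x = F.p (mt a x) from F.mul a hna'.1 x hx])
    rw [F.fixCard_eq hi (mt_lt _ _), F.fixCard_eq hi (mt_lt _ _), hn] at hy'
    exact Bool.false_ne_true ((hall d hd).symm.trans (beq_true.2 hy'))
  | stab a prog ch =>
    simp only [witOK, Bool.and_eq_true, beq_true, Bool.not_eq_true'] at hw
    obtain ⟨⟨⟨⟨⟨hnorm, ham⟩, hprog⟩, hfirst⟩, hlast⟩, hchain⟩ := hw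
    exfalso
    have ha : a < 512 := by
      simp only [normOK, Bool.and_eq_true, Nat.blt_eq] at hnorm; exact hnorm.1
    set M := (repAt i).mask with hM
    set ms := ch.map fun k => (progVals M prog).getD k 1 with hms
    have hinv : ∀ k, F.Inv P ((progVals M prog).getD k 1) := inv_progVals hset hprog
    have hlen : 1 ≤ ms.length := by
      rcases ms with _ | ⟨_, _⟩
      · simp at hfirst
      · simp
    have hms_inv : ∀ k < ms.length, F.Inv P (ms.getD k 0) := fun k hk => by
      rw [List.getD_eq_getElem?_getD, List.getElem?_eq_getElem hk, Option.getD_some]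
      simp only [hms, List.getElem_map]
      exact hinv _
    let C : ℕ → Subgroup G := fun k =>
      if k < ms.length then closure (F.set (ms.getD k 0)) else ⊤
    have hCle : ∀ k, k < ms.length → C k = closure (F.set (ms.getD k 0)) := fun k hk => by
      simp [C, hk]
    have hCinv : ∀ k, k < ms.length → ∀ (α : MulAut P) (x : P),
        (x : G) ∈ closure (F.set (ms.getD k 0)) →
        ((α x : P) : G) ∈ closure (F.set (ms.getD k 0)) := fun k hk α =>
      closure_inv (hms_inv k hk).1 α fun x hx => subset_closure ((hms_inv k hk).2 α x hx)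
    refine Bool.eq_false_iff.1 ham ((F.mem_sub_get hi ha).1 ?_)
    refine Fusion.mem_of_stabilizes F.isPGroup hP.1
      (Fusion.essential_isRadical F.isPGroup hE hP) ⊤ (ms.length - 1) C
      (monotone_nat_of_le_succ fun k => ?_) (fun k α _ x hx => ?_) ?_ (fun α _ => ⟨0, fun x hx => ?_⟩)
      (F.normalizes_of_normOK hi hnorm) (fun α _ => Subgroup.mem_top _) fun k hk x hxP hx => ?_
    · rcases Nat.lt_or_ge (k + 1) ms.length with h | h
      · rw [hCle k (by omega), hCle _ h]
        exact closure_mono (F.set_mono (chainOK_spec hchain k h).1)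
      · simp [C, Nat.not_lt.2 h]
    · rcases Nat.lt_or_ge k ms.length with h | h
      · rw [hCle k h] at hx ⊢
        exact hCinv k h α x hx
      · simp [C, Nat.not_lt.2 h]
    · rw [hCle _ (by omega), hlast]; exact le_rfl
    · rw [hCle 0 (by omega), hfirst, F.set_one, closure_singleton_one, Subgroup.mem_bot] at hx
      rw [show x = 1 from Subtype.ext hx, map_one]
    · have h : k + 1 < ms.length := by omega
      rw [hCle _ h] at hx
      rw [hCle k (by omega)]
      obtain ⟨hmono, hstab⟩ := chainOK_spec hchain k h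
      have hkP : closure (F.set (ms.getD k 0)) ≤ P := (closure_le P).2 (hms_inv k (by omega)).1
      have hk1P : closure (F.set (ms.getD (k + 1) 0)) ≤ P := (closure_le P).2 (hms_inv (k + 1) h).1
      have hcm : ∀ w ∈ P, ∀ c ∈ closure (F.set (ms.getD k 0)),
          w * c * w⁻¹ ∈ closure (F.set (ms.getD k 0)) := fun w hw c hc' => by
        have := hCinv k (by omega) (MulAut.conj (⟨w, hw⟩ : ↥P)) ⟨c, hkP hc'⟩ hc'
        simpa using this
      clear hxP
      induction hx using closure_induction with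
      | mem w hw =>
        obtain ⟨d, hd, hm, rfl⟩ := hw
        refine subset_closure ?_
        rw [F.p_inv hd, F.p_conj ha hd, F.mul _ (iv_lt d) (cj a d) (cj_lt _ _)]
        exact (F.mem_set_p (mt_lt _ _)).2 (hstab d (mem_elems.2 ⟨hd, hm⟩))
      | one => simp
      | mul u v hu hv iu iv' =>
        have e1 := hcm v⁻¹ (P.inv_mem (hk1P hv)) _ iu
        rw [inv_inv] at e1
        rw [show (u * v)⁻¹ * (F.p a * (u * v) * (F.p a)⁻¹) =
          (v⁻¹ * (u⁻¹ * (F.p a * u * (F.p a)⁻¹)) * v) * (v⁻¹ * (F.p a * v * (F.p a)⁻¹)) by group]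
        exact mul_mem e1 iv'
      | inv u hu iu =>
        have e1 := hcm u (hk1P hu) _ (inv_mem iu)
        rwa [show u * (u⁻¹ * (F.p a * u * (F.p a)⁻¹))⁻¹ * u⁻¹ =
          u⁻¹⁻¹ * (F.p a * u⁻¹ * (F.p a)⁻¹) by group] at e1

/-- The essential subgroups are conjugate to candidates. -/
theorem hasCandidates [Finite G] {E : Cfsg.FusionSystem T} (hE : E.IsSaturated 2) :
    Fusion.HasCandidates E 2 F.cand := by
  intro P hP
  have hPT : P ≤ T := hP.1.1
  have hc : Cfsg.FusionSystem.centralizerIn T P ≤ P := hP.1.2 P (Fusion.isConj_refl hPT)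
  have hz : F.z ∈ P := hc ⟨F.z_mem, fun y hy => F.z_central (hPT hy)⟩
  obtain ⟨i, hi, s, hs, hsub⟩ := F.exists_index hPT hz
  subst hsub
  obtain ⟨k, hk⟩ := (F.conj s hs).cand_of_essential hE hi hP
  refine ⟨k, s, hs, ?_⟩
  rw [← hk]
  exact F.conj_sub s hs _

end Frame

end CfsgLib.SylHS
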