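import Cfsg.Agent.Lib.SylHS.FactsAutBase
import Cfsg.Agent.Lib.SylHS.FactsData
import Cfsg.Agent.Lib.SylHS.TableFacts

/-!
Automorphisms of the Sylow subgroup and of the three candidates.
-/

set_option autoImplicit false
set_option maxRecDepth 100000
set_option linter.style.haveILetI false

namespace CfsgLib.SylHS

open Subgroup

universe u

/-- An element of `b` outside `a`. -/
def repOf (a b : ℕ) : ℕ := (((elems b).find? fun r => !mem a r).getD 0) % 512

/-- A step of index two. -/
def coset2 (a b : ℕ) : Bool := (elems b).all fun x => mem a x || mem a (mt (iv (repOf a b)) x)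

/-- The two-element mask of the central involution. -/
def zMask : ℕ := 1 ||| 1 <<< 256

/-- The elements of a mask squaring into the central subgroup of order two. -/
def sqZ (v : ℕ) : ℕ := maskOf ((elems v).filter fun h => mem zMask (mt h h))

/-- The mask of a chain entry of the Sylow subgroup. -/
def maskT (i : ℕ) : ℕ := (progVals (2 ^ 512 - 1) progT).getD ((chainT.getD i (1, [])).1) 1

/-- A chain entry of the third candidate. -/
def ent12 (i : ℕ) : ℕ × ℕ × ℕ × List ℕ × List ℕ := chain12.getD i (0, 1, 1, [], [])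

/-- The mask of a chain entry of the third candidate. -/
def mask12 (i : ℕ) : ℕ := (ent12 i).2.2.1

/-- The value of the third program. -/
def val12 (i : ℕ) : ℕ := (progVals p12Mask prog12).getD (ent12 i).2.1 1

theorem progT_ok : progOK (2 ^ 512 - 1) progT [2 ^ 512 - 1, 1] = true := by decide +kernel
theorem prog8_ok : progOK p8Mask prog8 [p8Mask, 1] = true := by decide +kernel
theorem prog11_ok : progOK p11Mask prog11 [p11Mask, 1] = true := by decide +kernel
theorem prog12_ok : progOK p12Mask prog12 [p12Mask, 1] = true := by decide +kernel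

theorem chainT_ok : (Nat.beq (maskT 0) 1 && Nat.beq (maskT 9) (2 ^ 512 - 1) &&
    (List.range 10).all (fun i => spanOK (maskT i) (chainT.getD i (1, [])).2) &&
    (List.range 9).all fun i => coset2 (maskT i) (maskT (i + 1))) = true := by decide +kernel

theorem chain12_ok : (Nat.beq (mask12 0) 1 && Nat.beq (mask12 8) p12Mask &&
    (List.range 9).all (fun i => spanOK (mask12 i) (ent12 i).2.2.2.2) &&
    (List.range 8).all (fun i => coset2 (mask12 i) (mask12 (i + 1))) &&
    (List.range 9).all fun i =>
      bif Nat.beq (ent12 i).1 0 then Nat.beq (mask12 i) (val12 i)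
      else bif Nat.beq (ent12 i).1 1 then
        cloOK (sqZ (val12 i)) (ent12 i).2.2.2.1 (mask12 i)
      else Nat.beq (mask12 i) zMask) = true := by decide +kernel

theorem z_elems : elems zMask = [0, 256] := by decide +kernel

theorem prog8_tgt : ((progVals p8Mask prog8).getD 2 1 = zMask) ∧
    (progVals p8Mask prog8).getD 4 1 = rMask := by decide +kernel

theorem prog11_tgt : ((progVals p11Mask prog11).getD 6 1 = zMask) ∧
    (progVals p11Mask prog11).getD 7 1 = vMask ∧ (progVals p11Mask prog11).getD 4 1 = aMask ∧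
    subOK ((progVals p11Mask prog11).getD 5 1) (rMask ||| r2Mask) = true ∧
    subOK rMask ((progVals p11Mask prog11).getD 5 1) = true ∧
    subOK r2Mask ((progVals p11Mask prog11).getD 5 1) = true ∧
    (elems rMask).any (fun d => !mem r2Mask d) = true := by decide +kernel

theorem closed_r2 : closedOK r2Mask = true := by decide +kernel

theorem prog12_tgt : ((progVals p12Mask prog12).getD 9 1 = vMask) ∧
    (progVals p12Mask prog12).getD 5 1 = aMask ∧
    (progVals p12Mask prog12).getD 6 1 = p12Mask &&& bMask := by decide +kernel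

variable {G : Type u} [Group G] {T : Subgroup G} (F : Frame T)

namespace Frame

theorem set_top : (T : Set G) = F.set (2 ^ 512 - 1) := by
  refine Set.Subset.antisymm (fun x hx => ?_) (F.set_subset _)
  obtain ⟨d, hd, rfl⟩ := F.surj x hx
  refine (F.mem_set_p hd).2 ?_
  rw [mem, Nat.testBit_two_pow_sub_one, decide_eq_true_eq]; exact hd

theorem pres_of_inv {P : Subgroup G} {q : ℕ} (hq : closedOK q = true) (hi : F.Inv P q)
    (α : MulAut P) : Pres α (F.sub q) := fun x hx => by
  rw [← SetLike.mem_coe, F.coe_sub hq] at hx ⊢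
  exact hi.2 α x hx

theorem fix_z_of_inv {P : Subgroup G} (hi : F.Inv P zMask) (α : MulAut P) (x : P)
    (hx : (x : G) = F.z) : ((α x : P) : G) = F.z := by
  have h : ((α x : P) : G) ∈ F.set zMask := hi.2 α x
    (hx ▸ Frame.mem_set_elems.2 ⟨256, by rw [z_elems]; simp, rfl⟩)
  obtain ⟨d, hd, e⟩ := Frame.mem_set_elems.1 h
  rw [z_elems] at hd
  rcases List.mem_pair.1 hd with rfl | rfl
  · exfalso
    rw [F.p_zero] at e
    have : x = 1 := α.injective (by rw [map_one]; exact Subtype.ext e.symm)
    exact F.z_ne_one (by rw [← hx, this]; rfl)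
  · exact e.symm

/-- The automorphism maps one subgroup into another. -/
def Pres' {P : Subgroup G} (α : MulAut P) (X Y : ℕ) : Prop :=
  ∀ x : P, (x : G) ∈ F.sub X → ((α x : P) : G) ∈ F.sub Y

/-- The automorphisms of the Sylow subgroup form a `2`-group. -/
theorem isPGroup_aut_top (F : Frame T) : IsPGroup 2 (MulAut T) := by
  haveI := F.finite
  have h := chainT_ok
  simp only [Bool.and_eq_true, List.all_eq_true, List.mem_range, beq_true] at h
  obtain ⟨⟨⟨h0, h9⟩, hspan⟩, hstep⟩ := h
  refine isPGroup_mulAut_of_odd fun α hα => ?_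
  refine aut_eq_one_of_series F.isPGroup (fun i => F.set (maskT i)) 9 ?_ ?_ ?_ α hα ?_
  · show F.set (maskT 0) = {1}
    rw [h0, F.set_one]
  · show (T : Set G) ⊆ F.set (maskT 9)
    rw [h9, ← F.set_top]
  · intro i hi
    exact step_of_coset F (F.coe_sub_span (hspan i (by omega))) (Nat.mod_lt _ (by norm_num))
      (hstep i hi)
  · intro i _
    exact (Frame.inv_progVals F.set_top progT_ok _).2 α

theorem inv_p8 (k : ℕ) : F.Inv (F.sub p8Mask) ((progVals p8Mask prog8).getD k 1) :=
  Frame.inv_progVals (F.coe_sub closed_p8) prog8_ok k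

theorem inv_p11 (k : ℕ) : F.Inv (F.sub p11Mask) ((progVals p11Mask prog11).getD k 1) :=
  Frame.inv_progVals (F.coe_sub closed_p11) prog11_ok k

theorem inv_p12 (k : ℕ) : F.Inv (F.sub p12Mask) ((progVals p12Mask prog12).getD k 1) :=
  Frame.inv_progVals (F.coe_sub closed_p12) prog12_ok k

theorem aut_p8_z (α : MulAut (F.sub p8Mask)) (x : F.sub p8Mask) (hx : (x : G) = F.z) :
    ((α x : F.sub p8Mask) : G) = F.z :=
  F.fix_z_of_inv (prog8_tgt.1 ▸ F.inv_p8 2) α x hx

theorem aut_p8_r (α : MulAut (F.sub p8Mask)) : Pres α (F.sub rMask) :=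
  F.pres_of_inv closed_r (prog8_tgt.2 ▸ F.inv_p8 4) α

theorem aut_p11_z (α : MulAut (F.sub p11Mask)) (x : F.sub p11Mask) (hx : (x : G) = F.z) :
    ((α x : F.sub p11Mask) : G) = F.z :=
  F.fix_z_of_inv (prog11_tgt.1 ▸ F.inv_p11 6) α x hx

theorem aut_p11_v (α : MulAut (F.sub p11Mask)) : Pres α (F.sub vMask) :=
  F.pres_of_inv closed_v (prog11_tgt.2.1 ▸ F.inv_p11 7) α

theorem aut_p11_a (α : MulAut (F.sub p11Mask)) : Pres α (F.sub aMask) :=
  F.pres_of_inv closed_a (prog11_tgt.2.2.1 ▸ F.inv_p11 4) α

theorem aut_p11_r (α : MulAut (F.sub p11Mask)) (hα : Odd (orderOf α)) : Pres α (F.sub rMask) := by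
  haveI := F.finite
  haveI : Finite ↥(F.sub p11Mask) := Finite.of_injective _ (inclusion_injective (F.sub_le _))
  obtain ⟨-, -, -, hsub, hr, hr2, hne⟩ := prog11_tgt
  have hinv := F.inv_p11 5
  generalize (progVals p11Mask prog11).getD 5 1 = S at hinv hsub hr hr2
  have into : ∀ (β : MulAut (F.sub p11Mask)) (X : ℕ), closedOK X = true → subOK X S = true →
      Pres' F β X rMask ∨ Pres' F β X r2Mask := by
    intro β X hX hXS
    by_contra hcon
    simp only [Pres', not_or, not_forall] at hcon
    obtain ⟨⟨a, ha, ha'⟩, b, hb, hb'⟩ := hcon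
    have key : ∀ x : F.sub p11Mask, (x : G) ∈ F.sub X →
        ((β x : F.sub p11Mask) : G) ∈ F.sub rMask ∨ ((β x : F.sub p11Mask) : G) ∈ F.sub r2Mask := by
      intro x hx
      rw [← SetLike.mem_coe, F.coe_sub hX] at hx
      obtain ⟨d, hd, e⟩ := Frame.mem_set_elems.1 (hinv.2 β x (F.set_mono (beq_true.1 hXS) hx))
      have hd' := mem_of_and (beq_true.1 hsub) (mem_elems.1 hd).2
      rw [← e]
      exact (mem_or.1 hd').imp (fun h => (F.mem_sub closed_r (elems_lt _ d hd)).2 h)
        fun h => (F.mem_sub closed_r2 (elems_lt _ d hd)).2 h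
    have hb1 := (key b hb).resolve_right hb'
    have ha2 := (key a ha).resolve_left ha'
    rcases key (a * b) (by rw [coe_mul]; exact mul_mem ha hb) with h | h <;>
      rw [map_mul, coe_mul] at h
    · exact ha' (by simpa using mul_mem h (inv_mem hb1))
    · exact hb' (by simpa using mul_mem (inv_mem ha2) h)
  rcases into α rMask closed_r hr with h | h
  · exact h
  rcases into α r2Mask closed_r2 hr2 with h' | h'
  · have hsq : ∀ k : ℕ, Pres' F ((α * α) ^ k) rMask rMask := by
      intro k
      induction k with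
      | zero => exact fun x hx => hx
      | succ k ih =>
        intro x hx
        rw [pow_succ', MulAut.mul_apply, MulAut.mul_apply]
        exact h' _ (h _ (ih x hx))
    obtain ⟨j, hj⟩ := hα
    have e : (α * α) ^ (j + 1) = α := by
      rw [← pow_two, ← pow_mul, show 2 * (j + 1) = orderOf α + 1 by omega, pow_succ,
        pow_orderOf_eq_one, one_mul]
    exact fun x hx => e ▸ hsq (j + 1) x hx
  · exfalso
    have hall : ∀ k : ℕ, Pres' F (α ^ (k + 1)) rMask r2Mask := by
      intro k
      induction k with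
      | zero => rw [pow_one]; exact h
      | succ k ih =>
        intro x hx
        rw [pow_succ', MulAut.mul_apply]
        exact h' _ (ih x hx)
    obtain ⟨d, hd, hd2⟩ := List.any_eq_true.1 hne
    rw [Bool.not_eq_true'] at hd2
    have hd' := elems_lt _ d hd
    have hdR : F.p d ∈ F.sub rMask := (F.mem_sub closed_r hd').2 (mem_elems.1 hd).2
    have := hall (orderOf α - 1) ⟨F.p d, F.r_le_p11 hdR⟩ hdR
    rw [Nat.sub_add_cancel (orderOf_pos α), pow_orderOf_eq_one, MulAut.one_apply,
      F.mem_sub closed_r2 hd', hd2] at this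
    exact Bool.false_ne_true this

theorem aut_p12_v (α : MulAut (F.sub p12Mask)) : Pres α (F.sub vMask) :=
  F.pres_of_inv closed_v (prog12_tgt.1 ▸ F.inv_p12 9) α

theorem aut_p12_a (α : MulAut (F.sub p12Mask)) : Pres α (F.sub aMask) :=
  F.pres_of_inv closed_a (prog12_tgt.2.1 ▸ F.inv_p12 5) α

theorem aut_p12_b (α : MulAut (F.sub p12Mask)) : Pres α (F.sub bMask) := by
  intro x hx
  have hi : F.Inv (F.sub p12Mask) (p12Mask &&& bMask) := prog12_tgt.2.2 ▸ F.inv_p12 6
  have hxP := x.2
  rw [← SetLike.mem_coe, F.coe_sub closed_p12] at hxP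
  rw [← SetLike.mem_coe, F.coe_sub closed_b] at hx ⊢
  obtain ⟨d, hd, hm, e⟩ := hx
  obtain ⟨d', hd', hm', e'⟩ := hxP
  obtain rfl := F.inj d hd d' hd' (e.trans e'.symm)
  obtain ⟨d₁, hd₁, hm₁, e₁⟩ := hi.2 α x ⟨d, hd, mem_and.2 ⟨hm', hm⟩, e⟩
  exact ⟨d₁, hd₁, (mem_and.1 hm₁).2, e₁⟩

/-- An automorphism of odd order of the third candidate fixing the central involution is trivial. -/
theorem aut_p12_fix (α : MulAut (F.sub p12Mask)) (hα : Odd (orderOf α))
    (hz : ∀ x : F.sub p12Mask, (x : G) = F.z → ((α x : F.sub p12Mask) : G) = F.z) : α = 1 := by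
  have h := chain12_ok
  simp only [Bool.and_eq_true, List.all_eq_true, List.mem_range, beq_true] at h
  obtain ⟨⟨⟨⟨h0, h8⟩, hspan⟩, hstep⟩, hkind⟩ := h
  haveI := F.finite
  haveI : Finite ↥(F.sub p12Mask) := Finite.of_injective _ (inclusion_injective (F.sub_le _))
  have hzset : ∀ x : F.sub p12Mask, (x : G) ∈ F.set zMask → ((α x : F.sub p12Mask) : G) ∈ F.set zMask := by
    intro x hx
    obtain ⟨d, hd, e⟩ := Frame.mem_set_elems.1 hx
    rw [z_elems] at hd
    rcases List.mem_pair.1 hd with rfl | rfl
    · rw [F.p_zero] at e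
      rw [show x = 1 from Subtype.ext e.symm, map_one]
      exact Frame.mem_set_elems.2 ⟨0, by rw [z_elems]; simp, F.p_zero⟩
    · rw [hz x e.symm]
      exact Frame.mem_set_elems.2 ⟨256, by rw [z_elems]; simp, rfl⟩
  refine aut_eq_one_of_series (F.isPGroup.to_le (F.sub_le _)) (fun i => F.set (mask12 i)) 8 ?_ ?_ ?_
    α hα ?_
  · show F.set (mask12 0) = {1}
    rw [h0, F.set_one]
  · show ((F.sub p12Mask : Subgroup G) : Set G) ⊆ F.set (mask12 8)
    rw [h8, F.coe_sub closed_p12]
  · intro i hi
    exact step_of_coset F (F.coe_sub_span (hspan i (by omega))) (Nat.mod_lt _ (by norm_num))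
      (hstep i hi)
  · intro i hi x hx
    have hk := hkind i (by omega)
    revert hk
    cases e0 : Nat.beq (ent12 i).1 0
    · cases e1 : Nat.beq (ent12 i).1 1
      · intro hk
        simp only [cond_false, beq_true] at hk
        simp only [hk] at hx ⊢
        exact hzset x hx
      · intro hk
        simp only [cond_false, cond_true, cloOK, Bool.and_eq_true, List.all_eq_true, beq_true,
          Nat.blt_eq] at hk
        obtain ⟨⟨⟨hg, hgrow⟩, hsub⟩, hcl⟩ := hk
        set e := sqZ (val12 i) with he
        have hA : F.set e ⊆ ((F.sub p12Mask : Subgroup G) : Set G) := by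
          rintro _ ⟨d, hd, hm, rfl⟩
          rw [he, sqZ, mem_maskOf, List.mem_filter] at hm
          exact (F.inv_p12 _).1 (Frame.mem_set_elems.2 ⟨d, hm.1, rfl⟩)
        have heq : F.set (mask12 i) = (closure (F.set e) : Set G) := by
          refine Set.Subset.antisymm ?_ fun y hy => ?_
          · rw [← hgrow]
            refine growMask_le (F := F) (ent12 i).2.2.2.1 1 (fun g hg' => ⟨(hg g hg').2,
              subset_closure ⟨g, (hg g hg').2, (hg g hg').1, rfl⟩⟩) ?_
            rw [F.set_one]; exact Set.singleton_subset_iff.2 (one_mem _)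
          · have h := closure_mono (F.set_mono hsub) hy
            rwa [← sub, ← SetLike.mem_coe, F.coe_sub_span (hspan i (by omega))] at h
        rw [heq] at hx ⊢
        refine closure_inv hA α (fun y hy => subset_closure ?_) x hx
        obtain ⟨d, hd, hm, e'⟩ := hy
        rw [he, sqZ, mem_maskOf, List.mem_filter] at hm
        obtain ⟨d', hd', e''⟩ := Frame.mem_set_elems.1
          ((F.inv_p12 _).2 α y (Frame.mem_set_elems.2 ⟨d, hm.1, e'⟩))
        have hlt := elems_lt _ d' hd'
        refine ⟨d', hlt, ?_, e''⟩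
        rw [he, sqZ, mem_maskOf, List.mem_filter]
        refine ⟨hd', (F.mem_set_p (mt_lt d' d')).1 ?_⟩
        rw [← F.mul d' hlt d' hlt, e'', ← coe_mul, ← map_mul]
        refine hzset (y * y) ?_
        rw [coe_mul, ← e', F.mul d hd d hd, F.mem_set_p (mt_lt d d)]
        exact hm.2
    · intro hk
      simp only [cond_true, beq_true] at hk
      simp only [hk] at hx ⊢
      exact (F.inv_p12 _).2 α x hx

end Frame

end CfsgLib.SylHS
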