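import Cfsg.Agent.Lib.SylHS.FactsBasic

/-!
An automorphism of odd order stabilising a series of subsets with steps of index two is trivial.
-/

set_option autoImplicit false
set_option maxRecDepth 100000
set_option linter.style.haveILetI false

namespace CfsgLib.SylHS

open Subgroup

universe u

variable {G : Type u} [Group G]

/-- An automorphism of odd order of a `2`-group stabilising such a series is trivial. -/
theorem aut_eq_one_of_series {P : Subgroup G} [Finite P] (hP : IsPGroup 2 P) (C : ℕ → Set G)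
    (n : ℕ) (h0 : C 0 = {1}) (hn : (P : Set G) ⊆ C n)
    (hstep : ∀ i < n, ∀ a ∈ C (i + 1), ∀ b ∈ C (i + 1), a ∉ C i → b ∉ C i → a⁻¹ * b ∈ C i)
    (α : MulAut P) (hodd : Odd (orderOf α))
    (hinv : ∀ i ≤ n, ∀ x : P, (x : G) ∈ C i → ((α x : P) : G) ∈ C i) : α = 1 := by
  suffices h : ∀ i ≤ n, ∀ x : P, (x : G) ∈ C i → α x = x from
    MulEquiv.ext fun x => h n le_rfl x (hn x.2)
  intro i
  induction i with
  | zero =>
    intro _ x hx
    rw [h0, Set.mem_singleton_iff] at hx
    rw [show x = 1 from Subtype.ext hx, map_one]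
  | succ i ih =>
    intro hi x hx
    have hfix := ih (by omega)
    by_cases hxi : (x : G) ∈ C i
    · exact hfix x hxi
    have hax := hinv (i + 1) hi x hx
    have haxn : ((α x : P) : G) ∉ C i := fun h => by
      have e : α x = x := α.injective (hfix _ h)
      exact hxi (e ▸ h)
    have hy : ((x⁻¹ * α x : P) : G) ∈ C i := hstep i (by omega) _ hx _ hax hxi haxn
    have hpow : ∀ k : ℕ, (α ^ k) x = x * (x⁻¹ * α x) ^ k := by
      intro k
      induction k with
      | zero => simp
      | succ k ihk =>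
        rw [pow_succ', MulAut.mul_apply, ihk, map_mul, map_pow, hfix _ hy, pow_succ' _ k, ← mul_assoc x,
          mul_inv_cancel_left]
    have h1 := hpow (orderOf α)
    rw [pow_orderOf_eq_one, MulAut.one_apply, left_eq_mul] at h1
    obtain ⟨e, he⟩ := hP (x⁻¹ * α x)
    have hd : orderOf (x⁻¹ * α x) = 1 :=
      Nat.eq_one_of_dvd_coprimes ((Nat.coprime_two_right.2 hodd).pow_right e)
        (orderOf_dvd_of_pow_eq_one h1) (orderOf_dvd_of_pow_eq_one he)
    rw [orderOf_eq_one_iff, inv_mul_eq_one] at hd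
    exact hd.symm

/-- If the automorphisms of odd order are trivial, the automorphisms form a `2`-group. -/
theorem isPGroup_mulAut_of_odd {P : Subgroup G} [Finite P]
    (h : ∀ α : MulAut P, Odd (orderOf α) → α = 1) : IsPGroup 2 (MulAut P) := by
  intro α
  obtain ⟨k, m, hm, e⟩ := Nat.exists_eq_two_pow_mul_odd (orderOf_pos α).ne'
  refine ⟨k, h _ ?_⟩
  rw [orderOf_pow, e, Nat.gcd_mul_right_left, Nat.mul_div_cancel_left _ (by positivity)]
  exact hm


variable {T : Subgroup G} (F : Frame T)

theorem mem_sub_of_mem {m : ℕ} {x : G} (hm : (F.sub m : Set G) = F.set m) :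
    x ∈ F.sub m ↔ ∃ d ∈ elems m, F.p d = x := by
  rw [← SetLike.mem_coe, hm, Frame.mem_set_elems]

/-- A step by one coset. -/
theorem step_of_coset {a b r : ℕ} (ha : (F.sub a : Set G) = F.set a) (hr : r < 512)
    (h : ((elems b).all fun x => mem a x || mem a (mt (iv r) x)) = true) :
    ∀ x ∈ F.set b, ∀ y ∈ F.set b, x ∉ F.set a → y ∉ F.set a → x⁻¹ * y ∈ F.set a := by
  intro x hx y hy hxa hya
  simp only [List.all_eq_true, Bool.or_eq_true] at h
  have key : ∀ w ∈ F.set b, w ∉ F.set a → (F.p r)⁻¹ * w ∈ F.sub a := by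
    intro w hw hwa
    obtain ⟨d, hd, rfl⟩ := Frame.mem_set_elems.1 hw
    have hd' := Frame.elems_lt b d hd
    rw [F.p_inv hr, F.mul _ (iv_lt r) d hd', ← SetLike.mem_coe, ha, F.mem_set_p (mt_lt _ _)]
    exact (h d hd).resolve_left fun h' => hwa ((F.mem_set_p hd').2 h')
  have := mul_mem (inv_mem (key x hx hxa)) (key y hy hya)
  rw [← ha, SetLike.mem_coe]
  convert this using 1
  group

end CfsgLib.SylHS
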