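import Cfsg.Agent.Lib.SylHS.Masks

/-!
The named masks are closed under products and inverses.
-/

set_option autoImplicit false
set_option maxRecDepth 100000

namespace CfsgLib.SylHS

theorem closed_v : closedOK vMask = true := by decide +kernel
theorem closed_c : closedOK cMask = true := by decide +kernel
theorem closed_a : closedOK aMask = true := by decide +kernel
theorem closed_r : closedOK rMask = true := by decide +kernel
theorem closed_p8 : closedOK p8Mask = true := by decide +kernel
theorem closed_b : closedOK bMask = true := by decide +kernel
theorem closed_p11 : closedOK p11Mask = true := by decide +kernel
theorem closed_p12 : closedOK p12Mask = true := by decide +kernel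

end CfsgLib.SylHS
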