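import Cfsg.Agent.Lib.SylHS.Programs
import Cfsg.Agent.Lib.SylHS.FactsClosed

/-!
The named subgroups of the table: orders, inclusions, indices, and subgroups given by generators.
-/

set_option autoImplicit false
set_option maxRecDepth 100000
set_option linter.style.haveILetI false

namespace CfsgLib.SylHS

open Subgroup

universe u

/-- The mask is generated by the list and closed under multiplication by it. -/
def spanOK (m : ℕ) (gs : List ℕ) : Bool :=
  gs.all (fun g => Nat.blt g 512) && mem m 0 && Nat.beq (growMask 1 gs) m &&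
    gs.all fun g => (elems m).all fun h => mem m (mt g h)

/-- Inclusion of masks. -/
def subOK (a b : ℕ) : Bool := Nat.beq (a &&& b) a

variable {G : Type u} [Group G] {T : Subgroup G} (F : Frame T)

namespace Frame

theorem coe_sub_span {m : ℕ} {gs : List ℕ} (h : spanOK m gs = true) :
    (F.sub m : Set G) = F.set m := by
  simp only [spanOK, Bool.and_eq_true, List.all_eq_true, beq_true, Nat.blt_eq] at h
  obtain ⟨⟨⟨hg, h0⟩, hgrow⟩, hcl⟩ := h
  have e : F.set m = (closure (F.p '' {g | g ∈ gs}) : Set G) := by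
    refine Set.Subset.antisymm ?_ (closure_subset (F := F) h0 hg hcl)
    rw [← hgrow]
    refine growMask_le (F := F) gs 1 (fun g hg' =>
      ⟨hg g hg', subset_closure (Set.mem_image_of_mem F.p (show g ∈ {g | g ∈ gs} from hg'))⟩) ?_
    rw [F.set_one]
    exact Set.singleton_subset_iff.2 (one_mem _)
  rw [sub, e, closure_eq]

theorem card_set (m : ℕ) : Nat.card (F.set m) = (elems m).length := by
  classical
  rw [← List.toFinset_card_of_nodup (nodup_elems m), ← Nat.card_eq_finsetCard]
  refine (Nat.card_congr (Equiv.ofBijective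
    (fun d => (⟨F.p d.1, mem_set_elems.2 ⟨d.1, List.mem_toFinset.1 d.2, rfl⟩⟩ : F.set m))
    ⟨fun a b e => ?_, ?_⟩)).symm
  · exact Subtype.ext (F.inj _ (elems_lt m _ (List.mem_toFinset.1 a.2)) _
      (elems_lt m _ (List.mem_toFinset.1 b.2)) (congrArg Subtype.val e))
  · rintro ⟨x, hx⟩
    obtain ⟨d, hd, rfl⟩ := mem_set_elems.1 hx
    exact ⟨⟨d, List.mem_toFinset.2 hd⟩, rfl⟩

theorem card_sub {m : ℕ} (h : closedOK m = true) : Nat.card (F.sub m) = (elems m).length := by
  rw [← F.card_set m, ← F.coe_sub h]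
  rfl

theorem sub_mono {a b : ℕ} (h : subOK a b = true) : F.sub a ≤ F.sub b :=
  closure_mono (F.set_mono (beq_true.1 h))

theorem mem_sub_iff {m : ℕ} (h : closedOK m = true) {x : G} :
    x ∈ F.sub m ↔ ∃ d ∈ elems m, F.p d = x := by
  rw [← SetLike.mem_coe, F.coe_sub h, mem_set_elems]

theorem sub_inf {a b : ℕ} (ha : closedOK a = true) (hb : closedOK b = true)
    (hab : closedOK (a &&& b) = true) : F.sub a ⊓ F.sub b = F.sub (a &&& b) := by
  ext x
  rw [Subgroup.mem_inf, F.mem_sub_iff ha, F.mem_sub_iff hb, F.mem_sub_iff hab]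
  constructor
  · rintro ⟨⟨d, hd, rfl⟩, e, he, h⟩
    obtain rfl := F.inj e (elems_lt _ e he) d (elems_lt _ d hd) h
    exact ⟨e, mem_elems.2 ⟨elems_lt _ e hd, mem_and.2 ⟨(mem_elems.1 hd).2, (mem_elems.1 he).2⟩⟩, rfl⟩
  · rintro ⟨d, hd, rfl⟩
    obtain ⟨hl, hm⟩ := mem_elems.1 hd
    exact ⟨⟨d, mem_elems.2 ⟨hl, (mem_and.1 hm).1⟩, rfl⟩, d, mem_elems.2 ⟨hl, (mem_and.1 hm).2⟩, rfl⟩

theorem card_v : Nat.card (F.sub vMask) = 8 := (F.card_sub closed_v).trans (by decide +kernel)
theorem card_c : Nat.card (F.sub cMask) = 4 := (F.card_sub closed_c).trans (by decide +kernel)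
theorem card_a : Nat.card (F.sub aMask) = 64 := (F.card_sub closed_a).trans (by decide +kernel)
theorem card_r : Nat.card (F.sub rMask) = 64 := (F.card_sub closed_r).trans (by decide +kernel)
theorem card_p8 : Nat.card (F.sub p8Mask) = 128 := (F.card_sub closed_p8).trans (by decide +kernel)
theorem card_b : Nat.card (F.sub bMask) = 256 := (F.card_sub closed_b).trans (by decide +kernel)
theorem card_p11 : Nat.card (F.sub p11Mask) = 256 :=
  (F.card_sub closed_p11).trans (by decide +kernel)
theorem card_p12 : Nat.card (F.sub p12Mask) = 256 :=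
  (F.card_sub closed_p12).trans (by decide +kernel)

theorem z_mem_v : F.z ∈ F.sub vMask := (F.mem_sub closed_v (by decide)).2 (by decide +kernel)
theorem v_le_a : F.sub vMask ≤ F.sub aMask := F.sub_mono (by decide +kernel)
theorem v_le_r : F.sub vMask ≤ F.sub rMask := F.sub_mono (by decide +kernel)
theorem c_le_r : F.sub cMask ≤ F.sub rMask := F.sub_mono (by decide +kernel)
theorem r_le_p11 : F.sub rMask ≤ F.sub p11Mask := F.sub_mono (by decide +kernel)
theorem a_le_p11 : F.sub aMask ≤ F.sub p11Mask := F.sub_mono (by decide +kernel)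
theorem v_le_p12 : F.sub vMask ≤ F.sub p12Mask := F.sub_mono (by decide +kernel)
theorem a_le_p12 : F.sub aMask ≤ F.sub p12Mask := F.sub_mono (by decide +kernel)
theorem p8_le_b : F.sub p8Mask ≤ F.sub bMask := F.sub_mono (by decide +kernel)

theorem p8_inf_p11 : F.sub p8Mask ⊓ F.sub p11Mask = F.sub rMask := by
  have e : p8Mask &&& p11Mask = rMask := by decide +kernel
  rw [F.sub_inf closed_p8 closed_p11 (by rw [e]; exact closed_r), e]

theorem index_of_card (F : Frame T) {H : Subgroup G} (hle : H ≤ T) (hc : Nat.card H = 256) :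
    (H.subgroupOf T).index = 2 := by
  have h := (H.subgroupOf T).card_mul_index
  rw [Nat.card_congr (subgroupOfEquivOfLe hle).toEquiv, hc, F.card_T] at h
  omega

theorem index_b : ((F.sub bMask).subgroupOf T).index = 2 :=
  F.index_of_card (F.sub_le _) F.card_b
theorem index_p11 : ((F.sub p11Mask).subgroupOf T).index = 2 :=
  F.index_of_card (F.sub_le _) F.card_p11
theorem index_p12 : ((F.sub p12Mask).subgroupOf T).index = 2 :=
  F.index_of_card (F.sub_le _) F.card_p12

/-- Conjugation by `T` maps a subgroup into itself. -/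
theorem conj_mem_of_check {m : ℕ} (hm : closedOK m = true) {gs : List ℕ} (hg : ∀ g ∈ gs, g < 512)
    (hspan : growMask 1 gs = 2 ^ 512 - 1)
    (h : (gs.all fun g => (elems m).all fun e => mem m (cj g e)) = true) {s : G} (hs : s ∈ T)
    {x : G} (hx : x ∈ F.sub m) : s * x * s⁻¹ ∈ F.sub m := by
  simp only [List.all_eq_true] at h
  haveI := F.finite
  haveI : Finite ↥(F.sub m) := Finite.of_injective _ (inclusion_injective (F.sub_le m))
  have hT : T ≤ normalizer (F.sub m : Set G) := by
    intro y hy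
    obtain ⟨d, hd, rfl⟩ := F.surj y hy
    refine growMask_le (F := F) gs 1 (K := normalizer (F.sub m : Set G)) (fun g hg' =>
      ⟨hg g hg', mem_normalizer_fintype fun z hz => ?_⟩) ?_ ((F.mem_set_p hd).2 ?_)
    · obtain ⟨e, he, rfl⟩ := (F.mem_sub_iff hm).1 hz
      rw [F.p_conj (hg g hg') (elems_lt m e he)]
      exact (F.mem_sub hm (mt_lt _ _)).2 (h g hg' e he)
    · rw [F.set_one]; exact Set.singleton_subset_iff.2 (one_mem _)
    · rw [hspan, mem, Nat.testBit_two_pow_sub_one, decide_eq_true_eq]; exact hd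
  exact (mem_normalizer_iff.1 (hT hs) x).1 hx

/-- The basis of the numbering. -/
def basis : List ℕ := [1, 36, 256, 4, 64, 8, 128, 16, 2]

theorem basis_lt : ∀ g ∈ basis, g < 512 := by decide

theorem basis_span : growMask 1 basis = 2 ^ 512 - 1 := by decide +kernel

theorem conj_v {s x : G} (hs : s ∈ T) (hx : x ∈ F.sub vMask) : s * x * s⁻¹ ∈ F.sub vMask :=
  F.conj_mem_of_check closed_v basis_lt basis_span (by decide +kernel) hs hx
theorem conj_c {s x : G} (hs : s ∈ T) (hx : x ∈ F.sub cMask) : s * x * s⁻¹ ∈ F.sub cMask :=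
  F.conj_mem_of_check closed_c basis_lt basis_span (by decide +kernel) hs hx
theorem conj_a {s x : G} (hs : s ∈ T) (hx : x ∈ F.sub aMask) : s * x * s⁻¹ ∈ F.sub aMask :=
  F.conj_mem_of_check closed_a basis_lt basis_span (by decide +kernel) hs hx
theorem conj_r {s x : G} (hs : s ∈ T) (hx : x ∈ F.sub rMask) : s * x * s⁻¹ ∈ F.sub rMask :=
  F.conj_mem_of_check closed_r basis_lt basis_span (by decide +kernel) hs hx
theorem conj_p11 {s x : G} (hs : s ∈ T) (hx : x ∈ F.sub p11Mask) : s * x * s⁻¹ ∈ F.sub p11Mask :=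
  F.conj_mem_of_check closed_p11 basis_lt basis_span (by decide +kernel) hs hx
theorem conj_p12 {s x : G} (hs : s ∈ T) (hx : x ∈ F.sub p12Mask) : s * x * s⁻¹ ∈ F.sub p12Mask :=
  F.conj_mem_of_check closed_p12 basis_lt basis_span (by decide +kernel) hs hx
theorem conj_b {s x : G} (hs : s ∈ T) (hx : x ∈ F.sub bMask) : s * x * s⁻¹ ∈ F.sub bMask :=
  F.conj_mem_of_check closed_b basis_lt basis_span (by decide +kernel) hs hx

end Frame

end CfsgLib.SylHS
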