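import Cfsg.Agent.Lib.SylHS.Quotient
import Cfsg.Agent.S2072

/-!
A simple group with a Higman–Sims Sylow subgroup is the local quotient, hence the Higman–Sims group.
-/

set_option autoImplicit false
set_option maxRecDepth 100000
set_option linter.style.haveILetI false
set_option linter.unusedSectionVars false

namespace CfsgLib.SylHS

open Subgroup CfsgLib.Fusion CfsgLib.SylAltEight

universe u

/-- Recognition of the whole group from a subgroup with an odd kernel over the model. -/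
def LiftHS : Prop :=
  ∀ (G : Type u) [Group G] [Finite G] (M W : Subgroup G) (_ : Odd (Nat.card W)) (_ : W ≤ M)
    [(W.subgroupOf M).Normal] (_ : M ⧸ W.subgroupOf M ≃* CfsgLib.KnownA.HSModel.hsPermGroup) (t : G)
    (_ : orderOf t = 2) (htM : t ∈ M) (_ : Subgroup.centralizer ({t} : Set G) ≤ M)
    (_ : Nat.card (Subgroup.centralizer ({QuotientGroup.mk' (W.subgroupOf M) ⟨t, htM⟩} :
      Set (M ⧸ W.subgroupOf M))) = 7680)
    (_ : ∀ g : G, g * t * g⁻¹ ∈ M → ∃ m ∈ M, m * t * m⁻¹ = g * t * g⁻¹), M = ⊤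

variable {G : Type u} [Group G] [Finite G] [IsSimpleGroup G] (S : Sylow 2 G)
  (F : Frame (S : Subgroup G)) (hA : AllFacts.{u}) (hS : SpFacts F)
include hA hS

/-- The local subgroup controls the fusion of the central involution. -/
theorem fusion_z (g : G) (hg : g * F.z * g⁻¹ ∈ Mloc S F) :
    ∃ m ∈ Mloc S F, m * F.z * m⁻¹ = g * F.z * g⁻¹ := by
  haveI : Fact (Nat.Prime 2) := ⟨Nat.prime_two⟩
  have hT := hA _ _ F
  set M := Mloc S F
  have hSM := S_le_M S F hA hS
  have hHM : centralizer ({F.z} : Set G) ≤ M := centralizer_z_le_W S F hA hS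
  let U : Set G := {x | ∃ m ∈ M, m * F.z * m⁻¹ = x}
  have hconj : ∀ a ∈ M, ∀ x ∈ U, a * x * a⁻¹ ∈ U := by
    rintro a ha _ ⟨m, hm, rfl⟩
    exact ⟨a * m, mul_mem ha hm, by group⟩
  obtain ⟨⟨k, hkM⟩, hk⟩ := Invol.exists_conj_mem_sylow (S.subtype hSM)
    (H := zpowers (⟨g * F.z * g⁻¹, hg⟩ : M)) (fun w => ⟨1, Subtype.ext (by
      obtain ⟨j, hj⟩ := mem_zpowers_iff.1 w.2
      rw [SubmonoidClass.coe_pow, ← hj, ← zpow_natCast, ← zpow_mul, mul_comm, zpow_mul,
        zpow_natCast, pow_one, show (⟨g * F.z * g⁻¹, hg⟩ : M) ^ 2 = 1 from Subtype.ext (by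
          push_cast
          rw [pow_two, conj_mul, F.z_sq, mul_one, mul_inv_cancel]), one_zpow, OneMemClass.coe_one])⟩)
  have hkS : k * g * F.z * (k * g)⁻¹ ∈ (S : Subgroup G) := by
    rw [show k * g * F.z * (k * g)⁻¹ = k * (g * F.z * g⁻¹) * k⁻¹ by group]
    exact hk _ (mem_zpowers _)
  have hzU : F.z ∈ U := ⟨1, one_mem _, by group⟩
  obtain ⟨m, hm, e⟩ := (fusion_iff S F hT (hcand_of hA S F) U
    (fun s hs x _ => ⟨fun h => by simpa [mul_assoc] using hconj s⁻¹ (inv_mem (hSM hs)) _ h,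
      hconj s (hSM hs) x⟩)
    (fun i _ α hα _ x hx => by
      obtain ⟨a, haN, hax⟩ := exists_of_mem_autGroup S (cands_le S F i) hα
      rw [hax x]
      refine hconj a ?_ _ hx
      have fix : ∀ hz : F.z ∈ F.cands i, ((α ⟨F.z, hz⟩ : F.cands i) : G) = F.z → a ∈ M := fun hz e =>
        hHM (mem_centralizer_singleton_iff.2 (mul_inv_eq_iff_eq_mul.1 ((hax ⟨F.z, hz⟩).symm.trans e)))
      fin_cases i
      · exact fix ((hT.P_inf_Q ▸ inf_le_left : F.subR ≤ F.subP) (hT.V_le_R hT.z_mem_V))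
          (hT.autP_z α _ rfl)
      · exact fix (hT.R_le_Q (hT.V_le_R hT.z_mem_V)) (hT.autQ_z α _ rfl)
      · exact normalizer_V_le_M S F hA hS
          (mem_normalizer_of_pres S F hT (hT.V_le_A.trans hT.A_le_U) hax (hT.autU_V α)))
    F.z_mem hkS).2 hzU
  refine ⟨k⁻¹ * m, mul_mem (inv_mem hkM) hm, ?_⟩
  calc k⁻¹ * m * F.z * (k⁻¹ * m)⁻¹ = k⁻¹ * (m * F.z * m⁻¹) * k := by group
    _ = g * F.z * g⁻¹ := by rw [e]; group

/-- The group is the Higman–Sims group. -/
theorem isoHS_of_frame (hrec : RecogHS.{u}) (hlift : LiftHS.{u}) : Cfsg.Spor.IsoHS G := by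
  haveI := Wloc_normal S F
  obtain ⟨⟨e⟩, hcard⟩ := quotient_isoHS S F hA hS hrec
  set M := Mloc S F
  have hHM : centralizer ({F.z} : Set G) ≤ M := centralizer_z_le_W S F hA hS
  have htop : M = ⊤ := hlift G M (coreClosure F.subV) (odd_W S F hA hS) le_normalizer
    (e.trans (CfsgLib.KnownA.HSModel.hsGroupEquiv.symm.trans Cfsg.Agent.S2072.hsEquiv).symm) F.z
    F.orderOf_z (S_le_M S F hA hS F.z_mem) hHM hcard (fusion_z S F hA hS)
  have hWn : (coreClosure F.subV).Normal := normalizer_eq_top_iff.1 htop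
  have hW : coreClosure F.subV = ⊥ := by
    refine hWn.eq_bot_or_eq_top.resolve_right fun h => ?_
    have hodd := odd_W S F hA hS
    rw [h, card_top] at hodd
    refine Nat.not_even_iff_odd.2 hodd ?_
    exact even_iff_two_dvd.2 (F.orderOf_z ▸ orderOf_dvd_natCard F.z)
  have hWl : Wloc S F = ⊥ := by
    show (coreClosure F.subV).subgroupOf M = ⊥
    rw [hW, bot_subgroupOf]
  exact ⟨(topEquiv.symm.trans ((MulEquiv.subgroupCongr htop.symm).trans
    (QuotientGroup.quotientBot.symm.trans (QuotientGroup.quotientMulEquivOfEq hWl.symm)))).trans e⟩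

end CfsgLib.SylHS
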