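import Cfsg.Agent.Lib.SylHS.CheckTable
import Cfsg.Agent.S2072

/-!
A group with a subgroup numbered by the table of the Sylow 2-subgroup of the Higman–Sims group.
-/

set_option autoImplicit false
set_option maxRecDepth 100000
set_option linter.style.haveILetI false

namespace CfsgLib.SylHS

open Subgroup CfsgLib.KnownA.PermCert CfsgLib.KnownA.HSModel CfsgLib.KnownA.HSModel.Invol

universe u

theorem beq_true {a b : ℕ} : Nat.beq a b = true ↔ a = b :=
  ⟨Nat.eq_of_beq_eq_true, fun h => h ▸ Nat.beq_refl a⟩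

theorem t1_lt (a l : ℕ) : t1 a l < 512 := Nat.mod_lt _ (by norm_num)

theorem t2_lt (a h : ℕ) : t2 a h < 512 := Nat.mod_lt _ (by norm_num)

theorem mt_lt (a b : ℕ) : mt a b < 512 := Nat.mod_lt _ (by norm_num)

theorem iv_lt (a : ℕ) : iv a < 512 := Nat.mod_lt _ (by norm_num)

theorem cj_lt (a b : ℕ) : cj a b < 512 := mt_lt _ _

/-- A subgroup `T` numbered according to the table. -/
structure Frame {G : Type u} [Group G] (T : Subgroup G) where
  /-- The numbering. -/
  p : ℕ → G
  p_mem : ∀ d < 512, p d ∈ T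
  surj : ∀ x ∈ T, ∃ d < 512, p d = x
  inj : ∀ a < 512, ∀ b < 512, p a = p b → a = b
  mul : ∀ a < 512, ∀ b < 512, p a * p b = p (mt a b)

/-- The permutation of an index. -/
noncomputable def perm (d : ℕ) : Equiv.Perm (Fin 100) := permOf 100 (code d)

theorem code_valid {d : ℕ} (hd : d < 512) : valid 100 (code d) = true :=
  List.all_eq_true.1 check_valid d (List.mem_range.2 hd)

theorem perm_ext {a b c : ℕ} (ha : a < 512) (hb : b < 512) (hc : c < 512)
    (h : ∀ v < 100, pimg (code a) v = pimg (code b) (pimg (code c) v)) :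
    perm a = perm b * perm c := by
  refine Equiv.ext fun v => Fin.ext ?_
  rw [Equiv.Perm.mul_apply, perm, perm, perm, permOf_val (code_valid ha), permOf_val (code_valid hb),
    permOf_val (code_valid hc)]
  exact h v v.2

theorem perm_zero : perm 0 = 1 := by
  have h := (eqW_iff (n := 100) (L := [code 0]) (L' := []) (by simp [code_valid]) (by simp)).1 check_one
  simpa [prodW, perm] using h

theorem perm_low_gen {a i : ℕ} (ha : a < 512) (hi : i < 5) :
    perm (t1 a (2 ^ i)) = perm a * perm (2 ^ i) := by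
  have h2 : 2 ^ i < 512 := lt_of_lt_of_le (Nat.pow_lt_pow_right (by norm_num) hi) (by norm_num)
  refine perm_ext (t1_lt _ _) ha h2 fun v hv => ?_
  exact beq_true.1 (List.all_eq_true.1 (List.all_eq_true.1 (List.all_eq_true.1 check_gen_low a
    (List.mem_range.2 ha)) i (List.mem_range.2 hi)) v (List.mem_range.2 hv))

theorem perm_high_gen {a i : ℕ} (ha : a < 512) (hi : i < 4) :
    perm (t2 a (2 ^ i)) = perm a * perm (32 * 2 ^ i) := by
  have h2 : 32 * 2 ^ i < 512 := by
    have : 2 ^ i ≤ 2 ^ 3 := Nat.pow_le_pow_right (by norm_num) (by omega)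
    omega
  refine perm_ext (t2_lt _ _) ha h2 fun v hv => ?_
  exact beq_true.1 (List.all_eq_true.1 (List.all_eq_true.1 (List.all_eq_true.1 check_gen_high a
    (List.mem_range.2 ha)) i (List.mem_range.2 hi)) v (List.mem_range.2 hv))

theorem split_low {b : ℕ} (hb : b < 512) : t1 (b / 32 * 32) (b % 32) = b := by
  have h := check_split
  simp only [Bool.and_eq_true, List.all_eq_true, List.mem_range, beq_true] at h
  exact h.1 b hb

theorem split_zero {h : ℕ} (hh : h < 16) : t2 0 h = 32 * h := by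
  have e := check_split
  simp only [Bool.and_eq_true, List.all_eq_true, List.mem_range, beq_true] at e
  exact e.2 h hh

theorem t1_zero {l : ℕ} (hl : l < 32) : t1 0 l = l := by
  have := split_low (b := l) (by omega)
  rwa [Nat.div_eq_of_lt hl, zero_mul, Nat.mod_eq_of_lt hl] at this

theorem rec_low {a : ℕ} (ha : a < 512) : t1 a 0 = a ∧ ∀ l, l + 1 < 32 → ∃ i < 5, 2 ^ i ≤ l + 1 ∧
    t1 (l + 1 - 2 ^ i) (2 ^ i) = l + 1 ∧
    t1 a (l + 1) = t1 (t1 a (l + 1 - 2 ^ i)) (2 ^ i) := by
  have h := List.all_eq_true.1 check_rec_low a (List.mem_range.2 ha)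
  simp only [Bool.and_eq_true, List.all_eq_true, List.any_eq_true, List.mem_range, beq_true,
    Nat.ble_eq, and_assoc] at h
  exact ⟨h.1, fun l hl => h.2 l (by omega)⟩

theorem rec_high {a : ℕ} (ha : a < 512) : t2 a 0 = a ∧ ∀ l, l + 1 < 16 → ∃ i < 4, 2 ^ i ≤ l + 1 ∧
    t2 (32 * (l + 1 - 2 ^ i)) (2 ^ i) = 32 * (l + 1) ∧
    t2 a (l + 1) = t2 (t2 a (l + 1 - 2 ^ i)) (2 ^ i) := by
  have h := List.all_eq_true.1 check_rec_high a (List.mem_range.2 ha)
  simp only [Bool.and_eq_true, List.all_eq_true, List.any_eq_true, List.mem_range, beq_true,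
    Nat.ble_eq, and_assoc] at h
  exact ⟨h.1, fun l hl => h.2 l (by omega)⟩

theorem perm_low : ∀ l < 32, ∀ a < 512, perm (t1 a l) = perm a * perm l := by
  intro l
  induction l using Nat.strong_induction_on with
  | _ l ih =>
    intro hl a ha
    rcases Nat.eq_zero_or_pos l with rfl | hpos
    · rw [(rec_low ha).1, perm_zero, mul_one]
    obtain ⟨m, rfl⟩ : ∃ m, l = m + 1 := ⟨l - 1, by omega⟩
    obtain ⟨i, hi, hle, e0, e⟩ := (rec_low ha).2 m hl
    have hpow : 1 ≤ 2 ^ i := Nat.one_le_two_pow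
    rw [e, perm_low_gen (t1_lt _ _) hi, ih _ (by omega) (by omega) a ha, mul_assoc,
      ← perm_low_gen (by omega) hi, e0]

theorem perm_high : ∀ h < 16, ∀ a < 512, perm (t2 a h) = perm a * perm (32 * h) := by
  intro h
  induction h using Nat.strong_induction_on with
  | _ h ih =>
    intro hh a ha
    rcases Nat.eq_zero_or_pos h with rfl | hpos
    · rw [(rec_high ha).1, perm_zero, mul_one]
    obtain ⟨m, rfl⟩ : ∃ m, h = m + 1 := ⟨h - 1, by omega⟩
    obtain ⟨i, hi, hle, e0, e⟩ := (rec_high ha).2 m hh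
    have hpow : 1 ≤ 2 ^ i := Nat.one_le_two_pow
    rw [e, perm_high_gen (t2_lt _ _) hi, ih _ (by omega) (by omega) a ha, mul_assoc,
      ← perm_high_gen (by omega) hi, e0]

theorem perm_split {b : ℕ} (hb : b < 512) : perm b = perm (32 * (b / 32)) * perm (b % 32) := by
  conv_lhs => rw [← split_low hb]
  rw [perm_low _ (Nat.mod_lt _ (by norm_num)) _ (by omega), mul_comm (b / 32)]

theorem perm_mul {a b : ℕ} (ha : a < 512) (hb : b < 512) : perm a * perm b = perm (mt a b) := by
  rw [perm_split hb, mt, perm_low _ (Nat.mod_lt _ (by norm_num)) _ (t2_lt _ _),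
    perm_high _ (by omega) a ha, mul_assoc]

theorem perm_inv {a : ℕ} (ha : a < 512) : (perm a)⁻¹ = perm (iv a) := by
  refine inv_eq_of_mul_eq_one_right ?_
  rw [perm_mul ha (iv_lt a), beq_true.1 (List.all_eq_true.1 check_iv a (List.mem_range.2 ha)),
    perm_zero]

theorem gen_mem {i : ℕ} (hi : i < 9) : perm (2 ^ i) ∈ hsPermGroup := by
  have h := List.all_eq_true.1 check_words i (List.mem_range.2 hi)
  simp only [Bool.and_eq_true, List.all_eq_true, Nat.blt_eq] at h
  obtain ⟨hlt, h⟩ := h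
  obtain ⟨F, hF, -, -, hsg⟩ := prog_mem
  have hgv : ∀ c ∈ sylowGens, valid 100 c = true ∧ permOf 100 c ∈ hsPermGroup :=
    fun c hc => hF c (hsg c (List.mem_append_right _ hc))
  have hmem : ∀ c ∈ (genWords.getD i []).map (fun k => sylowGens.getD k 0), c ∈ sylowGens := by
    intro c hc
    obtain ⟨k, hk, rfl⟩ := List.mem_map.1 hc
    rw [List.getD_eq_getElem _ _ (hlt k hk)]
    exact List.getElem_mem _
  have h2 : 2 ^ i < 512 := lt_of_lt_of_le (Nat.pow_lt_pow_right (by norm_num) hi) (by norm_num)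
  have e := (eqW_iff (by simp [code_valid h2]) fun c hc => (hgv c (hmem c hc)).1).1 h
  have e' : perm (2 ^ i) = prodW 100 ((genWords.getD i []).map fun k => sylowGens.getD k 0) := by
    rw [← e]; simp [prodW, perm]
  rw [e', prodW]
  refine list_prod_mem fun σ hσ => ?_
  obtain ⟨c, hc, rfl⟩ := List.mem_map.1 hσ
  exact (hgv c (hmem c hc)).2

theorem perm_mem {d : ℕ} (hd : d < 512) : perm d ∈ hsPermGroup := by
  have low : ∀ l < 32, perm l ∈ hsPermGroup := by
    intro l
    induction l using Nat.strong_induction_on with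
    | _ l ih =>
      intro hl
      rcases Nat.eq_zero_or_pos l with rfl | hpos
      · rw [perm_zero]; exact one_mem _
      obtain ⟨m, rfl⟩ : ∃ m, l = m + 1 := ⟨l - 1, by omega⟩
      obtain ⟨i, hi, hle, e0, -⟩ := (rec_low (a := 0) (by norm_num)).2 m hl
      have hpow : 1 ≤ 2 ^ i := Nat.one_le_two_pow
      rw [← e0, perm_low_gen (by omega) hi]
      exact mul_mem (ih _ (by omega) (by omega)) (gen_mem (by omega))
  have high : ∀ h < 16, perm (32 * h) ∈ hsPermGroup := by
    intro h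
    induction h using Nat.strong_induction_on with
    | _ h ih =>
      intro hh
      rcases Nat.eq_zero_or_pos h with rfl | hpos
      · rw [mul_zero, perm_zero]; exact one_mem _
      obtain ⟨m, rfl⟩ : ∃ m, h = m + 1 := ⟨h - 1, by omega⟩
      obtain ⟨i, hi, hle, e0, -⟩ := (rec_high (a := 0) (by norm_num)).2 m hh
      have hpow : 1 ≤ 2 ^ i := Nat.one_le_two_pow
      rw [← e0, perm_high_gen (by omega) hi, show 32 * 2 ^ i = 2 ^ (5 + i) by rw [pow_add]; norm_num]
      exact mul_mem (ih _ (by omega) (by omega)) (gen_mem (by omega))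
  rw [perm_split hd]
  exact mul_mem (high _ (by omega)) (low _ (Nat.mod_lt _ (by norm_num)))

/-- The numbered Sylow subgroup. -/
def permSylow : Subgroup (Equiv.Perm (Fin 100)) where
  carrier := {σ | ∃ d < 512, perm d = σ}
  one_mem' := ⟨0, by norm_num, perm_zero⟩
  mul_mem' := by
    rintro _ _ ⟨a, ha, rfl⟩ ⟨b, hb, rfl⟩
    exact ⟨mt a b, mt_lt a b, (perm_mul ha hb).symm⟩
  inv_mem' := by
    rintro _ ⟨a, ha, rfl⟩
    exact ⟨iv a, iv_lt a, (perm_inv ha).symm⟩

theorem permSylow_le : permSylow ≤ hsPermGroup := fun _ ⟨_, hd, e⟩ => e ▸ perm_mem hd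

theorem chain_codes : ∀ e ∈ sylowChain, ∀ c ∈ e.2, permOf 100 c ∈ permSylow := by
  intro e he c hc
  obtain ⟨i, hi, rfl⟩ := List.getElem_of_mem he
  have hlen : sylowChain.length = 2 := rfl
  have h := List.all_eq_true.1 check_chain i (List.mem_range.2 (hlen ▸ hi))
  simp only [Bool.and_eq_true, List.all_eq_true, beq_true, Nat.blt_eq] at h
  rw [List.getD_eq_getElem _ _ hi] at h
  obtain ⟨j, hj, rfl⟩ := List.getElem_of_mem hc
  have hj' : j < (chainIdx.getD i []).length := by rw [h.2]; exact hj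
  obtain ⟨hd, e⟩ := h.1 (sylowChain[i].2[j], (chainIdx.getD i [])[j]) (by
    rw [List.mem_iff_getElem]
    exact ⟨j, by rw [List.length_zip]; omega, List.getElem_zip⟩)
  exact ⟨_, hd, by rw [perm]; exact congrArg (permOf 100) e.symm⟩

theorem surjective_perm : Function.Surjective
    (fun d : Fin 512 => (⟨perm d, d, d.2, rfl⟩ : ↥permSylow)) :=
  fun ⟨_, d, hd, e⟩ => ⟨⟨d, hd⟩, Subtype.ext e⟩

theorem card_permSylow : Nat.card permSylow = 512 := by
  refine le_antisymm ?_ ?_
  · simpa using Nat.card_le_card_of_surjective _ surjective_perm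
  · rw [← sylow_prod]
    exact card_ge_chain permSylow sylow_chainOK chain_codes permSylow fun σ => by simp

theorem perm_injective {a b : ℕ} (ha : a < 512) (hb : b < 512) (e : perm a = perm b) : a = b := by
  have h := (Nat.bijective_iff_surjective_and_card _).2
    ⟨surjective_perm, by rw [card_permSylow, Nat.card_fin]⟩
  exact congrArg Fin.val (@h.1 ⟨a, ha⟩ ⟨b, hb⟩ (Subtype.ext e))

/-- A group isomorphic to the Sylow subgroup of the Higman–Sims group has a frame. -/
theorem exists_frame {G : Type u} [Group G] {T : Subgroup G} (P : Sylow 2 ↥Cfsg.Spor.HS)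
    (hT : Nonempty (↥T ≃* ↥(P : Subgroup ↥Cfsg.Spor.HS))) : Nonempty (Frame T) := by
  classical
  haveI : Fact (Nat.Prime 2) := ⟨Nat.prime_two⟩
  let E : hsPermGroup ≃* ↥Cfsg.Spor.HS := hsGroupEquiv.symm.trans Cfsg.Agent.S2072.hsEquiv
  haveI : Finite ↥Cfsg.Spor.HS := Finite.of_equiv _ E.toEquiv
  let S' : Sylow 2 ↥Cfsg.Spor.HS := Sylow.ofCard
    ((permSylow.subgroupOf hsPermGroup).map E.toMonoidHom) (by
      rw [card_map_of_injective E.injective,
        Nat.card_congr (subgroupOfEquivOfLe permSylow_le).toEquiv, card_permSylow,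
        ← Nat.card_congr E.toEquiv, card_hsPermGroup,
        show (44352000 : ℕ) = 2 ^ 9 * 86625 by norm_num, Nat.factorization_mul (by norm_num)
        (by norm_num), Nat.Prime.factorization_pow Nat.prime_two]
      rw [Finsupp.add_apply, Finsupp.single_eq_same,
        Nat.factorization_eq_zero_of_not_dvd (by decide : ¬ 2 ∣ 86625)]
      norm_num)
  obtain ⟨e₀⟩ := hT
  let e₁ : ↥permSylow ≃* ↥T :=
    (((subgroupOfEquivOfLe permSylow_le).symm.trans
      (equivMapOfInjective _ E.toMonoidHom E.injective)).trans (S'.equiv P)).trans e₀.symm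
  have hmem : ∀ d < 512, perm d ∈ permSylow := fun d hd => ⟨d, hd, rfl⟩
  refine ⟨⟨fun d => if h : d < 512 then (e₁ ⟨_, hmem d h⟩ : G) else 1, fun d hd => ?_,
    fun x hx => ?_, fun a ha b hb e => ?_, fun a ha b hb => ?_⟩⟩
  · rw [dif_pos hd]; exact SetLike.coe_mem _
  · obtain ⟨d, hd, e⟩ := (e₁.symm ⟨x, hx⟩).2
    refine ⟨d, hd, ?_⟩
    rw [dif_pos hd]
    have : (⟨_, hmem d hd⟩ : ↥permSylow) = e₁.symm ⟨x, hx⟩ := Subtype.ext e
    rw [this, e₁.apply_symm_apply]
  · rw [dif_pos ha, dif_pos hb] at e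
    exact perm_injective ha hb (congrArg Subtype.val (e₁.injective (Subtype.ext e)))
  · rw [dif_pos ha, dif_pos hb, dif_pos (mt_lt a b), ← coe_mul, ← map_mul]
    exact congrArg (fun w => ((e₁ w : ↥T) : G)) (Subtype.ext (perm_mul ha hb))

variable {G : Type u} [Group G] {T : Subgroup G} (F : Frame T)

namespace Frame

theorem p_zero : F.p 0 = 1 := by
  have h := F.mul 0 (by norm_num) 0 (by norm_num)
  rw [show mt 0 0 = 0 by decide +kernel] at h
  exact mul_eq_left.1 h

theorem p_inv {a : ℕ} (ha : a < 512) : (F.p a)⁻¹ = F.p (iv a) := by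
  refine inv_eq_of_mul_eq_one_right ?_
  rw [F.mul a ha _ (iv_lt a), beq_true.1 (List.all_eq_true.1 check_iv a (List.mem_range.2 ha)),
    F.p_zero]

theorem p_conj {a b : ℕ} (ha : a < 512) (hb : b < 512) :
    F.p a * F.p b * (F.p a)⁻¹ = F.p (cj a b) := by
  rw [F.p_inv ha, F.mul a ha b hb, F.mul _ (mt_lt a b) _ (iv_lt a)]; rfl

theorem p_inj {a b : ℕ} (ha : a < 512) (hb : b < 512) : F.p a = F.p b ↔ a = b :=
  ⟨F.inj a ha b hb, fun h => h ▸ rfl⟩

theorem comm_iff {a b : ℕ} (ha : a < 512) (hb : b < 512) :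
    F.p a * F.p b = F.p b * F.p a ↔ mt a b = mt b a := by
  rw [F.mul a ha b hb, F.mul b hb a ha, F.p_inj (mt_lt a b) (mt_lt b a)]

theorem eq_one_iff {a : ℕ} (ha : a < 512) : F.p a = 1 ↔ a = 0 := by
  rw [← F.p_zero, F.p_inj ha (by norm_num)]

/-- The numbering conjugated by an element of `T`. -/
def conj (s : G) (hs : s ∈ T) : Frame T where
  p d := s * F.p d * s⁻¹
  p_mem d hd := T.mul_mem (T.mul_mem hs (F.p_mem d hd)) (T.inv_mem hs)
  surj x hx := by
    obtain ⟨d, hd, e⟩ := F.surj (s⁻¹ * x * s) (T.mul_mem (T.mul_mem (T.inv_mem hs) hx) hs)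
    exact ⟨d, hd, by rw [e]; group⟩
  inj a ha b hb e := F.inj a ha b hb (mul_left_cancel (mul_right_cancel e))
  mul a ha b hb := by rw [← F.mul a ha b hb]; group

theorem conj_p (s : G) (hs : s ∈ T) (d : ℕ) : (F.conj s hs).p d = s * F.p d * s⁻¹ := rfl

/-- The set coded by a mask. -/
def set (m : ℕ) : Set G := {x | ∃ d < 512, mem m d = true ∧ F.p d = x}

theorem mem_set_p {m d : ℕ} (hd : d < 512) : F.p d ∈ F.set m ↔ mem m d = true :=
  ⟨fun ⟨_, he, hm, e⟩ => (F.inj _ he d hd e) ▸ hm, fun h => ⟨d, hd, h, rfl⟩⟩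

theorem set_subset (m : ℕ) : F.set m ⊆ T := fun _ ⟨_, hd, _, e⟩ => e ▸ F.p_mem _ hd

end Frame

theorem mem_maskOf {l : List ℕ} {d : ℕ} : mem (maskOf l) d = true ↔ d ∈ l := by
  have key : ∀ (l : List ℕ) (m : ℕ), (l.foldl (fun acc e => acc ||| 1 <<< e) m).testBit d = true ↔
      (m.testBit d = true ∨ d ∈ l) := by
    intro l
    induction l with
    | nil => simp
    | cons a l ih =>
      intro m
      rw [List.foldl_cons, ih, Nat.testBit_or, Nat.shiftLeft_eq, one_mul, Nat.testBit_two_pow,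
        Bool.or_eq_true, decide_eq_true_eq, List.mem_cons, or_assoc, @eq_comm _ a d]
  simpa [mem, maskOf] using key l 0

theorem range_chunks : (List.range 16).flatMap (fun k => (List.range 32).map fun j => 32 * k + j) =
    List.range 512 := by decide +kernel

theorem elems_eq (m : ℕ) : elems m = (List.range 512).filter fun d => mem m d := by
  rw [← range_chunks, List.filter_flatMap, elems]
  congr 1
  funext k
  cases hb : Nat.beq ((m >>> (32 * k)) % 4294967296) 0
  · rfl
  · rw [cond_true]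
    refine (List.filter_eq_nil_iff.2 fun d hd => ?_).symm
    obtain ⟨j, hj, rfl⟩ := List.mem_map.1 hd
    have h := congrArg (fun n : ℕ => n.testBit j) (beq_true.1 hb)
    simp only [Nat.zero_testBit] at h
    rw [show (4294967296 : ℕ) = 2 ^ 32 by norm_num, Nat.testBit_mod_two_pow,
      Nat.testBit_shiftRight, decide_eq_true (List.mem_range.1 hj), Bool.true_and] at h
    simp [mem, h]

theorem mem_elems {m d : ℕ} : d ∈ elems m ↔ d < 512 ∧ mem m d = true := by
  simp [elems_eq]

theorem nodup_elems (m : ℕ) : (elems m).Nodup := by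
  rw [elems_eq]; exact List.nodup_range.filter _

theorem mem_and {a b d : ℕ} : mem (a &&& b) d = true ↔ mem a d = true ∧ mem b d = true := by
  simp [mem]

theorem mem_or {a b d : ℕ} : mem (a ||| b) d = true ↔ mem a d = true ∨ mem b d = true := by
  simp [mem]

theorem mem_one {d : ℕ} : mem 1 d = true ↔ d = 0 := by
  rw [mem, show (1 : ℕ) = 2 ^ 0 by norm_num, Nat.testBit_two_pow, decide_eq_true_eq, eq_comm]

theorem mem_of_and {a b d : ℕ} (h : a &&& b = a) (hd : mem a d = true) : mem b d = true := by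
  rw [← h] at hd; exact (mem_and.1 hd).2

namespace Frame

theorem set_one : F.set 1 = {1} := by
  ext x
  simp only [set, mem_one, Set.mem_ofPred_eq, Set.mem_singleton_iff]
  exact ⟨fun ⟨d, _, e, h⟩ => by subst e; rw [← h, F.p_zero],
    fun h => ⟨0, by norm_num, rfl, h ▸ F.p_zero⟩⟩

theorem set_mono {a b : ℕ} (h : a &&& b = a) : F.set a ⊆ F.set b :=
  fun _ ⟨d, hd, hm, e⟩ => ⟨d, hd, mem_of_and h hm, e⟩

theorem mem_set_maskOf {l : List ℕ} (hl : ∀ d ∈ l, d < 512) {x : G} :
    x ∈ F.set (maskOf l) ↔ ∃ d ∈ l, F.p d = x :=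
  ⟨fun ⟨d, _, hm, e⟩ => ⟨d, mem_maskOf.1 hm, e⟩,
    fun ⟨d, hd, e⟩ => ⟨d, hl d hd, mem_maskOf.2 hd, e⟩⟩

/-- The subgroup generated by the set of a mask. -/
def sub (m : ℕ) : Subgroup G := closure (F.set m)

theorem sub_le (m : ℕ) : F.sub m ≤ T := (closure_le _).2 (F.set_subset m)

theorem coe_sub {m : ℕ} (h : closedOK m = true) : (F.sub m : Set G) = F.set m := by
  simp only [closedOK, Bool.and_eq_true, List.all_eq_true] at h
  let S : Subgroup G :=
    { carrier := F.set m
      one_mem' := ⟨0, by norm_num, h.1, F.p_zero⟩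
      mul_mem' := by
        rintro _ _ ⟨a, ha, ha', rfl⟩ ⟨b, hb, hb', rfl⟩
        exact ⟨mt a b, mt_lt a b, (h.2 a (mem_elems.2 ⟨ha, ha'⟩)).2 b (mem_elems.2 ⟨hb, hb'⟩),
          (F.mul a ha b hb).symm⟩
      inv_mem' := by
        rintro _ ⟨a, ha, ha', rfl⟩
        exact ⟨iv a, iv_lt a, (h.2 a (mem_elems.2 ⟨ha, ha'⟩)).1, (F.p_inv ha).symm⟩ }
  exact Set.Subset.antisymm ((closure_le S).2 (subset_refl _)) subset_closure

theorem mem_sub {m d : ℕ} (h : closedOK m = true) (hd : d < 512) :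
    F.p d ∈ F.sub m ↔ mem m d = true := by
  rw [← F.mem_set_p hd (m := m), ← F.coe_sub h]; rfl

theorem finite (F : Frame T) : Finite ↥T :=
  Finite.of_surjective (fun d : Fin 512 => (⟨F.p d, F.p_mem d d.2⟩ : ↥T)) fun x => by
    obtain ⟨d, hd, e⟩ := F.surj x x.2
    exact ⟨⟨d, hd⟩, Subtype.ext e⟩

theorem card_T (F : Frame T) : Nat.card ↥T = 512 := by
  rw [← Nat.card_fin 512]
  refine (Nat.card_congr (Equiv.ofBijective
    (fun d : Fin 512 => (⟨F.p d, F.p_mem d d.2⟩ : ↥T)) ⟨fun a b e => ?_, fun x => ?_⟩)).symm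
  · exact Fin.ext (F.inj _ a.2 _ b.2 (congrArg Subtype.val e))
  · obtain ⟨d, hd, e⟩ := F.surj x x.2
    exact ⟨⟨d, hd⟩, Subtype.ext e⟩

theorem isPGroup (F : Frame T) : IsPGroup 2 ↥T := IsPGroup.of_card (n := 9) F.card_T

/-- The central involution. -/
def z : G := F.p zIdx

theorem z_mem : F.z ∈ T := F.p_mem _ (by decide)

theorem z_central {x : G} (hx : x ∈ T) : x * F.z = F.z * x := by
  obtain ⟨d, hd, rfl⟩ := F.surj x hx
  have h : ((List.range 512).all fun d => Nat.beq (mt d zIdx) (mt zIdx d)) = true := by decide +kernel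
  exact (F.comm_iff hd (by decide)).2 (beq_true.1 (List.all_eq_true.1 h d (List.mem_range.2 hd)))

theorem z_ne_one : F.z ≠ 1 := fun h => by
  have := (F.eq_one_iff (show zIdx < 512 by decide)).1 h; exact absurd this (by decide)

theorem z_sq : F.z * F.z = 1 := by
  rw [z, F.mul _ (by decide) _ (by decide), show mt zIdx zIdx = 0 by decide +kernel, F.p_zero]

theorem orderOf_z : orderOf F.z = 2 :=
  orderOf_eq_prime (hp := ⟨Nat.prime_two⟩) (by rw [pow_two, F.z_sq]) F.z_ne_one

end Frame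

end CfsgLib.SylHS
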