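import Cfsg.Agent.Lib.SylAltEight.Criterion
import Cfsg.Agent.Lib.Solvable.PCore

/-!
Frattini arguments over a normal subgroup of odd order, and the recognition of the `2`-core by a
quotient without normal `2`-subgroups.
-/

set_option autoImplicit false
set_option linter.style.haveILetI false

namespace CfsgLib.SylHS

open Subgroup CfsgLib.SylAltEight

universe u

/-- An element normalizing a `2`-subgroup modulo an odd subgroup is a product with an element of the
normalizer. -/
theorem exists_normalizer_mul {G : Type u} [Group G] [Finite G] {W P : Subgroup G}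
    (hW : Odd (Nat.card W)) (hP : IsPGroup 2 P) (hPn : P ≤ normalizer (W : Set G)) {x : G}
    (hxW : x ∈ normalizer (W : Set G)) (hx : ∀ p ∈ P, x * p * x⁻¹ ∈ W ⊔ P) :
    ∃ o ∈ W, ∃ n ∈ normalizer (P : Set G), x = o * n := by
  haveI : Fact (Nat.Prime 2) := ⟨Nat.prime_two⟩
  set M := W ⊔ P with hM
  have hsplit : ∀ y ∈ M, ∃ o ∈ W, ∃ c ∈ P, y = o * c := fun y hy => by
    rw [hM, ← SetLike.mem_coe, coe_mul_of_right_le_normalizer_left _ _ hPn] at hy
    obtain ⟨o, ho, c, hc, e⟩ := hy
    exact ⟨o, ho, c, hc, e.symm⟩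
  obtain ⟨T, hT2⟩ := (hP.comap_of_injective M.subtype M.subtype_injective :
    IsPGroup 2 (P.subgroupOf M)).exists_le_sylow
  have hTC : ∀ t : M, t ∈ T → (t : G) ∈ P := by
    intro t ht
    obtain ⟨o, ho, c, hc, e⟩ := hsplit t t.2
    have hoT : (⟨o, mem_sup_left ho⟩ : M) ∈ T := by
      have := mul_mem ht (inv_mem (hT2 (show (⟨c, mem_sup_right hc⟩ : M) ∈ P.subgroupOf M from hc)))
      rwa [show t * (⟨c, mem_sup_right hc⟩ : M)⁻¹ = ⟨o, mem_sup_left ho⟩ from
        Subtype.ext (by simp [e])] at this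
    have : o = 1 := eq_one_of_pGroup_odd (T.2.map M.subtype) hW ⟨_, hoT, rfl⟩ ho
    rw [e, this, one_mul]; exact hc
  obtain ⟨m, hm⟩ := Invol.exists_conj_mem_sylow T
    (H := (P.map (MulAut.conj x).toMonoidHom).subgroupOf M)
    ((hP.map _).comap_of_injective M.subtype M.subtype_injective)
  have hy : (m : G) * x ∈ normalizer (P : Set G) := by
    refine Invol.mem_normalizer_iff_of_finite fun c hc => ?_
    have h := hTC _ (hm ⟨x * c * x⁻¹, hx c hc⟩ ⟨c, hc, rfl⟩)
    rw [show (m : G) * x * c * ((m : G) * x)⁻¹ = (m : G) * (x * c * x⁻¹) * (m : G)⁻¹ by group]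
    exact h
  obtain ⟨o, ho, c, hc, e⟩ := hsplit (m : G)⁻¹ (inv_mem m.2)
  exact ⟨o, ho, c * ((m : G) * x), mul_mem (le_normalizer hc) hy, by
    rw [← mul_assoc, ← e, inv_mul_cancel_left]⟩

/-- A normal `2`-kernel with a quotient without normal `2`-subgroups is the `2`-core. -/
theorem pCore_eq_ker {X : Type*} [Group X] {Y : Type*} [Group Y] (f : X →* Y)
    (hf : Function.Surjective f) (h2 : IsPGroup 2 f.ker)
    (hY : ∀ N : Subgroup Y, N.Normal → IsPGroup 2 N → N = ⊥) : Cfsg.pCore 2 X = f.ker := by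
  refine le_antisymm (sSup_le fun N hN => ?_) (Solvable.le_pCore f.normal_ker h2)
  exact (map_eq_bot_iff N).1 (hY _ (hN.1.map f hf) (hN.2.map f))

end CfsgLib.SylHS
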