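import Cfsg.Agent.Lib.SylHS.TableFacts
import Cfsg.Agent.Lib.Fusion.CandidateEngine
import Cfsg.Agent.Lib.Fusion.GroupFusion
import Cfsg.Agent.Lib.Fusion.NormalCriteria

/-!
Fusion in a group with such a Sylow subgroup, from the three candidates.
-/

set_option autoImplicit false
set_option linter.style.haveILetI false
set_option linter.unusedSectionVars false

namespace CfsgLib.SylHS

open Subgroup CfsgLib.Fusion

universe u

variable {G : Type u} [Group G]

/-- The candidates. -/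
def Frame.cands {T : Subgroup G} (F : Frame T) : Fin 3 → Subgroup G := ![F.subP, F.subQ, F.subU]

variable [Finite G]

/-- The fusion system of the group. -/
abbrev fus (S : Sylow 2 G) : Cfsg.FusionSystem (S : Subgroup G) :=
  Cfsg.groupFusionSystem (S : Subgroup G)

/-- The automizer of `P` is not a `2`-group. -/
def Moves (S : Sylow 2 G) (P : Subgroup G) : Prop := ¬ IsPGroup 2 ((fus S).autGroup P)

/-- The automorphism induced by an element of the normalizer. -/
noncomputable def autOf (P : Subgroup G) {a : G} (ha : a ∈ normalizer (P : Set G)) : MulAut P :=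
  P.normalizerMonoidHom ⟨a, ha⟩

theorem autOf_apply {P : Subgroup G} {a : G} (ha : a ∈ normalizer (P : Set G)) (x : P) :
    ((autOf P ha x : P) : G) = a * x * a⁻¹ := rfl

theorem autOf_mem (S : Sylow 2 G) {P : Subgroup G} (hP : P ≤ (S : Subgroup G)) {a : G}
    (ha : a ∈ normalizer (P : Set G)) : autOf P ha ∈ (fus S).autGroup P := by
  haveI : Fact (Nat.Prime 2) := ⟨Nat.prime_two⟩
  rw [group_autGroup_eq S hP]
  exact mem_autInducedBy_iff.2 ⟨a, mem_top a, fun _ => rfl⟩

theorem exists_of_mem_autGroup (S : Sylow 2 G) {P : Subgroup G} (hP : P ≤ (S : Subgroup G))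
    {α : MulAut P} (h : α ∈ (fus S).autGroup P) :
    ∃ a ∈ normalizer (P : Set G), ∀ x : P, ((α x : P) : G) = a * x * a⁻¹ := by
  haveI : Fact (Nat.Prime 2) := ⟨Nat.prime_two⟩
  rw [group_autGroup_eq S hP] at h
  obtain ⟨a, -, ha⟩ := mem_autInducedBy_iff.1 h
  exact ⟨a, mem_normalizer_of_aut ha, ha⟩

/-- A subgroup with a Sylow `2`-subgroup and all elements of odd order is the whole group. -/
theorem eq_top_of_odd {M : Type*} [Group M] [Finite M] {A X : Subgroup M} (hA : A ≤ X)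
    (hidx : ¬ 2 ∣ A.index) (hodd : ∀ m : M, Odd (orderOf m) → m ∈ X) : X = ⊤ := by
  set K := closure {m : M | Odd (orderOf m)}
  haveI : K.Normal := ⟨fun k hk g => by
    have hle : K ≤ K.comap (MulAut.conj g).toMonoidHom := (closure_le _).2 fun m hm => by
      refine subset_closure ?_
      show Odd (orderOf ((MulAut.conj g) m))
      rwa [MulEquiv.orderOf_eq]
    exact hle hk⟩
  have hKX : K ≤ X := (closure_le _).2 fun m hm => hodd m hm
  have hq : IsPGroup 2 (M ⧸ K) := by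
    intro q
    obtain ⟨m, rfl⟩ := QuotientGroup.mk'_surjective K q
    obtain ⟨e, o, ho, he⟩ := Nat.exists_eq_two_pow_mul_odd (orderOf_pos m).ne'
    refine ⟨e, ?_⟩
    rw [← map_pow]
    refine (QuotientGroup.eq_one_iff _).2 (subset_closure ?_)
    show Odd (orderOf (m ^ 2 ^ e))
    rw [orderOf_pow_of_dvd (pow_ne_zero _ two_ne_zero) (he ▸ dvd_mul_right _ _), he,
      Nat.mul_div_cancel_left _ (pow_pos two_pos e)]
    exact ho
  obtain ⟨n, hn⟩ := IsPGroup.iff_card.1 hq
  have h1 : (A ⊔ K).index ∣ 2 ^ n := by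
    rw [← hn, ← index_eq_card]
    exact index_dvd_of_le le_sup_right
  have h2 : ¬ 2 ∣ (A ⊔ K).index := fun h => hidx (h.trans (index_dvd_of_le le_sup_left))
  have h3 : (A ⊔ K).index = 1 := by
    obtain ⟨k, -, hk⟩ := (Nat.dvd_prime_pow Nat.prime_two).1 h1
    rcases Nat.eq_zero_or_pos k with rfl | hk0
    · simpa using hk
    · exact absurd (hk ▸ dvd_pow_self 2 hk0.ne') h2
  rw [index_eq_one] at h3
  exact eq_top_iff.2 (h3 ▸ sup_le hA hKX)

variable (S : Sylow 2 G)

/-- Membership is preserved by the automizer once it is preserved by `S` and odd elements. -/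
theorem preserve_of_odd {P : Subgroup G} (hn : (fus S).IsFullyNormalized P) (U : Set G)
    (hS : ∀ s ∈ (S : Subgroup G), ∀ x ∈ (S : Subgroup G), s * x * s⁻¹ ∈ U ↔ x ∈ U)
    (hodd : ∀ α ∈ (fus S).autGroup P, Odd (orderOf α) → ∀ x : P, (x : G) ∈ U →
      ((α x : P) : G) ∈ U) :
    ∀ α ∈ (fus S).autGroup P, ∀ x : P, ((α x : P) : G) ∈ U ↔ (x : G) ∈ U := by
  haveI : Fact (Nat.Prime 2) := ⟨Nat.prime_two⟩
  obtain ⟨W, hW⟩ := (fullyAutomized_of_fullyNormalized S.isPGroup' (group_isSaturated S) hn).2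
  let M := (fus S).autGroup P
  let X : Subgroup M :=
    { carrier := {α | ∀ x : P, (((α : MulAut P) x : P) : G) ∈ U ↔ (x : G) ∈ U}
      one_mem' := fun x => Iff.rfl
      mul_mem' := fun {α β} hα hβ x => (hα ((β : MulAut P) x)).trans (hβ x)
      inv_mem' := fun {α} hα x => by
        have := hα ((α : MulAut P)⁻¹ x)
        rw [MulAut.apply_inv_self] at this
        exact this.symm }
  have htop : X = ⊤ := by
    refine eq_top_of_odd (A := (W : Subgroup M)) (fun α hα x => ?_) W.not_dvd_index fun α hα x => ?_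
    · rw [hW, mem_subgroupOf] at hα
      obtain ⟨a, ha, hax⟩ := mem_autInducedBy_iff.1 hα
      rw [hax x]
      exact hS a ha x (hn.1 x.2)
    · have h1 : Odd (orderOf (α : MulAut P)) := by rwa [Subgroup.orderOf_coe]
      refine ⟨fun hx => ?_, fun hx => hodd _ α.2 h1 x hx⟩
      have := hodd _ (inv_mem α.2) (by rwa [orderOf_inv]) ((α : MulAut P) x) hx
      rwa [MulAut.inv_apply_self] at this
  intro α hα
  exact (htop ▸ mem_top (⟨α, hα⟩ : M) : (⟨α, hα⟩ : M) ∈ X)

variable (F : Frame (S : Subgroup G))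

theorem cands_le (i : Fin 3) : F.cands i ≤ (S : Subgroup G) := by
  fin_cases i <;> exact F.sub_le _

variable (hT : TableFacts F) (hcand : HasCandidates (fus S) 2 F.cands)
include hT hcand

/-- A set preserved by `S` and by the moving candidates is preserved by all fusion. -/
theorem fusion_iff (U : Set G)
    (hS : ∀ s ∈ (S : Subgroup G), ∀ x ∈ (S : Subgroup G), s * x * s⁻¹ ∈ U ↔ x ∈ U)
    (hi : ∀ i, Moves S (F.cands i) → ∀ α ∈ (fus S).autGroup (F.cands i), Odd (orderOf α) →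
      ∀ x : F.cands i, (x : G) ∈ U → ((α x : F.cands i) : G) ∈ U)
    {g x : G} (hx : x ∈ (S : Subgroup G)) (hgx : g * x * g⁻¹ ∈ (S : Subgroup G)) :
    g * x * g⁻¹ ∈ U ↔ x ∈ U := by
  haveI : Fact (Nat.Prime 2) := ⟨Nat.prime_two⟩
  have hsat := group_isSaturated S
  have hm : IsMap (fus S) (zpowers x) (fun y => g * y * g⁻¹) := by
    refine ((isSystemOf_group (S : Subgroup G)).2 _ _).2
      ⟨zpowers_le.2 hx, fun y hy => ?_, g, mem_top g, fun y _ => rfl⟩
    obtain ⟨k, rfl⟩ := mem_zpowers_iff.1 hy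
    rw [← conj_zpow]
    exact zpow_mem hgx k
  exact invariant_of_candidates (E := F.cands) S.isPGroup' hsat U hS hcand
    (autGroup_top_invariant S.isPGroup' hsat hT.aut_top U hS)
    (fun i hn hmv => preserve_of_odd S hn U hS (hi i hmv)) hm (mem_zpowers x)

/-- A subgroup of the moving candidates preserved by their odd automorphisms is strongly closed and
controls all fusion. -/
theorem exists_normalizing {Q : Subgroup G} (hQ : Q ≤ (S : Subgroup G))
    (hconj : ∀ s ∈ (S : Subgroup G), ∀ x ∈ Q, s * x * s⁻¹ ∈ Q)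
    (hi : ∀ i, Moves S (F.cands i) → Q ≤ F.cands i ∧
      ∀ α ∈ (fus S).autGroup (F.cands i), Odd (orderOf α) → Pres α Q)
    {D : Subgroup G} (hD : D ≤ (S : Subgroup G)) {g : G}
    (hg : ∀ d ∈ D, g * d * g⁻¹ ∈ (S : Subgroup G)) :
    ∃ n ∈ normalizer (Q : Set G), ∀ d ∈ D, n * d * n⁻¹ = g * d * g⁻¹ := by
  haveI : Fact (Nat.Prime 2) := ⟨Nat.prime_two⟩
  have hsat := group_isSaturated S
  have hS : ∀ s ∈ (S : Subgroup G), ∀ x ∈ (S : Subgroup G), s * x * s⁻¹ ∈ Q ↔ x ∈ Q :=
    fun s hs x _ => ⟨fun h => by simpa [mul_assoc] using hconj s⁻¹ (inv_mem hs) _ h, hconj s hs x⟩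
  have hN : (fus S).IsNormal Q := by
    refine isNormal_of_alperin S.isPGroup' hsat hQ fun P hP => ?_
    rcases hP with rfl | hP
    · exact ⟨hQ, fun α hα x hx => (autGroup_top_invariant S.isPGroup' hsat hT.aut_top _ hS α hα x).2 hx⟩
    obtain ⟨i, s, hs, rfl⟩ := hcand P hP
    have hEi : F.cands i ≤ (S : Subgroup G) := cands_le S F i
    have hmv : Moves S (F.cands i) := fun h =>
      not_isPGroup_autGroup_of_essential S.isPGroup' hsat hP (isPGroup_autGroup_conj hEi hs h)
    have hn := fullyNormalized_conj hEi hs hP.2.1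
    obtain ⟨hQi, hodd⟩ := hi i hmv
    have hQP : Q ≤ conjSub s (F.cands i) := fun x hx => by
      have := conj_mem_conjSub (g := s) (hQi (hconj s⁻¹ (inv_mem hs) x hx))
      simpa [mul_assoc] using this
    refine ⟨hQP, fun α hα x hx => ?_⟩
    obtain ⟨a, ha, hax⟩ := exists_of_mem_autGroup S hP.1.1 hα
    have hb : s⁻¹ * a * s ∈ normalizer (F.cands i : Set G) := by
      refine mem_normalizer_of_aut (α := autOf (F.cands i) (a := s⁻¹ * a * s) ?_) fun y => rfl
      refine Subgroup.mem_normalizer_fintype fun y hy => ?_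
      have h1 := (mem_normalizer_iff.1 ha _).1 (conj_mem_conjSub (g := s) hy)
      obtain ⟨w, hw, hw'⟩ := h1
      rw [show s⁻¹ * a * s * y * (s⁻¹ * a * s)⁻¹ = s⁻¹ * (a * (s * y * s⁻¹) * a⁻¹) * s by group,
        ← hw']
      simpa [mul_assoc] using hw
    obtain ⟨y, hy, hyx⟩ := x.2
    have hyx' : s * y * s⁻¹ = (x : G) := hyx
    have hyQ : y ∈ Q := by
      rw [show y = s⁻¹ * (x : G) * s⁻¹⁻¹ by rw [← hyx']; group]
      exact hconj _ (inv_mem hs) _ hx
    have h := (preserve_of_odd S hn (Q : Set G) hS hodd (autOf _ hb) (autOf_mem S hEi hb) ⟨y, hy⟩).2 hyQ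
    rw [autOf_apply] at h
    have h2 := hconj s hs _ h
    rw [show s * (s⁻¹ * a * s * y * (s⁻¹ * a * s)⁻¹) * s⁻¹ = a * (s * y * s⁻¹) * a⁻¹ by group,
      hyx', ← hax] at h2
    exact h2
  obtain ⟨ψ, hψ, hagree, hmap⟩ := hN.2 D (Cfsg.conjHom D g) ⟨hD, fun x => hg x x.2, g, fun x => rfl⟩
  obtain ⟨-, -, n, hn⟩ := hψ
  refine ⟨n, Subgroup.mem_normalizer_fintype fun y hy => ?_, fun d hd => ?_⟩
  · have : ψ ⟨y, mem_sup_right hy⟩ ∈ (Q.subgroupOf (D ⊔ Q)).map ψ := ⟨_, hy, rfl⟩
    rw [hmap, hn] at this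
    exact this
  · have := hagree ⟨d, hd⟩
    rw [hn] at this
    exact this

/-- Such a subgroup is strongly closed. -/
theorem closed_of {Q : Subgroup G} (hQ : Q ≤ (S : Subgroup G))
    (hconj : ∀ s ∈ (S : Subgroup G), ∀ x ∈ Q, s * x * s⁻¹ ∈ Q)
    (hi : ∀ i, Moves S (F.cands i) → Q ≤ F.cands i ∧
      ∀ α ∈ (fus S).autGroup (F.cands i), Odd (orderOf α) → Pres α Q)
    {g x : G} (hx : x ∈ Q) (hgx : g * x * g⁻¹ ∈ (S : Subgroup G)) : g * x * g⁻¹ ∈ Q := by
  obtain ⟨n, hn, h⟩ := exists_normalizing S F hT hcand hQ hconj hi (D := zpowers x)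
    (zpowers_le.2 (hQ hx)) (g := g) (fun d hd => by
      obtain ⟨k, rfl⟩ := mem_zpowers_iff.1 hd
      rw [← conj_zpow]
      exact zpow_mem hgx k)
  rw [← h x (mem_zpowers x)]
  exact (mem_normalizer_iff.1 hn x).1 hx

end CfsgLib.SylHS
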