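import Cfsg.Agent.Lib.Transfer.Focal
import Mathlib.GroupTheory.Sylow

/-!
A strongly closed subgroup of index two in a Sylow subgroup cuts out a normal subgroup of index two.
-/

set_option autoImplicit false
set_option linter.style.haveILetI false

open scoped commutatorElement

namespace CfsgLib.SylHS

open Subgroup

theorem exists_normal_index_two {G : Type*} [Group G] [Finite G] (S : Sylow 2 G) (B : Subgroup G)
    (hclosed : ∀ g : G, ∀ x ∈ B, g * x * g⁻¹ ∈ (S : Subgroup G) → g * x * g⁻¹ ∈ B)
    (hidx : (B.subgroupOf (S : Subgroup G)).index = 2) (hB : B ≤ (S : Subgroup G)) :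
    ∃ N : Subgroup G, N.Normal ∧ N.index = 2 ∧ N ⊓ (S : Subgroup G) = B := by
  haveI : Fact (Nat.Prime 2) := ⟨Nat.prime_two⟩
  have hfoc : (S : Subgroup G).focalSubgroup ≤ B := by
    rw [Subgroup.focalSubgroup_def, closure_le]
    rintro _ ⟨hmem, x, hx, u, rfl⟩
    have hy : u * x⁻¹ * u⁻¹ ∈ (S : Subgroup G) := by
      have := mul_mem (inv_mem hx) hmem
      simpa [commutatorElement_def, mul_assoc] using this
    have hiff : u * x⁻¹ * u⁻¹ ∈ B ↔ x⁻¹ ∈ B := by
      refine ⟨fun h => ?_, fun h => hclosed u _ h hy⟩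
      have := hclosed u⁻¹ _ h (by simpa [mul_assoc] using inv_mem hx)
      simpa [mul_assoc] using this
    rw [SetLike.mem_coe, show ⁅x, u⁆ = x * (u * x⁻¹ * u⁻¹) by rw [commutatorElement_def]; group]
    by_cases hb : x ∈ B
    · exact mul_mem hb (hiff.2 (inv_mem hb))
    · have h1 : (⟨x, hx⟩ : ↥(S : Subgroup G)) ∉ B.subgroupOf (S : Subgroup G) := hb
      have h2 : (⟨_, hy⟩ : ↥(S : Subgroup G)) ∉ B.subgroupOf (S : Subgroup G) :=
        fun h => hb (inv_mem_iff.1 (hiff.1 h))
      exact (mul_mem_iff_of_index_two hidx).2 (iff_of_false h1 h2)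
  haveI : (B.subgroupOf (S : Subgroup G)).Normal := normal_of_index_eq_two hidx
  let φ : G →* ↥(S : Subgroup G) ⧸ B.subgroupOf (S : Subgroup G) :=
    (QuotientGroup.map ((S : Subgroup G).focalSubgroupOf) (B.subgroupOf (S : Subgroup G))
      (MonoidHom.id _) (fun x hx => hfoc hx)).comp (S : Subgroup G).transferFocal
  have hsurj : Function.Surjective φ := by
    intro q
    obtain ⟨x, rfl⟩ := QuotientGroup.mk'_surjective _ q
    obtain ⟨g, hg⟩ := Subgroup.transferFocal_surjective S
      (x : ↥(S : Subgroup G) ⧸ (S : Subgroup G).focalSubgroupOf)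
    refine ⟨g, ?_⟩
    simp only [φ, MonoidHom.comp_apply, hg]
    rfl
  have hk : φ.ker.index = 2 := by
    rw [index_ker, MonoidHom.range_eq_top.2 hsurj, card_top, ← index_eq_card, hidx]
  refine ⟨φ.ker, inferInstance, hk, ?_⟩
  -- the kernel meets `S` in a subgroup of index two containing `B`
  have hle : B ≤ φ.ker ⊓ (S : Subgroup G) := by
    intro b hb
    refine ⟨?_, hB hb⟩
    -- the transfer of an element of `S` is its `index`-th power modulo the focal subgroup
    show φ b = 1
    have h := Subgroup.transferFocal_eq_pow (S : Subgroup G) ⟨b, hB hb⟩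
    simp only [φ, MonoidHom.comp_apply, h]
    rw [map_pow]
    have hb0 : QuotientGroup.map ((S : Subgroup G).focalSubgroupOf) (B.subgroupOf (S : Subgroup G))
        (MonoidHom.id _) (fun x hx => hfoc hx)
        ((⟨b, hB hb⟩ : ↥(S : Subgroup G)) : ↥(S : Subgroup G) ⧸ (S : Subgroup G).focalSubgroupOf) = 1 :=
      (QuotientGroup.eq_one_iff _).2 hb
    rw [hb0, one_pow]
  refine (eq_of_le_of_card_ge hle ?_).symm
  have h1 := card_mul_index (B.subgroupOf (S : Subgroup G))
  rw [hidx, Nat.card_congr (subgroupOfEquivOfLe hB).toEquiv] at h1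
  have h2 := card_mul_index (φ.ker.subgroupOf (S : Subgroup G))
  have h3 : (φ.ker.subgroupOf (S : Subgroup G)).index = 2 := by
    have hd := Subgroup.relIndex_dvd_index_of_normal φ.ker (S : Subgroup G)
    rw [hk] at hd
    rcases (Nat.dvd_prime Nat.prime_two).1 hd with h | h
    · exfalso
      have hS := index_dvd_of_le (relIndex_eq_one.1 h)
      rw [hk] at hS
      exact S.not_dvd_index hS
    · exact h
  rw [h3] at h2
  have h4 : Nat.card (φ.ker.subgroupOf (S : Subgroup G)) = Nat.card ↥(φ.ker ⊓ (S : Subgroup G)) := by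
    rw [← inf_subgroupOf_right, Nat.card_congr (subgroupOfEquivOfLe inf_le_right).toEquiv]
  rw [h4] at h2
  omega

end CfsgLib.SylHS
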