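import Cfsg.Agent.Lib.SylHS.Control

/-!
The kernel of the action of the normalizer of the central product, and the elements of odd order
centralizing a vector modulo the core.
-/

set_option autoImplicit false
set_option maxRecDepth 100000
set_option linter.style.haveILetI false
set_option linter.unusedSectionVars false

namespace CfsgLib.SylHS

open Subgroup CfsgLib.Fusion CfsgLib.SylAltEight

universe u

variable {G : Type u} [Group G] [Finite G] (S : Sylow 2 G) (F : Frame (S : Subgroup G))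
  (hA : AllFacts.{u}) (hS : SpFacts F)
include hA hS

theorem normalizer_R_le_H : normalizer (F.subR : Set G) ≤ centralizer ({F.z} : Set G) :=
  (F.normalizer_R_le (hA _ _ F)).trans (F.normalizer_C_le (hA _ _ F))

/-- The core commutes with the central product inside its normalizer. -/
theorem commute_R_of_core {o : G} (ho : o ∈ Cfsg.centralizerPPrimeCore 2 F.z)
    (hn : o ∈ normalizer (F.subR : Set G)) : ∀ r ∈ F.subR, o * r = r * o := by
  intro r hr
  have h1 : o * r * o⁻¹ * r⁻¹ ∈ F.subR := mul_mem ((mem_normalizer_iff.1 hn r).1 hr) (inv_mem hr)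
  have h2 : o * r * o⁻¹ * r⁻¹ ∈ Cfsg.centralizerPPrimeCore 2 F.z := by
    have := mul_mem ho (core_conj_self (S_le_H S F (F.sub_le _ hr)) (inv_mem ho))
    simpa [mul_assoc] using this
  exact mul_inv_eq_iff_eq_mul.1 (mul_inv_eq_one.1
    (eq_one_of_pGroup_odd (S.2.to_le (F.sub_le _)) (odd_core _) h1 h2))

theorem act_eq_one_of_core {n : normalizer (F.subR : Set G)}
    (ho : (n : G) ∈ Cfsg.centralizerPPrimeCore 2 F.z) : F.act (hA _ _ F) hS n = 1 := by
  refine (F.act_eq_one_iff _ _ n).2 fun r hr => ?_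
  rw [commute_R_of_core S F hA hS ho n.2 r hr, mul_inv_cancel_right, mul_inv_cancel]
  exact one_mem _

/-- Elements of odd order centralizing the central product lie in the core. -/
theorem mem_core_of_commute_R [IsSimpleGroup G] {k : G} (hk : Odd (orderOf k))
    (hc : ∀ r ∈ F.subR, k * r = r * k) : k ∈ Cfsg.centralizerPPrimeCore 2 F.z := by
  haveI : Fact (Nat.Prime 2) := ⟨Nat.prime_two⟩
  have hT := hA _ _ F
  set L := centralizer (F.subR : Set G)
  set N := normalizer (F.subR : Set G)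
  have hLN : L ≤ N := Subgroup.centralizer_le_normalizer _
  have hNH := normalizer_R_le_H S F hA hS
  have hCL : F.subC ≤ L := fun c hc' => mem_centralizer_iff.2 fun r hr => (hT.C_central c hc' r hr).symm
  have hCz : ∀ c ∈ F.subC, ∀ l ∈ L, l * c = c * l := fun c hc' l hl =>
    (mem_centralizer_iff.1 hl c (hT.C_le_R hc')).symm
  obtain ⟨T, hT2⟩ := ((S.2.to_le (F.sub_le _ : F.subC ≤ _)).comap_of_injective L.subtype
    L.subtype_injective : IsPGroup 2 (F.subC.subgroupOf L)).exists_le_sylow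
  obtain ⟨m, hm⟩ := Invol.exists_conj_mem_sylow (S.subtype (F.T_le_normalizer_R hT))
    (H := ((T : Subgroup L).map L.subtype).subgroupOf N)
    ((T.2.map _).comap_of_injective N.subtype N.subtype_injective)
  have hTC : (T : Subgroup L) ≤ F.subC.subgroupOf L := by
    intro t ht
    have hts : (m : G) * t * (m : G)⁻¹ ∈ (S : Subgroup G) := hm ⟨t, hLN t.2⟩ ⟨t, ht, rfl⟩
    have hC' := hT.cent_R _ hts fun r hr => by
      have hr' : (m : G)⁻¹ * r * m ∈ F.subR := by
        have := (mem_normalizer_iff.1 (inv_mem m.2) r).1 hr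
        rwa [inv_inv] at this
      calc (m : G) * t * (m : G)⁻¹ * r = m * ((t : G) * ((m : G)⁻¹ * r * m)) * (m : G)⁻¹ := by group
        _ = m * (((m : G)⁻¹ * r * m) * t) * (m : G)⁻¹ := by
          rw [mem_centralizer_iff.1 t.2 _ hr']
        _ = r * ((m : G) * t * (m : G)⁻¹) := by group
    have := (mem_normalizer_iff.1 (inv_mem (F.normalizer_R_le hT m.2)) _).1 hC'
    rwa [inv_inv, show (m : G)⁻¹ * ((m : G) * t * (m : G)⁻¹) * m = t by group] at this
  have hN : normalizer ((T : Subgroup L) : Set L) ≤ centralizer ((T : Subgroup L) : Set L) :=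
    fun l _ => mem_centralizer_iff.2 fun t ht => Subtype.ext (hCz _ (hTC ht) l l.2).symm
  obtain ⟨w, hw, o, ho, hwo⟩ := exists_eq_mul_oddCore T hN ⟨k, mem_centralizer_iff.2 fun r hr => (hc r hr).symm⟩
  have hcom : Commute ((w : L) : G) o := hCz _ (hTC hw) o o.2 |>.symm
  have hw1 : ((w : L) : G) = 1 := by
    have e : k = (w : G) * o := congrArg Subtype.val hwo
    obtain ⟨j, hj⟩ := T.2 ⟨w, hw⟩
    have hoo : Odd (orderOf ((o : L) : G)) := by
      rw [Subgroup.orderOf_coe]
      exact (Invol.odd_card_oddCore L).of_dvd_nat (Subgroup.orderOf_dvd_natCard _ ho)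
    have hpow : ((w : L) : G) ^ (orderOf k * orderOf ((o : L) : G)) = 1 := by
      have h1 : k ^ (orderOf k * orderOf ((o : L) : G)) = 1 := by rw [pow_mul, pow_orderOf_eq_one, one_pow]
      have h2 := hcom.mul_pow (orderOf k * orderOf ((o : L) : G))
      have h3 : ((o : L) : G) ^ (orderOf k * orderOf ((o : L) : G)) = 1 := by
        rw [mul_comm, pow_mul, pow_orderOf_eq_one, one_pow]
      rw [← e, h1, h3, mul_one] at h2
      exact h2.symm
    exact orderOf_eq_one_iff.1 (Nat.eq_one_of_dvd_coprimes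
      (Nat.Coprime.pow_right j (Nat.coprime_two_right.2 (hk.mul hoo)))
      (orderOf_dvd_of_pow_eq_one hpow)
      (orderOf_dvd_of_pow_eq_one (congrArg (fun y : ↥(T : Subgroup L) => ((y : L) : G)) hj)))
  -- the core of the centralizer of the central product
  set θ := Cfsg.centralizerPPrimeCore 2 F.z
  set O := (Cfsg.oddCore L).map L.subtype
  have hOL : O ≤ L := map_subtype_le _
  haveI : (Cfsg.oddCore L).Characteristic := Solvable.pPrimeCore_characteristic 2 L
  have hOn : ∀ n ∈ N, ∀ x ∈ O, n * x * n⁻¹ ∈ O := by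
    rintro n hn _ ⟨x, hx, rfl⟩
    have hnL : n ∈ normalizer (L : Set G) := Invol.mem_normalizer_iff_of_finite fun y hy =>
      mem_centralizer_iff.2 fun r hr => by
        have hr' : n⁻¹ * r * n ∈ F.subR := by
          have := (mem_normalizer_iff.1 (inv_mem hn) r).1 hr
          rwa [inv_inv] at this
        calc r * (n * y * n⁻¹) = n * ((n⁻¹ * r * n) * y) * n⁻¹ := by group
          _ = n * (y * (n⁻¹ * r * n)) * n⁻¹ := by rw [mem_centralizer_iff.1 hy _ hr']
          _ = n * y * n⁻¹ * r := by group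
    refine ⟨L.normalizerMonoidHom ⟨n, hnL⟩ x, ?_, rfl⟩
    have := Characteristic.fixed (inferInstance : (Cfsg.oddCore L).Characteristic)
      (L.normalizerMonoidHom ⟨n, hnL⟩)
    rw [← this] at hx
    exact hx
  have hle : θ ⊔ O ≤ θ := by
    refine le_core (sup_le (core_le _) (hOL.trans (hLN.trans hNH))) (fun g hg => ?_)
      (odd_sup (fun x hx => Invol.mem_normalizer_iff_of_finite fun y hy =>
        core_conj_self (hNH (hLN (hOL hx))) hy) (odd_core _) ?_)
    · obtain ⟨a, ha, n, hn, rfl⟩ := exists_core_mul_R S F hA hS hg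
      refine mul_mem (le_normalizer (mem_sup_left ha)) (Invol.mem_normalizer_iff_of_finite fun x hx => ?_)
      have hle : θ ⊔ O ≤ (θ ⊔ O).comap (MulAut.conj n).toMonoidHom :=
        sup_le (fun y hy => mem_sup_left (core_conj_self (hNH hn) hy))
          fun y hy => mem_sup_right (hOn n hn y hy)
      exact hle hx
    · rw [card_map_of_injective L.subtype_injective]
      exact Invol.odd_card_oddCore _
  have e : k = (w : G) * o := congrArg Subtype.val hwo
  rw [e, hw1, one_mul]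
  exact hle (mem_sup_right ⟨o, ho, rfl⟩)

/-- Elements acting trivially on the vectors. -/
theorem exists_mul_core_of_act [IsSimpleGroup G] {n : normalizer (F.subR : Set G)}
    (h : F.act (hA _ _ F) hS n = 1) :
    ∃ r ∈ F.subR, ∃ o ∈ Cfsg.centralizerPPrimeCore 2 F.z, (n : G) = r * o := by
  haveI : Fact (Nat.Prime 2) := ⟨Nat.prime_two⟩
  have hT := hA _ _ F
  have hNH := normalizer_R_le_H S F hA hS
  have hRn : F.subR ≤ normalizer (Cfsg.centralizerPPrimeCore 2 F.z : Set G) := fun r hr =>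
    Invol.mem_normalizer_iff_of_finite fun y hy =>
      core_conj_self (S_le_H S F (F.sub_le _ hr)) hy
  let N := normalizer (F.subR : Set G)
  set K := (F.act hT hS).ker
  let T : Sylow 2 K := default
  obtain ⟨m, hm⟩ := Invol.exists_conj_mem_sylow (S.subtype (F.T_le_normalizer_R hT))
    (H := (T : Subgroup K).map K.subtype) (T.2.map _)
  let X : Subgroup K := (F.subR ⊔ Cfsg.centralizerPPrimeCore 2 F.z).comap (N.subtype.comp K.subtype)
  have hX : X = ⊤ := by
    refine eq_top_of_odd (A := (T : Subgroup K)) (fun t ht => ?_) T.not_dvd_index fun t ht => ?_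
    · have hs : m * (t : N) * m⁻¹ ∈ (S.subtype (F.T_le_normalizer_R hT) : Subgroup N) := hm _ ⟨t, ht, rfl⟩
      have hR := mem_R_of_act S F hA hS (n := m * (t : N) * m⁻¹) hs (by
        rw [map_mul, map_mul, map_inv, show F.act hT hS (t : N) = 1 from t.2, mul_one, mul_inv_cancel])
      have := (mem_normalizer_iff.1 (inv_mem m.2) _).1 hR
      rw [inv_inv] at this
      show ((t : N) : G) ∈ F.subR ⊔ Cfsg.centralizerPPrimeCore 2 F.z
      refine mem_sup_left ?_
      rwa [show (m : G)⁻¹ * ((m * (t : N) * m⁻¹ : N) : G) * m = ((t : N) : G) by push_cast; group] at this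
    · show ((t : N) : G) ∈ F.subR ⊔ Cfsg.centralizerPPrimeCore 2 F.z
      have ho : Odd (orderOf ((t : N) : G)) := by rwa [Subgroup.orderOf_coe, Subgroup.orderOf_coe]
      exact mem_sup_right (mem_core_of_commute_R S F hA hS ho
        (F.commute_R_of_odd hT hS ho t.2))
  have hn : (n : G) ∈ F.subR ⊔ Cfsg.centralizerPPrimeCore 2 F.z :=
    (hX ▸ mem_top (⟨n, h⟩ : K) : (⟨n, h⟩ : K) ∈ X)
  rw [← SetLike.mem_coe, coe_mul_of_left_le_normalizer_right _ _ hRn] at hn
  obtain ⟨r, hr, o, ho, e⟩ := hn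
  exact ⟨r, hr, o, ho, e.symm⟩

/-- An element of odd order centralizing a vector modulo the core lies in the core. -/
theorem mem_core_of_fixed [IsSimpleGroup G] {k d : G} (hk : k ∈ centralizer ({F.z} : Set G))
    (hodd : Odd (orderOf k)) (hd : d ∈ F.subR) (hdC : d ∉ F.subC)
    (h : k * d * k⁻¹ * d⁻¹ ∈ Cfsg.centralizerPPrimeCore 2 F.z) :
    k ∈ Cfsg.centralizerPPrimeCore 2 F.z := by
  haveI : Fact (Nat.Prime 2) := ⟨Nat.prime_two⟩
  have hT := hA _ _ F
  set θ := Cfsg.centralizerPPrimeCore 2 F.z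
  obtain ⟨o, ho, n, hn, e⟩ := exists_core_mul_R S F hA hS hk
  have hNH := normalizer_R_le_H S F hA hS
  have hdH : d ∈ centralizer ({F.z} : Set G) := S_le_H S F (F.sub_le _ hd)
  have hρR : n * d * n⁻¹ * d⁻¹ ∈ F.subR := mul_mem ((mem_normalizer_iff.1 hn d).1 hd) (inv_mem hd)
  have hρθ : n * d * n⁻¹ * d⁻¹ ∈ θ := by
    have h1 : o⁻¹ * (k * d * k⁻¹ * d⁻¹) * (d * o * d⁻¹) ∈ θ :=
      mul_mem (mul_mem (inv_mem ho) h) (core_conj_self hdH ho)
    rwa [e, show o⁻¹ * (o * n * d * (o * n)⁻¹ * d⁻¹) * (d * o * d⁻¹) = n * d * n⁻¹ * d⁻¹ by group] at h1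
  have hfix : F.act hT hS ⟨n, hn⟩ (F.vec hT hS d) = F.vec hT hS d := by
    rw [F.act_apply hT hS ⟨n, hn⟩ hd,
      mul_inv_eq_one.1 (eq_one_of_pGroup_odd (S.2.to_le (F.sub_le _)) (odd_core _) hρR hρθ)]
  have hne : F.vec hT hS d ≠ 0 := fun e' => hdC ((F.vecN_eq_zero hT hS hd).1 (congrArg Fin.val e'))
  have hpow := SpFour.pow_four_of_fixed (isSp_spGrp S F hA hS) (t8_spGrp S F hA hS)
    (not_dvd_spGrp S F hA hS) (h4_spGrp S F hA hS) ⟨⟨n, hn⟩, rfl⟩ hne hfix
  -- the action has odd order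
  have hθn : ∀ x ∈ centralizer ({F.z} : Set G), ∀ y ∈ θ, x * y * x⁻¹ ∈ θ := fun x hx y hy =>
    core_conj_self hx hy
  have hkn : ∀ j : ℕ, ∃ o' ∈ θ, k ^ j = o' * n ^ j := by
    intro j
    induction j with
    | zero => exact ⟨1, one_mem _, by simp⟩
    | succ j ih =>
      obtain ⟨o', ho', e'⟩ := ih
      refine ⟨o' * (n ^ j * o * (n ^ j)⁻¹), mul_mem ho' (hθn _ (pow_mem (hNH hn) j) _ ho), ?_⟩
      rw [pow_succ, e', e, pow_succ]
      group
  obtain ⟨o', ho', e'⟩ := hkn (orderOf k)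
  rw [pow_orderOf_eq_one] at e'
  have hnθ : n ^ orderOf k ∈ θ := by
    rw [show n ^ orderOf k = o'⁻¹ from eq_inv_of_mul_eq_one_right e'.symm]; exact inv_mem ho'
  have hact : F.act hT hS ⟨n, hn⟩ = 1 := orderOf_eq_one_iff.1 (Nat.eq_one_of_dvd_coprimes
    (Nat.Coprime.pow_right 2 (Nat.coprime_two_right.2 (hodd.of_dvd_nat
      (orderOf_dvd_of_pow_eq_one (by rw [← map_pow]; exact act_eq_one_of_core S F hA hS hnθ)))))
    dvd_rfl (orderOf_dvd_of_pow_eq_one hpow))
  obtain ⟨r, hr, o₂, ho₂, e₂⟩ := exists_mul_core_of_act S F hA hS hact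
  have hrH : r ∈ centralizer ({F.z} : Set G) := S_le_H S F (F.sub_le _ hr)
  have e3 : k = o * (r * o₂ * r⁻¹) * r := by
    rw [e, show n = r * o₂ from e₂]; group
  obtain ⟨w, hw, e4⟩ : ∃ w ∈ θ, k = w * r := ⟨_, mul_mem ho (core_conj_self hrH ho₂), e3⟩
  have hkr : ∀ j : ℕ, ∃ o' ∈ θ, k ^ j = o' * r ^ j := by
    intro j
    induction j with
    | zero => exact ⟨1, one_mem _, by simp⟩
    | succ j ih =>
      obtain ⟨o', ho', e'⟩ := ih
      refine ⟨o' * (r ^ j * w * (r ^ j)⁻¹), mul_mem ho' (hθn _ (pow_mem hrH j) _ hw), ?_⟩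
      rw [pow_succ, e', e4, pow_succ]
      group
  obtain ⟨o₃, ho₃, e5⟩ := hkr (orderOf k)
  rw [pow_orderOf_eq_one] at e5
  have hr0 : r ^ orderOf k = 1 := eq_one_of_pGroup_odd (S.2.to_le (F.sub_le _ : F.subR ≤ _)) (odd_core _)
    (pow_mem hr _) (by rw [eq_inv_of_mul_eq_one_right e5.symm]; exact inv_mem ho₃)
  obtain ⟨j, hj⟩ := S.2 ⟨r, F.sub_le _ hr⟩
  have hr1 : r = 1 := orderOf_eq_one_iff.1 (Nat.eq_one_of_dvd_coprimes
    (Nat.Coprime.pow_right j (Nat.coprime_two_right.2 hodd)) (orderOf_dvd_of_pow_eq_one hr0)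
    (orderOf_dvd_of_pow_eq_one (congrArg Subtype.val hj)))
  rw [e4, hr1, mul_one]
  exact hw

end CfsgLib.SylHS
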