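import Cfsg.Agent.Lib.Recog.HSTop.Model
import Cfsg.Agent.Lib.SylAltEight.Criterion

/-!
A subgroup `M` which is Higman–Sims modulo a normal subgroup of odd order, contains the centraliser of one of
its involutions with centraliser of order 7680 in the quotient, and controls the fusion of that involution, is
the whole group.
-/

set_option autoImplicit false
set_option maxRecDepth 100000

namespace CfsgLib.SylHS

open CfsgLib.KnownA CfsgLib.KnownA.HSModel CfsgLib.KnownA.HSModel.Invol CfsgLib.KnownA.PermCert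
open CfsgLib.Recog.HSTop

section Odd

variable {M H : Type*} [Group M] [Finite M] [Group H] (ψ : M →* H)

/-- An element killed by `ψ` whose square is one is trivial. -/
theorem eq_one_of_ker_odd (hodd : Odd (Nat.card ψ.ker)) {x : M} (hx : ψ x = 1) (h2 : x * x = 1) : x = 1 := by
  have hd : orderOf x ∣ 2 := orderOf_dvd_of_pow_eq_one (by rw [pow_two, h2])
  have ho : Odd (orderOf x) := hodd.of_dvd_nat (ψ.ker.orderOf_dvd_natCard hx)
  rcases (Nat.dvd_prime Nat.prime_two).1 hd with h | h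
  · exact orderOf_eq_one_iff.1 h
  · rw [h] at ho; exact absurd ho (by decide)

/-- A lift of an involution is an involution after an odd power, commuting with what the lift commutes with. -/
theorem exists_invol_lift (hodd : Odd (Nat.card ψ.ker)) {y : M} (hy : ψ y * ψ y = 1) :
    ∃ n : ℕ, ψ (y ^ n) = ψ y ∧ y ^ n * y ^ n = 1 := by
  refine ⟨Nat.card ψ.ker, ?_, ?_⟩
  · obtain ⟨j, hj⟩ := hodd
    rw [hj, map_pow, pow_succ, pow_mul, pow_two, hy, one_pow, one_mul]
  · have hk : y * y ∈ ψ.ker := by rw [MonoidHom.mem_ker, map_mul, hy]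
    rw [← pow_add, ← two_mul, pow_mul, pow_two]
    exact orderOf_dvd_iff_pow_eq_one.1 (ψ.ker.orderOf_dvd_natCard hk)

/-- Two involutions with the same image are conjugate. -/
theorem exists_conj_of_image (hodd : Odd (Nat.card ψ.ker)) {x y : M} (hx : x * x = 1) (hy : y * y = 1)
    (hne : ψ x ≠ 1) (h : ψ x = ψ y) : ∃ d : M, ψ d = 1 ∧ d * x * d⁻¹ = y := by
  have hord : ∀ z : M, z * z = 1 → ψ z ≠ 1 → orderOf z = 2 := fun z hz hz1 =>
    orderOf_eq_prime (by rw [pow_two, hz]) fun e => hz1 (by rw [e, map_one])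
  obtain ⟨d, hd, e⟩ := CfsgLib.SylAltEight.exists_conj_of_coset hodd (hord x hx hne)
    (hord y hy (h ▸ hne)) (by rw [MonoidHom.mem_ker, map_mul, ← h, ← map_mul, hx, map_one])
  exact ⟨d, hd, e⟩

/-- Centralisers of involutions map onto centralisers. -/
theorem exists_cent_lift (hodd : Odd (Nat.card ψ.ker)) (hsurj : Function.Surjective ψ) {x : M} (hx : x * x = 1)
    (hne : ψ x ≠ 1) {z : H} (hz : z * ψ x = ψ x * z) : ∃ y : M, ψ y = z ∧ y * x = x * y := by
  obtain ⟨y, rfl⟩ := hsurj z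
  have him : ψ (y * x * y⁻¹) = ψ x := by
    rw [map_mul, map_mul, hz, map_inv, mul_inv_cancel_right]
  obtain ⟨d, hd, e⟩ := exists_conj_of_image ψ hodd (x := y * x * y⁻¹) (y := x)
    (by rw [show y * x * y⁻¹ * (y * x * y⁻¹) = y * (x * x) * y⁻¹ by group, hx, mul_one, mul_inv_cancel]) hx
    (him ▸ hne) him
  refine ⟨d * y, by rw [map_mul, hd, one_mul], ?_⟩
  calc d * y * x = d * (y * x * y⁻¹) * d⁻¹ * (d * y) := by group
    _ = x * (d * y) := by rw [e]

end Odd

set_option maxHeartbeats 1000000 in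
/-- The whole group, from a quotient by a normal subgroup of odd order. -/
theorem eq_top_of_quotient {G : Type*} [Group G] [Finite G] {M W : Subgroup G} (hW : Odd (Nat.card W))
    (hWM : W ≤ M) [(W.subgroupOf M).Normal]
    (e : ↥M ⧸ W.subgroupOf M ≃* CfsgLib.KnownA.HSModel.hsPermGroup) {t : G} (ht : orderOf t = 2) (htM : t ∈ M)
    (hle : Subgroup.centralizer ({t} : Set G) ≤ M)
    (hcard : Nat.card (Subgroup.centralizer
      ({QuotientGroup.mk' (W.subgroupOf M) ⟨t, htM⟩} : Set (↥M ⧸ W.subgroupOf M))) = 7680)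
    (hfus : ∀ g : G, g * t * g⁻¹ ∈ M → ∃ m ∈ M, m * t * m⁻¹ = g * t * g⁻¹) : M = ⊤ := by
  obtain ⟨ψ, hψ⟩ : ∃ ψ : ↥M →* hsPermGroup, ψ = e.toMonoidHom.comp (QuotientGroup.mk' (W.subgroupOf M)) :=
    ⟨_, rfl⟩
  have hψsurj : Function.Surjective ψ := hψ ▸ e.surjective.comp (QuotientGroup.mk'_surjective _)
  have hodd : Odd (Nat.card ψ.ker) := by
    have hker : ψ.ker = W.subgroupOf M := by
      ext x
      rw [MonoidHom.mem_ker, hψ]
      simp
    rwa [hker, Nat.card_congr (Subgroup.subgroupOfEquivOfLe hWM).toEquiv]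
  -- the model
  let T : hsPermGroup := ⟨_, tA_mem⟩
  let U : hsPermGroup := ⟨_, uB_mem⟩
  let A : hsPermGroup := ⟨_, a_mem⟩
  let Y : hsPermGroup := ⟨_, y_mem⟩
  obtain ⟨htt, htne, -, huu, hufix, -, haufix, htufix, htu, hau, hy, hp3, hq3, hpq, hpu, hqu, hp1, hq1, hqp,
    hqp2⟩ := named
  have hT1 : T ≠ 1 := fun e' => htne (congrArg Subtype.val e')
  have hT2 : T * T = 1 := Subtype.ext htt
  have hU1 : U ≠ 1 := fun e' => uB_ne (congrArg Subtype.val e')
  have hU2 : U * U = 1 := Subtype.ext huu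
  have hTU : T * U = U * T := Subtype.ext htu
  have hAU : A * U = U * A := Subtype.ext hau
  have hA : Y * T * Y⁻¹ = A := Subtype.ext (by
    show permOf 100 yCode * permOf 100 tA * (permOf 100 yCode)⁻¹ = permOf 100 aCode
    rw [hy, mul_inv_cancel_right])
  -- the image of `t`
  obtain ⟨τ, hτ⟩ : ∃ τ : ↥M, τ = ⟨t, htM⟩ := ⟨_, rfl⟩
  have hτ2 : τ * τ = 1 := hτ ▸ Subtype.ext (show t * t = 1 by rw [← pow_two, ← ht, pow_orderOf_eq_one])
  have hτ1 : ψ τ ≠ 1 := fun e' => by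
    have : τ = 1 := eq_one_of_ker_odd ψ hodd e' hτ2
    rw [hτ] at this
    have h1 : t = 1 := congrArg Subtype.val this
    rw [h1] at ht
    simp at ht
  have hcτ : Nat.card (Subgroup.centralizer ({ψ τ} : Set hsPermGroup)) = 7680 := by
    rw [← hcard, ← hτ]
    refine (Nat.card_congr (Equiv.subtypeEquiv e.toEquiv fun z => ?_)).symm
    show z ∈ _ ↔ e z ∈ Subgroup.centralizer _
    rw [Subgroup.mem_centralizer_singleton_iff, Subgroup.mem_centralizer_singleton_iff, hψ]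
    show _ ↔ e z * e (QuotientGroup.mk' _ τ) = e (QuotientGroup.mk' _ τ) * e z
    rw [← map_mul, ← map_mul]
    exact e.injective.eq_iff.symm
  have hnine : ∀ g : hsPermGroup, g * U * g⁻¹ ≠ ψ τ := by
    intro g hg
    obtain ⟨-, hpK⟩ := named_mem (c := pCode) (by simp)
    obtain ⟨-, hqK⟩ := named_mem (c := qCode) (by simp)
    let P : hsPermGroup := ⟨_, hpK⟩
    let Q : hsPermGroup := ⟨_, hqK⟩
    have := nine_dvd_of_pair (p := P) (q := Q) (Subtype.ext hpq) (Subtype.ext hp3) (Subtype.ext hq3)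
      (fun e' => hp1 (congrArg Subtype.val e')) (fun e' => hq1 (congrArg Subtype.val e'))
      (fun e' => hqp (congrArg Subtype.val e')) (fun e' => hqp2 (congrArg Subtype.val e'))
      (Subgroup.mem_centralizer_singleton_iff.2 (show P * U = U * P from Subtype.ext hpu))
      (Subgroup.mem_centralizer_singleton_iff.2 (show Q * U = U * Q from Subtype.ext hqu))
    rw [← card_centralizer_conj hg, hcτ] at this
    exact absurd this (by norm_num)
  have hclass : ∀ z : hsPermGroup, z * z = 1 → z ≠ 1 →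
      (∃ g : hsPermGroup, g * T * g⁻¹ = z) ∨ (∃ g : hsPermGroup, g * U * g⁻¹ = z) := by
    intro z hz hz1
    obtain ⟨g, hg, e' | e'⟩ := classify z.2 (congrArg Subtype.val hz) (fun e' => hz1 (Subtype.ext e'))
    · exact Or.inl ⟨⟨g, hg⟩, Subtype.ext e'⟩
    · exact Or.inr ⟨⟨g, hg⟩, Subtype.ext e'⟩
  obtain ⟨g₀, hg₀⟩ : ∃ g : hsPermGroup, g * T * g⁻¹ = ψ τ :=
    (hclass _ (by rw [← map_mul, hτ2, map_one]) hτ1).resolve_right fun ⟨g, hg⟩ => hnine g hg
  have hTU' : ∀ g : hsPermGroup, g * T * g⁻¹ ≠ U := fun g e' => hnine (g₀ * g⁻¹) (by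
    rw [← e', ← hg₀]; group)
  have hcT : Nat.card (Subgroup.centralizer ({T} : Set hsPermGroup)) = 7680 := by
    rw [← card_centralizer_conj hg₀, hcτ]
  have hc : Nat.card centT = 7680 := by
    rw [← hcT]
    refine Nat.card_congr ⟨fun σ => ⟨⟨σ.1, (mem_centT.1 σ.2).1⟩, Subgroup.mem_centralizer_singleton_iff.2
      (Subtype.ext (mem_centT.1 σ.2).2)⟩, fun z => ⟨z.1.1, mem_centT.2 ⟨z.1.2,
      congrArg Subtype.val (Subgroup.mem_centralizer_singleton_iff.1 z.2)⟩⟩, fun σ => rfl, fun z => rfl⟩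
  -- lifts
  obtain ⟨u₁, hu₁⟩ := hψsurj U
  obtain ⟨n, hn, hn2⟩ := exists_invol_lift ψ hodd (y := u₁) (by rw [hu₁, hU2])
  obtain ⟨u, hu, hu2⟩ : ∃ u : ↥M, ψ u = U ∧ u * u = 1 := ⟨_, hn.trans hu₁, hn2⟩
  have hlift : ∀ z : hsPermGroup, z * z = 1 → z * U = U * z → ∃ x : ↥M, ψ x = z ∧ x * x = 1 ∧ x * u = u * x := by
    intro z hz hzU
    obtain ⟨y, hy', hyu⟩ := exists_cent_lift ψ hodd hψsurj hu2 (hu ▸ hU1) (z := z) (by rw [hu]; exact hzU)
    obtain ⟨n, hn, hn2⟩ := exists_invol_lift ψ hodd (y := y) (by rw [hy', hz])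
    exact ⟨y ^ n, hn.trans hy', hn2, ((show Commute y u from hyu).pow_left n).eq⟩
  obtain ⟨T', hT', hT'2, hT'u⟩ := hlift T hT2 hTU
  obtain ⟨A', hA', hA'2, hA'u⟩ := hlift A (by
    rw [← hA, show Y * T * Y⁻¹ * (Y * T * Y⁻¹) = Y * (T * T) * Y⁻¹ by group, hT2]; group) hAU
  have hin : ∀ x : ↥M, x * x = 1 → (∃ g : hsPermGroup, g * T * g⁻¹ = ψ x) →
      InH M (T' : G) (x : G) := by
    rintro x hx ⟨g, hg⟩
    obtain ⟨m, rfl⟩ := hψsurj g
    have him : ψ (m * T' * m⁻¹) = ψ x := by rw [map_mul, map_mul, map_inv, hT', hg]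
    have hne : ψ (m * T' * m⁻¹) ≠ 1 := by
      rw [map_mul, map_mul, map_inv, hT']
      exact fun e' => hT1 (conj_eq_one_iff.1 e')
    obtain ⟨d, -, hd⟩ := exists_conj_of_image ψ hodd
      (x := m * T' * m⁻¹) (y := x) (by
        rw [show m * T' * m⁻¹ * (m * T' * m⁻¹) = m * (T' * T') * m⁻¹ by group, hT'2]; group) hx hne him
    refine ⟨(d * m : ↥M), (d * m).2, ?_⟩
    rw [← hd]
    simp [mul_assoc]
  have hback : ∀ x : ↥M, InH M (T' : G) (x : G) → ∃ g : hsPermGroup, g * T * g⁻¹ = ψ x := by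
    rintro x ⟨g, hg, e'⟩
    refine ⟨ψ ⟨g, hg⟩, ?_⟩
    rw [← hT', ← map_inv, ← map_mul, ← map_mul]
    exact congrArg ψ (Subtype.ext e')
  have hnofix : ∀ z : hsPermGroup, ¬ HasFixed z.1 → ∀ g : hsPermGroup, g * T * g⁻¹ ≠ z := fun z hz g e' =>
    hz (by rw [← congrArg Subtype.val e']; exact hasFixed_conj fixed_tA)
  obtain ⟨m, hmM, hm⟩ := hin τ hτ2 ⟨g₀, hg₀⟩
  have hτt : (τ : G) = t := by rw [hτ]
  rw [hτt] at hm
  have hleT : Subgroup.centralizer ({(T' : G)} : Set G) ≤ M := by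
    intro c hc'
    rw [Subgroup.mem_centralizer_singleton_iff] at hc'
    have h1 : m * c * m⁻¹ ∈ M := hle (Subgroup.mem_centralizer_singleton_iff.2 (by
      rw [← hm]
      calc m * c * m⁻¹ * (m * (T' : G) * m⁻¹) = m * (c * (T' : G)) * m⁻¹ := by group
        _ = m * (T' : G) * m⁻¹ * (m * c * m⁻¹) := by rw [hc']; group))
    have := M.mul_mem (M.mul_mem (M.inv_mem hmM) h1) hmM
    rwa [show m⁻¹ * (m * c * m⁻¹) * m = c by group] at this
  refine eq_top (t := (T' : G)) (u := (u : G)) (a := (A' : G))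
    ⟨T'.2, u.2, A'.2, hleT, congrArg Subtype.val hu2, ?_, congrArg Subtype.val hT'2, congrArg Subtype.val hT'u,
      congrArg Subtype.val hA'u, ?_, ?_, ?_, ?_, ?_, ?_, ?_⟩
  · intro e'
    have : u = 1 := Subtype.ext e'
    rw [this, map_one] at hu
    exact hU1 hu.symm
  · intro x hx hxx hx1
    obtain ⟨x, rfl⟩ : ∃ x' : ↥M, (x' : G) = x := ⟨⟨x, hx⟩, rfl⟩
    have hx2 : x * x = 1 := Subtype.ext hxx
    have hxne : ψ x ≠ 1 := fun e' => hx1 (congrArg Subtype.val (eq_one_of_ker_odd ψ hodd e' hx2))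
    rcases hclass (ψ x) (by rw [← map_mul, hx2, map_one]) hxne with h | ⟨g, hg⟩
    · exact Or.inl (hin x hx2 h)
    · right
      obtain ⟨g', rfl⟩ := hψsurj g
      have him : ψ (g' * u * g'⁻¹) = ψ x := by rw [map_mul, map_mul, map_inv, hu, hg]
      obtain ⟨d, -, hd⟩ := exists_conj_of_image ψ hodd
        (x := g' * u * g'⁻¹) (y := x) (by
          rw [show g' * u * g'⁻¹ * (g' * u * g'⁻¹) = g' * (u * u) * g'⁻¹ by group, hu2]; group) hx2
        (him ▸ hxne) him
      refine ⟨(d * g' : ↥M), (d * g').2, ?_⟩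
      rw [← hd]
      simp [mul_assoc]
  · exact hin A' hA'2 ⟨Y, hA.trans hA'.symm⟩
  · intro h
    obtain ⟨g, hg⟩ := hback (A' * u) h
    exact hnofix (A * U) haufix g (by rw [hg, map_mul, hA', hu])
  · intro h
    obtain ⟨g, hg⟩ := hback (T' * u) h
    exact hnofix (T * U) htufix g (by rw [hg, map_mul, hT', hu])
  · intro x hx hxu e'
    obtain ⟨x, rfl⟩ : ∃ x' : ↥M, (x' : G) = x := ⟨⟨x, hx⟩, rfl⟩
    have h1 : ψ x * U = U * ψ x := by
      rw [← hu, ← map_mul, ← map_mul]; exact congrArg ψ (Subtype.ext hxu)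
    have h2 : ψ x * T * (ψ x)⁻¹ = A := by
      rw [← hT', ← hA', ← map_inv, ← map_mul, ← map_mul]; exact congrArg ψ (Subtype.ext e')
    exact Invol.apart hc (ψ x).2 (congrArg Subtype.val h1) (congrArg Subtype.val h2)
  · intro x hx hxt hxu hsq hx1 hxu'
    obtain ⟨x, rfl⟩ : ∃ x' : ↥M, (x' : G) = x := ⟨⟨x, hx⟩, rfl⟩
    have hxt' : ψ x * T = T * ψ x := by rw [← hT', ← map_mul, ← map_mul]; exact congrArg ψ (Subtype.ext hxt)
    have hxu2 : ψ x * U = U * ψ x := by rw [← hu, ← map_mul, ← map_mul]; exact congrArg ψ (Subtype.ext hxu)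
    have hsq2 : x * x = 1 ∨ x * x = u := hsq.imp (fun h => Subtype.ext h) (fun h => Subtype.ext h)
    have hsq' : ψ x * ψ x = 1 ∨ ψ x * ψ x = U :=
      hsq2.imp (fun h => by rw [← map_mul, h, map_one]) (fun h => by rw [← map_mul, h, hu])
    have hne1 : ψ x ≠ 1 := by
      intro h0
      rcases hsq2 with h | h
      · exact hx1 (congrArg Subtype.val (eq_one_of_ker_odd ψ hodd h0 h))
      · exact hU1 (by rw [← hu, ← h, map_mul, h0, one_mul])
    have hxuc : x * u = u * x := Subtype.ext hxu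
    have hneu : ψ x ≠ U := by
      intro h0
      rcases hsq2 with h | h
      · refine hxu' (congrArg Subtype.val (?_ : x = u))
        have := eq_one_of_ker_odd ψ hodd (x := x * u) (by rw [map_mul, h0, hu, hU2]) (by
          rw [mul_assoc, ← mul_assoc u, ← hxuc, mul_assoc x u u, hu2, mul_one, h])
        rw [mul_eq_one_iff_eq_inv] at this
        rwa [inv_eq_of_mul_eq_one_left hu2] at this
      · exact hU1 (by rw [← hu, ← h, map_mul, h0, hU2])
    have key : x * x = u → (∃ g : hsPermGroup, g * T * g⁻¹ = ψ x ∨ g * T * g⁻¹ = ψ x * U) → False := by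
      rintro h ⟨g, hg⟩
      have h1 : g * T * g⁻¹ * (g * T * g⁻¹) = 1 := by
        rw [show g * T * g⁻¹ * (g * T * g⁻¹) = g * (T * T) * g⁻¹ by group, hT2]; group
      have h2 : ψ x * ψ x = 1 := by
        rcases hg with hg | hg <;> rw [hg] at h1
        · exact h1
        · rwa [mul_assoc, ← mul_assoc U, ← hxu2, mul_assoc (ψ x) U U, hU2, mul_one] at h1
      exact hU1 (by rw [← hu, ← h, map_mul, h2])
    rcases Invol.roots hc (ψ x).2 (congrArg Subtype.val hxt') (congrArg Subtype.val hxu2)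
      (hsq'.imp (congrArg Subtype.val) (congrArg Subtype.val))
      (fun h => hne1 (Subtype.ext h)) (fun h => hneu (Subtype.ext h)) with ⟨w, hw, e'⟩ | ⟨w, hw, e'⟩
    · have hg : (⟨w, hw⟩ : hsPermGroup) * T * ⟨w, hw⟩⁻¹ = ψ x := Subtype.ext e'
      rcases hsq2 with h | h
      · exact Or.inl (hin x h ⟨_, hg⟩)
      · exact (key h ⟨_, Or.inl hg⟩).elim
    · have hg : (⟨w, hw⟩ : hsPermGroup) * T * ⟨w, hw⟩⁻¹ = ψ x * U := Subtype.ext e'
      rcases hsq2 with h | h
      · refine Or.inr (hin (x * u) ?_ ⟨_, by rw [hg, map_mul, hu]⟩)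
        rw [mul_assoc, ← mul_assoc u, ← hxuc, mul_assoc x u u, hu2, mul_one, h]
      · exact (key h ⟨_, Or.inr hg⟩).elim
  · intro g e'
    have h1 : g * m⁻¹ * t * (g * m⁻¹)⁻¹ = (u : G) := by rw [← e', ← hm]; group
    obtain ⟨m', hm', hm'e⟩ := hfus _ (h1 ▸ u.2)
    refine hTU' (ψ ⟨m', hm'⟩ * g₀) ?_
    have h2 : (⟨m', hm'⟩ : ↥M) * τ * (⟨m', hm'⟩ : ↥M)⁻¹ = u := Subtype.ext (by
      show m' * (τ : G) * m'⁻¹ = (u : G)
      rw [hτt, hm'e, h1])
    rw [← hu, ← h2, map_mul, map_mul, map_inv, ← hg₀]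
    group

end CfsgLib.SylHS
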