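import Cfsg.Agent.Lib.SylHS.Final
import Cfsg.Agent.Lib.SylHS.Lift

/-!
A finite simple group with a Sylow `2`-subgroup of Higman–Sims type is the Higman–Sims group, given
the table facts and the recognition theorem.
-/

set_option autoImplicit false

namespace CfsgLib.SylHS

universe u

/-- The lifting lemma in the form used by the assembly. -/
theorem liftHS : LiftHS.{u} := fun _ _ _ _ _ hW hWM hn e _ ht htM hle hcard hfus =>
  haveI := hn
  eq_top_of_quotient hW hWM e ht htM hle hcard hfus

/-- The classification, modulo the table facts and the recognition theorem. -/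
theorem isoHS_of_sylow {G : Type u} [Group G] [Finite G] [IsSimpleGroup G] (S : Sylow 2 G)
    (P : Sylow 2 ↥Cfsg.Spor.HS)
    (hS : Nonempty (↥(S : Subgroup G) ≃* ↥(P : Subgroup ↥Cfsg.Spor.HS))) (hA : AllFacts.{u})
    (hSp : ∀ F : Frame (S : Subgroup G), SpFacts F) (hrec : RecogHS.{u}) : Cfsg.Spor.IsoHS G := by
  obtain ⟨F⟩ := exists_frame P hS
  exact isoHS_of_frame S F hA (hSp F) hrec liftHS

end CfsgLib.SylHS
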