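import Cfsg.Agent.Lib.SylHS.Frame

/-!
Programs compute subsets of a subgroup invariant under all its automorphisms.
-/

set_option autoImplicit false
set_option maxRecDepth 100000
set_option linter.style.haveILetI false

namespace CfsgLib.SylHS

open Subgroup

universe u

variable {G : Type u} [Group G] {T : Subgroup G}

namespace Frame

variable {F : Frame T} {P : Subgroup G}

/-- The set of a mask lies in `P` and is invariant under the automorphisms of `P`. -/
def Inv (F : Frame T) (P : Subgroup G) (m : ℕ) : Prop :=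
  F.set m ⊆ (P : Set G) ∧ ∀ (α : MulAut P) (x : P), (x : G) ∈ F.set m → ((α x : P) : G) ∈ F.set m

theorem inv_one : F.Inv P 1 := by
  refine ⟨by rw [F.set_one]; exact Set.singleton_subset_iff.2 P.one_mem, fun α x hx => ?_⟩
  rw [F.set_one, Set.mem_singleton_iff] at hx ⊢
  rw [show x = 1 from Subtype.ext hx, map_one]; rfl

theorem Inv.mem_iff {m : ℕ} (h : F.Inv P m) (α : MulAut P) (x : P) :
    ((α x : P) : G) ∈ F.set m ↔ (x : G) ∈ F.set m :=
  ⟨fun hx => by simpa using h.2 α⁻¹ (α x) hx, h.2 α x⟩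

theorem set_maskOf_filter (l : List ℕ) (hl : ∀ d ∈ l, d < 512) (f : ℕ → Bool) {x : G} :
    x ∈ F.set (maskOf (l.filter f)) ↔ ∃ d ∈ l, f d = true ∧ F.p d = x := by
  rw [F.mem_set_maskOf fun d hd => hl d (List.mem_filter.1 hd).1]
  simp [List.mem_filter, and_assoc]

theorem elems_lt (m : ℕ) : ∀ d ∈ elems m, d < 512 := fun _ h => (mem_elems.1 h).1

theorem mem_set_elems {m : ℕ} {x : G} : x ∈ F.set m ↔ ∃ d ∈ elems m, F.p d = x :=
  ⟨fun ⟨d, hd, hm, e⟩ => ⟨d, mem_elems.2 ⟨hd, hm⟩, e⟩,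
    fun ⟨d, hd, e⟩ => ⟨d, (mem_elems.1 hd).1, (mem_elems.1 hd).2, e⟩⟩

theorem growMask_le {K : Subgroup G} : ∀ (gs : List ℕ) (m : ℕ), (∀ g ∈ gs, g < 512 ∧ F.p g ∈ K) →
    F.set m ⊆ (K : Set G) → F.set (growMask m gs) ⊆ (K : Set G)
  | [], m, _, hm => hm
  | g :: gs, m, hg, hm => by
    refine growMask_le gs _ (fun e he => hg e (List.mem_cons_of_mem _ he)) ?_
    rintro x ⟨d, hd, h, rfl⟩
    rcases mem_or.1 h with h | h
    · exact hm ⟨d, hd, h, rfl⟩
    · obtain ⟨e, he, rfl⟩ := List.mem_map.1 (mem_maskOf.1 h)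
      rw [← F.mul g (hg g List.mem_cons_self).1 e (mem_elems.1 he).1]
      exact K.mul_mem (hg g List.mem_cons_self).2 (hm (mem_set_elems.2 ⟨e, he, rfl⟩))

theorem growMask_mono : ∀ (gs : List ℕ) (m : ℕ) {d : ℕ}, mem m d = true → mem (growMask m gs) d = true
  | [], _, _, h => h
  | g :: gs, m, d, h => growMask_mono gs _ (mem_or.2 (Or.inl h))

/-- A set invariant under left translation by generators contains the subgroup they generate. -/
theorem closure_subset {gs : List ℕ} {m : ℕ} (h0 : mem m 0 = true) (hg : ∀ g ∈ gs, g < 512)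
    (hcl : ∀ g ∈ gs, ∀ h ∈ elems m, mem m (mt g h) = true) :
    (closure (F.p '' {g | g ∈ gs}) : Set G) ⊆ F.set m := by
  have hfin : (F.set m).Finite :=
    ((Set.finite_lt_nat 512).image F.p).subset fun x ⟨d, hd, _, e⟩ => ⟨d, hd, e⟩
  let S : Subgroup G :=
    { carrier := {x | (fun y => x * y) '' F.set m = F.set m}
      one_mem' := by simp
      mul_mem' := fun {a b} ha hb => by
        show (fun y => a * b * y) '' F.set m = F.set m
        rw [show (fun y => a * b * y) = (fun y => a * y) ∘ (fun y => b * y) from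
          funext fun y => mul_assoc a b y, Set.image_comp]
        exact (congrArg _ hb).trans ha
      inv_mem' := fun {a} ha => by
        show (fun y => a⁻¹ * y) '' F.set m = F.set m
        conv_lhs => rw [← show (fun y => a * y) '' F.set m = F.set m from ha]
        rw [← Set.image_comp]
        simp }
  have hle : closure (F.p '' {g | g ∈ gs}) ≤ S := by
    refine (closure_le S).2 ?_
    rintro _ ⟨g, hg', rfl⟩
    have hsub : (fun y => F.p g * y) '' F.set m ⊆ F.set m := by
      rintro _ ⟨_, ⟨d, hd, hm, rfl⟩, rfl⟩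
      exact ⟨mt g d, mt_lt g d, hcl g hg' d (mem_elems.2 ⟨hd, hm⟩), (F.mul g (hg g hg') d hd).symm⟩
    exact Set.eq_of_subset_of_ncard_le hsub
      (le_of_eq (Set.ncard_image_of_injective _ (mul_right_injective _)).symm) hfin
  intro x hx
  rw [← show (fun y => x * y) '' F.set m = F.set m from hle hx]
  exact ⟨1, ⟨0, by norm_num, h0, F.p_zero⟩, mul_one x⟩

theorem comm_closure {S : Set G} {x : G} (h : ∀ y ∈ S, x * y = y * x) :
    ∀ y ∈ closure S, x * y = y * x := by
  intro y hy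
  induction hy using closure_induction with
  | mem y hy => exact h y hy
  | one => simp
  | mul a b _ _ ha hb => rw [← mul_assoc, ha, mul_assoc, hb, mul_assoc]
  | inv a _ ha => exact Commute.inv_right ha

theorem closure_inv {A : Set G} (hA : A ⊆ P) (α : MulAut P)
    (hinv : ∀ x : P, (x : G) ∈ A → ((α x : P) : G) ∈ closure A) :
    ∀ x : P, (x : G) ∈ closure A → ((α x : P) : G) ∈ closure A := by
  have hle : closure A ≤ P := (closure_le P).2 hA
  suffices ∀ y (hy : y ∈ closure A) (hyP : y ∈ P), ((α ⟨y, hyP⟩ : P) : G) ∈ closure A from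
    fun x hx => this x hx x.2
  intro y hy
  induction hy using closure_induction with
  | mem w hw => exact fun hwP => hinv ⟨w, hwP⟩ hw
  | one =>
    intro h1
    rw [show (⟨1, h1⟩ : ↥P) = 1 from rfl, map_one]
    exact one_mem _
  | mul u v hu hv iu iv' =>
    intro huv
    rw [show (⟨u * v, huv⟩ : ↥P) = ⟨u, hle hu⟩ * ⟨v, hle hv⟩ from rfl, map_mul, coe_mul]
    exact mul_mem (iu _) (iv' _)
  | inv u hu iu =>
    intro hu'
    rw [show (⟨u⁻¹, hu'⟩ : ↥P) = (⟨u, hle hu⟩ : ↥P)⁻¹ from rfl, map_inv, coe_inv]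
    exact inv_mem (iu _)

/-- The number of elements of a set commuting with an element. -/
theorem countP_eq {m c : ℕ} (hm : F.set m ⊆ (P : Set G)) (hc : c < 512) :
    (elems m).countP (fun h => Nat.beq (mt c h) (mt h c)) =
      Nat.card {y : P // (y : G) ∈ F.set m ∧ F.p c * y = y * F.p c} := by
  classical
  set l := (elems m).filter (fun h => Nat.beq (mt c h) (mt h c)) with hl
  have hnd : l.Nodup := (nodup_elems m).filter _
  rw [List.countP_eq_length_filter, ← hl, ← List.toFinset_card_of_nodup hnd,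
    ← Nat.card_eq_finsetCard]
  have hmem : ∀ d, d ∈ l.toFinset → d < 512 ∧ F.p d ∈ F.set m ∧ F.p c * F.p d = F.p d * F.p c := by
    intro d hd
    rw [List.mem_toFinset, hl, List.mem_filter, beq_true] at hd
    have hd1 := elems_lt m d hd.1
    exact ⟨hd1, mem_set_elems.2 ⟨d, hd.1, rfl⟩, (F.comm_iff hc hd1).2 hd.2⟩
  refine Nat.card_congr (Equiv.ofBijective
    (fun d => ⟨⟨F.p d.1, hm (hmem d.1 d.2).2.1⟩, (hmem d.1 d.2).2⟩) ⟨fun a b e => ?_, ?_⟩)
  · exact Subtype.ext (F.inj _ (hmem a.1 a.2).1 _ (hmem b.1 b.2).1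
      (congrArg (fun w => ((w.1 : P) : G)) e))
  · rintro ⟨⟨y, hy⟩, hym, hyc⟩
    obtain ⟨d, hd, rfl⟩ := mem_set_elems.1 hym
    refine ⟨⟨d, ?_⟩, Subtype.ext (Subtype.ext rfl)⟩
    rw [List.mem_toFinset, hl, List.mem_filter, beq_true]
    exact ⟨hd, (F.comm_iff hc (elems_lt m d hd)).1 hyc⟩

theorem inv_op {M val : ℕ} {v : List ℕ} (hM : (P : Set G) = F.set M)
    (hget : ∀ i, F.Inv P (v.getD i 1)) :
    ∀ o : Op, o.ok M v val = true → F.Inv P val
  | .sq i, h => by
    rw [Op.ok, beq_true] at h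
    subst h
    have key : ∀ x, x ∈ F.set (maskOf ((elems (v.getD i 1)).map fun h => mt h h)) ↔
        ∃ y ∈ F.set (v.getD i 1), y * y = x := by
      intro x
      rw [F.mem_set_maskOf (by simp only [List.mem_map]; rintro _ ⟨a, -, rfl⟩; exact mt_lt a a)]
      simp only [List.mem_map]
      constructor
      · rintro ⟨_, ⟨a, ha, rfl⟩, e⟩
        exact ⟨F.p a, mem_set_elems.2 ⟨a, ha, rfl⟩, by rw [F.mul a (elems_lt _ a ha) a (elems_lt _ a ha), e]⟩
      · rintro ⟨y, hy, e⟩
        obtain ⟨a, ha, rfl⟩ := mem_set_elems.1 hy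
        exact ⟨_, ⟨a, ha, rfl⟩, by rw [← e, F.mul a (elems_lt _ a ha) a (elems_lt _ a ha)]⟩
    refine ⟨fun x hx => ?_, fun α x hx => ?_⟩
    · obtain ⟨y, hy, rfl⟩ := (key x).1 hx
      exact P.mul_mem ((hget i).1 hy) ((hget i).1 hy)
    · obtain ⟨y, hy, e⟩ := (key x).1 hx
      refine (key _).2 ⟨_, (hget i).2 α ⟨y, (hget i).1 hy⟩ hy, ?_⟩
      rw [← coe_mul, ← map_mul]
      exact congrArg (fun w => ((α w : P) : G)) (Subtype.ext e)
  | .sqIn i j, h => by
    rw [Op.ok, beq_true] at h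
    subst h
    have key : ∀ x, x ∈ F.set (maskOf ((elems (v.getD i 1)).filter
        fun h => mem (v.getD j 1) (mt h h))) ↔
        x ∈ F.set (v.getD i 1) ∧ x * x ∈ F.set (v.getD j 1) := by
      intro x
      rw [set_maskOf_filter _ (elems_lt _)]
      constructor
      · rintro ⟨a, ha, hj, rfl⟩
        refine ⟨mem_set_elems.2 ⟨a, ha, rfl⟩, ?_⟩
        rw [F.mul a (elems_lt _ a ha) a (elems_lt _ a ha), F.mem_set_p (mt_lt a a)]
        exact hj
      · rintro ⟨hx, hxx⟩
        obtain ⟨a, ha, rfl⟩ := mem_set_elems.1 hx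
        rw [F.mul a (elems_lt _ a ha) a (elems_lt _ a ha), F.mem_set_p (mt_lt a a)] at hxx
        exact ⟨a, ha, hxx, rfl⟩
    refine ⟨fun x hx => (hget i).1 ((key x).1 hx).1, fun α x hx => (key _).2 ⟨?_, ?_⟩⟩
    · exact (hget i).2 α x ((key _).1 hx).1
    · rw [← coe_mul, ← map_mul]
      exact (hget j).2 α (x * x) ((key _).1 hx).2
  | .inter i j, h => by
    rw [Op.ok, beq_true] at h
    subst h
    have key : ∀ x, x ∈ F.set (v.getD i 1 &&& v.getD j 1) ↔
        x ∈ F.set (v.getD i 1) ∧ x ∈ F.set (v.getD j 1) := fun x =>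
      ⟨fun ⟨d, hd, hm, e⟩ => ⟨⟨d, hd, (mem_and.1 hm).1, e⟩, ⟨d, hd, (mem_and.1 hm).2, e⟩⟩,
        fun ⟨⟨d, hd, hm, e⟩, ⟨d', hd', hm', e'⟩⟩ => by
          obtain rfl := F.inj d hd d' hd' (e.trans e'.symm)
          exact ⟨d, hd, mem_and.2 ⟨hm, hm'⟩, e⟩⟩
    exact ⟨fun x hx => (hget i).1 ((key x).1 hx).1,
      fun α x hx => (key _).2 ⟨(hget i).2 α x ((key _).1 hx).1, (hget j).2 α x ((key _).1 hx).2⟩⟩
  | .union i j, h => by
    rw [Op.ok, beq_true] at h
    subst h
    have key : ∀ x, x ∈ F.set (v.getD i 1 ||| v.getD j 1) ↔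
        x ∈ F.set (v.getD i 1) ∨ x ∈ F.set (v.getD j 1) := fun x =>
      ⟨fun ⟨d, hd, hm, e⟩ => (mem_or.1 hm).imp (fun h => ⟨d, hd, h, e⟩) fun h => ⟨d, hd, h, e⟩,
        fun h => h.elim (fun ⟨d, hd, hm, e⟩ => ⟨d, hd, mem_or.2 (Or.inl hm), e⟩)
          fun ⟨d, hd, hm, e⟩ => ⟨d, hd, mem_or.2 (Or.inr hm), e⟩⟩
    exact ⟨fun x hx => ((key x).1 hx).elim (fun h => (hget i).1 h) fun h => (hget j).1 h,
      fun α x hx => (key _).2 (((key _).1 hx).imp ((hget i).2 α x) ((hget j).2 α x))⟩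
  | .clo i gs, h => by
    simp only [Op.ok, cloOK, Bool.and_eq_true, List.all_eq_true, beq_true, Nat.blt_eq] at h
    obtain ⟨⟨⟨hg, hgrow⟩, hsub⟩, hcl⟩ := h
    have e : F.set val = (closure (F.set (v.getD i 1)) : Set G) := by
      refine Set.Subset.antisymm ?_ fun x hx => ?_
      · rw [← hgrow]
        refine growMask_le gs 1 (fun g hg' => ⟨(hg g hg').2,
          subset_closure ⟨g, (hg g hg').2, (hg g hg').1, rfl⟩⟩) ?_
        rw [F.set_one]; exact Set.singleton_subset_iff.2 (one_mem _)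
      · refine closure_subset (F := F) (gs := gs) ?_ (fun g hg' => (hg g hg').2) hcl ?_
        · rw [← hgrow]; exact growMask_mono gs 1 (mem_one.2 rfl)
        refine (closure_le _).2 ?_ hx
        refine (F.set_mono hsub).trans ?_
        rw [← hgrow]
        refine growMask_le gs 1 (fun g hg' => ⟨(hg g hg').2,
          subset_closure (Set.mem_image_of_mem F.p (show g ∈ {g | g ∈ gs} from hg'))⟩) ?_
        rw [F.set_one]; exact Set.singleton_subset_iff.2 (one_mem _)
    have hA := (hget i).1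
    unfold Inv
    rw [e]
    exact ⟨(closure_le P).2 hA, fun α => closure_inv hA α fun x hx =>
      subset_closure ((hget i).2 α x hx)⟩
  | .cen i gs, h => by
    simp only [Op.ok, cenOK, Bool.and_eq_true, List.all_eq_true, beq_true, Nat.blt_eq] at h
    obtain ⟨⟨hg, hsub⟩, rfl⟩ := h
    have key : ∀ x : G, x ∈ F.set (maskOf ((elems M).filter
        fun x => gs.all fun g => Nat.beq (mt x g) (mt g x))) ↔
        x ∈ P ∧ ∀ y ∈ F.set (v.getD i 1), x * y = y * x := by
      intro x
      rw [set_maskOf_filter _ (elems_lt _)]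
      constructor
      · rintro ⟨a, ha, hc, rfl⟩
        refine ⟨by rw [← SetLike.mem_coe, hM]; exact mem_set_elems.2 ⟨a, ha, rfl⟩, fun y hy => ?_⟩
        refine comm_closure (S := F.p '' {g | g ∈ gs}) ?_ y ?_
        · rintro _ ⟨g, hg', rfl⟩
          rw [List.all_eq_true] at hc
          exact (F.comm_iff (elems_lt _ a ha) (hg g hg').2).2 (beq_true.1 (hc g hg'))
        · refine growMask_le gs 1 (fun g hg' => ⟨(hg g hg').2,
          subset_closure (Set.mem_image_of_mem F.p (show g ∈ {g | g ∈ gs} from hg'))⟩) ?_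
            (F.set_mono hsub hy)
          rw [F.set_one]; exact Set.singleton_subset_iff.2 (one_mem _)
      · rintro ⟨hx, hc⟩
        rw [← SetLike.mem_coe, hM] at hx
        obtain ⟨a, ha, rfl⟩ := mem_set_elems.1 hx
        refine ⟨a, ha, ?_, rfl⟩
        rw [List.all_eq_true]
        exact fun g hg' => beq_true.2 ((F.comm_iff (elems_lt _ a ha) (hg g hg').2).1
          (hc _ ⟨g, (hg g hg').2, (hg g hg').1, rfl⟩))
    refine ⟨fun x hx => ((key x).1 hx).1, fun α x hx => (key _).2 ⟨SetLike.coe_mem _, fun y hy => ?_⟩⟩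
    have h1 := ((key _).1 hx).2 _ ((hget i).2 α⁻¹ ⟨y, (hget i).1 hy⟩ hy)
    rw [← coe_mul, ← coe_mul] at h1
    have h2 := congrArg (fun w => ((α w : P) : G)) (Subtype.ext h1)
    simpa [map_mul] using h2
  | .cnt i j n, h => by
    rw [Op.ok, beq_true] at h
    subst h
    have key : ∀ x : P, (x : G) ∈ F.set (maskOf ((elems (v.getD i 1)).filter fun x =>
        Nat.beq ((elems (v.getD j 1)).countP fun h => Nat.beq (mt x h) (mt h x)) n)) ↔
        (x : G) ∈ F.set (v.getD i 1) ∧
          Nat.card {y : P // (y : G) ∈ F.set (v.getD j 1) ∧ (x : G) * y = y * x} = n := by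
      intro x
      rw [set_maskOf_filter _ (elems_lt _)]
      constructor
      · rintro ⟨a, ha, hc, e⟩
        refine ⟨mem_set_elems.2 ⟨a, ha, e⟩, ?_⟩
        rw [beq_true, countP_eq (F := F) (P := P) (hget j).1 (elems_lt _ a ha), e] at hc
        exact hc
      · rintro ⟨hx, hc⟩
        obtain ⟨a, ha, e⟩ := mem_set_elems.1 hx
        refine ⟨a, ha, ?_, e⟩
        rw [beq_true, countP_eq (F := F) (P := P) (hget j).1 (elems_lt _ a ha), e]
        exact hc
    refine ⟨fun x hx => ?_, fun α x hx => (key _).2 ⟨(hget i).2 α x ((key x).1 hx).1, ?_⟩⟩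
    · obtain ⟨a, ha, -, e⟩ := (set_maskOf_filter _ (elems_lt _) _).1 hx
      exact (hget i).1 (mem_set_elems.2 ⟨a, ha, e⟩)
    rw [← ((key x).1 hx).2]
    refine (Nat.card_congr (Equiv.subtypeEquiv α.toEquiv fun y => and_congr ?_ ?_)).symm
    · exact ((hget j).mem_iff α y).symm
    · show (x : G) * y = y * x ↔ ((α x : P) : G) * ((α y : P) : G) = ((α y : P) : G) * ((α x : P) : G)
      rw [← coe_mul, ← coe_mul, ← coe_mul, ← coe_mul, ← map_mul, ← map_mul, Subtype.coe_inj,
        Subtype.coe_inj, α.injective.eq_iff]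

theorem inv_progVals {M : ℕ} {prog : List (Op × ℕ)} (hM : (P : Set G) = F.set M)
    (h : progOK M prog [M, 1] = true) : ∀ k, F.Inv P ((progVals M prog).getD k 1) := by
  have key : ∀ (l : List (Op × ℕ)) (v : List ℕ), progOK M l v = true → (∀ w ∈ v, F.Inv P w) →
      ∀ w ∈ v ++ l.map Prod.snd, F.Inv P w := by
    intro l
    induction l with
    | nil => intro v _ hv w hw; exact hv w (by simpa using hw)
    | cons o l ih =>
      intro v hl hv w hw
      simp only [progOK, Bool.and_eq_true] at hl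
      refine ih _ hl.2 (fun w hw => ?_) w (by simpa using hw)
      rcases List.mem_append.1 hw with hw | hw
      · exact hv w hw
      rw [List.mem_singleton.1 hw]
      refine inv_op hM (fun i => ?_) o.1 hl.1
      rw [List.getD_eq_getElem?_getD]
      rcases Nat.lt_or_ge i v.length with h | h
      · rw [List.getElem?_eq_getElem h]; exact hv _ (List.getElem_mem h)
      · rw [List.getElem?_eq_none h]; exact inv_one
  intro k
  rw [progVals, List.getD_eq_getElem?_getD]
  rcases Nat.lt_or_ge k ([M, 1] ++ prog.map Prod.snd).length with hk | hk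
  · rw [List.getElem?_eq_getElem hk]
    refine key prog [M, 1] h (fun w hw => ?_) _ (List.getElem_mem hk)
    rcases List.mem_pair.1 hw with rfl | rfl
    · exact ⟨hM.symm.subset, fun α x _ => hM ▸ SetLike.coe_mem _⟩
    · exact inv_one
  · rw [List.getElem?_eq_none hk]; exact inv_one

end Frame

end CfsgLib.SylHS
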