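import Cfsg.Agent.Lib.SylHS.Closure
import Cfsg.Agent.Lib.SylHS.Frattini
import Cfsg.Agent.Lib.PLocal.LargeExtra
import Cfsg.Prelude.Def_Classification2

/-!
The normalizer of the closure modulo the closure satisfies the recognition hypotheses of the
Higman–Sims group.
-/

set_option autoImplicit false
set_option maxRecDepth 100000
set_option linter.style.haveILetI false
set_option linter.unusedSectionVars false

namespace CfsgLib.SylHS

open Subgroup CfsgLib.Fusion CfsgLib.SylAltEight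

universe u

theorem eq_one_of_commute_gens : ∀ x : Equiv.Perm (Fin 5),
    x * (Equiv.swap 0 1 * Equiv.swap 1 2) = (Equiv.swap 0 1 * Equiv.swap 1 2) * x →
    x * (Equiv.swap 2 3 * Equiv.swap 3 4) = (Equiv.swap 2 3 * Equiv.swap 3 4) * x → x = 1 := by
  decide +kernel

/-- The symmetric group of degree five has no nontrivial normal `2`-subgroup. -/
theorem perm_five_eq_bot (N : Subgroup (Equiv.Perm (Fin 5))) (hN : N.Normal) (h2 : IsPGroup 2 N) :
    N = ⊥ := by
  haveI : Fact (Nat.Prime 2) := ⟨Nat.prime_two⟩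
  haveI : IsSimpleGroup (alternatingGroup (Fin 5)) := alternatingGroup.isSimpleGroup_five
  have hA : ∀ x ∈ N, x ∈ alternatingGroup (Fin 5) → x = 1 := by
    intro x hx hxA
    rcases (hN.comap (alternatingGroup (Fin 5)).subtype).eq_bot_or_eq_top with h | h
    · have : (⟨x, hxA⟩ : alternatingGroup (Fin 5)) ∈ N.comap (alternatingGroup (Fin 5)).subtype := hx
      rw [h, mem_bot] at this
      exact congrArg Subtype.val this
    · exfalso
      have hle : alternatingGroup (Fin 5) ≤ N := fun y hy =>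
        (h ▸ mem_top _ : (⟨y, hy⟩ : alternatingGroup (Fin 5)) ∈ N.comap (alternatingGroup (Fin 5)).subtype)
      obtain ⟨k, hk⟩ := IsPGroup.iff_card.1 (h2.to_le hle)
      have h3 : 3 ∣ 2 ^ k := by
        rw [← hk, nat_card_alternatingGroup, Nat.card_fin]
        decide
      have := Nat.prime_three.dvd_of_dvd_pow h3
      norm_num at this
  refine (eq_bot_iff_forall N).2 fun x hx => eq_one_of_commute_gens x ?_ ?_ <;>
  · rw [← mul_inv_eq_iff_eq_mul, ← mul_inv_eq_one]
    refine hA _ ?_ ?_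
    · have h1 := hN.conj_mem x⁻¹ (inv_mem hx)
      rw [mul_assoc, mul_assoc]
      refine mul_mem hx ?_
      rw [← mul_assoc]
      exact h1 _
    · simp only [Equiv.Perm.mem_alternatingGroup, map_mul, map_inv, Equiv.Perm.sign_swap,
        ne_eq, Fin.reduceEq, not_false_eq_true, Int.units_inv_eq_self]
      rcases Int.units_eq_one_or (Equiv.Perm.sign x) with h | h <;> rw [h] <;> decide

/-- The hypothesis that recognises the Higman–Sims group. -/
def RecogHS : Prop :=
  ∀ (G : Type u) [Group G] [Finite G] (t : G) (_ : orderOf t = 2) (H : Subgroup G)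
    (_ : H = Subgroup.centralizer ({t} : Set G))
    (R : Subgroup G) (_ : R = (Cfsg.pCore 2 H).map H.subtype)
    (Cy E : Subgroup G) (_ : IsCyclic Cy) (_ : Nat.card Cy = 4)
    (_ : Cy ≤ R ⊓ Subgroup.centralizer (R : Set G))
    (_ : E ≤ R) (_ : Cfsg.IsExtraspecial 2 E) (_ : Nat.card E = 32)
    (_ : Cy ⊔ E = R) (_ : Cy ⊓ E = E ⊓ Subgroup.centralizer (E : Set G))
    (_ : H ⧸ Cfsg.pCore 2 H ≃* Equiv.Perm (Fin 5))
    (V : Subgroup G) (_ : IsMulCommutative V) (_ : ∀ v ∈ V, v ^ 2 = 1) (_ : Nat.card V = 8)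
    (_ : V ≤ R) (M : Subgroup G) (_ : M = Subgroup.normalizer (V : Set G))
    (_ : Cfsg.pCore 2 M ≃* Multiplicative (ZMod 4 × ZMod 4 × ZMod 4))
    (_ : M ⧸ Cfsg.pCore 2 M ≃* GL (Fin 3) (ZMod 2)),
    Cfsg.Spor.IsoHS G

variable {G : Type u} [Group G] [Finite G] [IsSimpleGroup G] (S : Sylow 2 G)
  (F : Frame (S : Subgroup G)) (hA : AllFacts.{u}) (hS : SpFacts F)
include hA hS

/-- The local subgroup. -/
abbrev Mloc (F : Frame (S : Subgroup G)) : Subgroup G := normalizer (coreClosure F.subV : Set G)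

/-- The closure inside it. -/
abbrev Wloc (F : Frame (S : Subgroup G)) : Subgroup (Mloc S F) :=
  (coreClosure F.subV).subgroupOf (Mloc S F)

omit hA hS in
theorem Wloc_normal : (Wloc S F).Normal :=
  normal_subgroupOf_of_le_normalizer le_rfl

theorem normalizer_V_le_M : normalizer (F.subV : Set G) ≤ Mloc S F :=
  normalizer_le_normalizer_coreClosure F.subV

theorem S_le_M : (S : Subgroup G) ≤ Mloc S F :=
  (S_le_H S F).trans (centralizer_z_le_W S F hA hS)

/-- The elements of odd order centralizing `V` lie in the closure, the others in `A` times it. -/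
theorem centralizer_V_le : centralizer (F.subV : Set G) ≤ coreClosure F.subV ⊔ F.subA := by
  haveI : Fact (Nat.Prime 2) := ⟨Nat.prime_two⟩
  have hT := hA _ _ F
  set C := centralizer (F.subV : Set G)
  set N := normalizer (F.subV : Set G)
  have hCN : C ≤ N := Subgroup.centralizer_le_normalizer _
  have hSN : (S : Subgroup G) ≤ N := fun s hs =>
    Subgroup.mem_normalizer_fintype fun x hx => hT.conj_V s hs x hx
  have hAC : F.subA ≤ C := fun a ha => mem_centralizer_iff.2 fun v hv => hT.A_comm v (hT.V_le_A hv) a ha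
  obtain ⟨T, hT2⟩ := ((S.2.to_le (F.sub_le _ : F.subA ≤ _)).comap_of_injective C.subtype
    C.subtype_injective : IsPGroup 2 (F.subA.subgroupOf C)).exists_le_sylow
  obtain ⟨m, hm⟩ := Invol.exists_conj_mem_sylow (S.subtype hSN)
    (H := ((T : Subgroup C).map C.subtype).subgroupOf N)
    ((T.2.map _).comap_of_injective N.subtype N.subtype_injective)
  have htA : ∀ t : (T : Subgroup C), (m : G) * t * (m : G)⁻¹ ∈ F.subA := fun t => by
    refine hT.cent_V _ (hm ⟨((t : C) : G), hCN (t : C).2⟩ ⟨t, t.2, rfl⟩) fun v hv => ?_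
    have hv' : (m : G)⁻¹ * v * m ∈ F.subV := by
      have := (mem_normalizer_iff.1 (inv_mem m.2) v).1 hv
      rwa [inv_inv] at this
    calc (m : G) * t * (m : G)⁻¹ * v = m * (((t : C) : G) * ((m : G)⁻¹ * v * m)) * (m : G)⁻¹ := by group
      _ = m * (((m : G)⁻¹ * v * m) * ((t : C) : G)) * (m : G)⁻¹ := by
        rw [mem_centralizer_iff.1 (t : C).2 _ hv']
      _ = v * ((m : G) * t * (m : G)⁻¹) := by group
  have hTA : (T : Subgroup C) = F.subA.subgroupOf C := by
    refine (eq_of_le_of_card_ge hT2 ?_).symm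
    show Nat.card (T : Subgroup C) ≤ Nat.card (F.subA.subgroupOf C)
    rw [Nat.card_congr (subgroupOfEquivOfLe hAC).toEquiv]
    exact Nat.card_le_card_of_injective (fun t => (⟨_, htA t⟩ : F.subA)) fun a b e => by
      have h1 : (m : G) * a * (m : G)⁻¹ = m * b * (m : G)⁻¹ := congrArg Subtype.val e
      exact Subtype.ext (Subtype.ext ((MulAut.conj (m : G)).injective h1))
  let X : Subgroup C := (coreClosure F.subV ⊔ F.subA).comap C.subtype
  have hX : X = ⊤ := by
    refine eq_top_of_odd (A := (T : Subgroup C)) (fun t ht => ?_) T.not_dvd_index fun c hc => ?_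
    · exact mem_sup_right (show (t : G) ∈ F.subA from (hTA.le ht))
    · refine mem_sup_left (core_le_W S F hA hS ?_)
      have hcz : (c : G) ∈ centralizer ({F.z} : Set G) :=
        mem_centralizer_singleton_iff.2 (mem_centralizer_iff.1 c.2 _ hT.z_mem_V).symm
      obtain ⟨d, hd, hd1, hdz, -⟩ := exists_commute_V S F hA hS (one_mem F.subR)
      refine mem_core_of_fixed S F hA hS hcz (show Odd (orderOf ((c : C) : G)) by rwa [Subgroup.orderOf_coe]) (hT.V_le_R hd)
        (fun hdC => hdz (F.eq_z_of_sq hdC (by rw [← pow_two]; exact hT.V_sq d hd) hd1)) ?_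
      rw [show C.subtype c = (c : G) from rfl, (mem_centralizer_iff.1 c.2 d hd).symm,
        mul_inv_cancel_right, mul_inv_cancel]
      exact one_mem _
  exact fun c hc => (hX ▸ mem_top _ : (⟨c, hc⟩ : C) ∈ X)

/-- The quotient is the Higman–Sims group. -/
theorem quotient_isoHS (hrec : RecogHS.{u}) :
    haveI := Wloc_normal S F
    Cfsg.Spor.IsoHS (Mloc S F ⧸ Wloc S F) ∧
      Nat.card (centralizer ({QuotientGroup.mk' (Wloc S F) ⟨F.z, S_le_M S F hA hS F.z_mem⟩} :
        Set (Mloc S F ⧸ Wloc S F))) = 7680 := by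
  haveI := Wloc_normal S F
  haveI : Fact (Nat.Prime 2) := ⟨Nat.prime_two⟩
  have hT := hA _ _ F
  set M := Mloc S F
  set W := coreClosure F.subV
  have hWodd := odd_W S F hA hS
  have hWM : W ≤ M := le_normalizer
  have hSM := S_le_M S F hA hS
  let π := QuotientGroup.mk' (Wloc S F)
  have hπ : Function.Surjective π := QuotientGroup.mk'_surjective _
  have hπ1 : ∀ x : M, π x = 1 ↔ (x : G) ∈ W := fun x => QuotientGroup.eq_one_iff x
  have hπeq : ∀ x y : M, π x = π y ↔ (x : G) * (y : G)⁻¹ ∈ W := fun x y => by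
    rw [← mul_inv_eq_one, ← map_inv, ← map_mul, hπ1]; rfl
  let img : Subgroup G → Subgroup (M ⧸ Wloc S F) := fun X => (X.subgroupOf M).map π
  have mem_img : ∀ {X : Subgroup G} {q}, q ∈ img X ↔ ∃ x : M, (x : G) ∈ X ∧ π x = q := fun {X q} => Iff.rfl
  -- subgroups of the Sylow subgroup map injectively
  have hinj : ∀ {x y : M}, (x : G) ∈ (S : Subgroup G) → (y : G) ∈ (S : Subgroup G) → π x = π y → x = y := by
    intro x y hx hy e
    refine Subtype.ext (mul_inv_eq_one.1 (eq_one_of_pGroup_odd S.2 hWodd ?_ ((hπeq x y).1 e)))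
    exact mul_mem hx (inv_mem hy)
  let emb : ∀ X : Subgroup G, X ≤ (S : Subgroup G) → (X ≃* img X) := fun X hX =>
    (subgroupOfEquivOfLe (hX.trans hSM)).symm.trans
      (MulEquiv.ofBijective ((π.comp (X.subgroupOf M).subtype).codRestrict (img X)
        fun x => ⟨x, x.2, rfl⟩) ⟨fun a b e => Subtype.ext (hinj (hX a.2) (hX b.2) (congrArg Subtype.val e)),
          fun q => by obtain ⟨_, x, hx, rfl⟩ := q; exact ⟨⟨x, hx⟩, rfl⟩⟩)
  -- the Frattini argument
  have frat : ∀ (X : Subgroup G), X ≤ (S : Subgroup G) → ∀ x : M,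
      (∀ p : M, (p : G) ∈ X → ∃ p' : M, (p' : G) ∈ X ∧ π (x * p * x⁻¹) = π p') →
      ∃ n ∈ normalizer (X : Set G), ∃ hn : n ∈ M, π x = π ⟨n, hn⟩ := by
    intro X hX x h
    obtain ⟨o, ho, n, hn, e⟩ := exists_normalizer_mul hWodd (S.2.to_le hX) (hX.trans hSM) x.2
      fun p hp => by
        obtain ⟨p', hp', e⟩ := h ⟨p, hSM (hX hp)⟩ hp
        have := mul_mem (mem_sup_left ((hπeq _ _).1 e) : _ ∈ W ⊔ X) (mem_sup_right hp')
        rwa [inv_mul_cancel_right] at this
    have hnM : n ∈ M := by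
      rw [show n = o⁻¹ * (x : G) by rw [e, inv_mul_cancel_left]]
      exact mul_mem (inv_mem (hWM ho)) x.2
    exact ⟨n, hn, hnM, (hπeq _ _).2 (by rw [e]; simpa using ho)⟩
  let zM : M := ⟨F.z, hSM F.z_mem⟩
  have hzo : orderOf (π zM) = 2 := by
    refine Invol.invol_of_mul_self ?_ fun e => F.z_ne_one ?_
    · rw [← map_mul, hπ1]
      show F.z * F.z ∈ W
      rw [F.z_sq]; exact one_mem _
    · exact eq_one_of_pGroup_odd S.2 hWodd F.z_mem ((hπ1 zM).1 e)
  set Hq := centralizer ({π zM} : Set (M ⧸ Wloc S F))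
  have hRS : F.subR ≤ (S : Subgroup G) := F.sub_le _
  have hAS : F.subA ≤ (S : Subgroup G) := F.sub_le _
  have hVS : F.subV ≤ (S : Subgroup G) := F.sub_le _
  -- the centralizer of the image of the involution
  let ψ : normalizer (F.subR : Set G) →* Hq :=
    (π.comp (inclusion ((normalizer_R_le_H S F hA hS).trans (centralizer_z_le_W S F hA hS)))).codRestrict Hq
      fun n => mem_centralizer_singleton_iff.2 (by
        show π _ * π zM = π zM * π _
        rw [← map_mul, ← map_mul]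
        exact congrArg π (Subtype.ext (mem_centralizer_singleton_iff.1 (normalizer_R_le_H S F hA hS n.2))))
  have hψ : Function.Surjective ψ := by
    rintro ⟨q, hq⟩
    obtain ⟨x, rfl⟩ := hπ q
    rw [mem_centralizer_singleton_iff] at hq
    obtain ⟨n, hn, hnM, e⟩ := frat (zpowers F.z) (zpowers_le.2 F.z_mem) x fun p hp => ⟨p, hp, by
      obtain ⟨j, hj⟩ := mem_zpowers_iff.1 hp
      rw [show p = zM ^ j from Subtype.ext (by simpa [zM] using hj.symm), map_mul, map_mul, map_inv,
        map_zpow]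
      exact mul_inv_eq_iff_eq_mul.2 ((show Commute (π x) (π zM) from hq).zpow_right j).eq⟩
    have hnz : n ∈ centralizer ({F.z} : Set G) := by
      obtain ⟨j, hj⟩ := mem_zpowers_iff.1 ((mem_normalizer_iff.1 hn F.z).1 (mem_zpowers _))
      rw [mem_centralizer_singleton_iff, ← mul_inv_eq_iff_eq_mul, ← hj]
      rcases Int.even_or_odd' j with ⟨i, rfl | rfl⟩
      · exfalso
        rw [zpow_mul, zpow_two, F.z_sq, one_zpow] at hj
        exact F.z_ne_one (conj_eq_one_iff.1 hj.symm)
      · rw [zpow_add, zpow_mul, zpow_two, F.z_sq, one_zpow, one_mul, zpow_one]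
    obtain ⟨o, ho, n', hn', e'⟩ := exists_core_mul_R S F hA hS hnz
    refine ⟨⟨n', hn'⟩, Subtype.ext (e.trans ((hπeq _ _).2 ?_)).symm⟩
    show n * n'⁻¹ ∈ W
    rw [e', mul_inv_cancel_right]
    exact core_le_W S F hA hS ho
  have hψ1 : ∀ n, ψ n = 1 ↔ (n : G) ∈ W := fun n =>
    ⟨fun h => (hπ1 _).1 (congrArg Subtype.val h), fun h => Subtype.ext ((hπ1 _).2 h)⟩
  have hker : ψ.ker ≤ (F.act hT hS).rangeRestrict.ker := fun n hn => by
    rw [MonoidHom.ker_rangeRestrict, MonoidHom.mem_ker]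
    refine act_eq_one_of_core S F hA hS ?_
    rw [← W_inf_H S F hA hS]
    exact ⟨(hψ1 n).1 hn, normalizer_R_le_H S F hA hS n.2⟩
  let f : Hq →* spGrp S F hA hS := ψ.liftOfSurjective hψ ⟨(F.act hT hS).rangeRestrict, hker⟩
  have hf : ∀ n, f (ψ n) = (F.act hT hS).rangeRestrict n := fun n =>
    MonoidHom.liftOfRightInverse_comp_apply _ _ _ _ n
  have hfs : Function.Surjective f := fun g => by
    obtain ⟨n, rfl⟩ := MonoidHom.rangeRestrict_surjective _ g
    exact ⟨_, hf n⟩
  set Rb := img F.subR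
  have hfk : f.ker = Rb.subgroupOf Hq := by
    ext q
    obtain ⟨n, rfl⟩ := hψ q
    rw [MonoidHom.mem_ker, hf, mem_subgroupOf]
    refine Subtype.ext_iff.trans (?_ : F.act hT hS n = 1 ↔ _)
    refine ⟨fun h => ?_, fun h => ?_⟩
    · obtain ⟨r, hr, o, ho, e⟩ := exists_mul_core_of_act S F hA hS h
      refine mem_img.2 ⟨⟨r, hSM (hRS hr)⟩, hr, (hπeq _ _).2 ?_⟩
      show r * (n : G)⁻¹ ∈ W
      rw [e, _root_.mul_inv_rev, ← mul_assoc]
      exact (mem_normalizer_iff.1 (hSM (hRS hr)) _).1 (inv_mem (core_le_W S F hA hS ho))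
    · obtain ⟨r, hr, e⟩ := mem_img.1 h
      let rN : normalizer (F.subR : Set G) := ⟨r, le_normalizer hr⟩
      have h1 : (n : G) * (r : G)⁻¹ ∈ W := (hπeq _ _).1 e.symm
      have h2 := act_eq_one_of_core S F hA hS (n := n * rN⁻¹) (by
        rw [← W_inf_H S F hA hS]
        exact ⟨h1, normalizer_R_le_H S F hA hS (n * rN⁻¹).2⟩)
      rwa [map_mul, map_inv, F.act_eq_one_of_mem hT hS (n := rN) hr, inv_one, mul_one] at h2
  have hR2 : IsPGroup 2 Rb := ((S.2.to_le hRS).of_equiv (emb _ hRS))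
  have hRH : Rb ≤ Hq := by
    rintro q hq
    obtain ⟨r, hr, rfl⟩ := mem_img.1 hq
    exact (ψ ⟨r, le_normalizer hr⟩).2
  obtain ⟨e5⟩ := spGrp_equiv S F hA hS
  have hcoreH : Cfsg.pCore 2 Hq = f.ker := by
    refine pCore_eq_ker f hfs (hfk ▸ hR2.comap_of_injective Hq.subtype Hq.subtype_injective) ?_
    intro N hN h2
    have := perm_five_eq_bot (N.map e5.toMonoidHom) (hN.map _ e5.surjective) (h2.map _)
    exact (map_eq_bot_iff_of_injective N e5.injective).1 this
  -- the normalizer of the image of `V`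
  set Vb := img F.subV
  set Mq := normalizer (Vb : Set (M ⧸ Wloc S F))
  have hVn := normalizer_V_le_M S F hA hS
  let φ : normalizer (F.subV : Set G) →* Mq :=
    (π.comp (inclusion hVn)).codRestrict Mq fun n =>
      Invol.mem_normalizer_iff_of_finite fun q hq => by
        obtain ⟨v, hv, rfl⟩ := mem_img.1 hq
        refine mem_img.2 ⟨inclusion hVn n * v * (inclusion hVn n)⁻¹,
          (mem_normalizer_iff.1 n.2 _).1 hv, ?_⟩
        rw [map_mul, map_mul, map_inv]
        rfl
  have hφ : Function.Surjective φ := by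
    rintro ⟨q, hq⟩
    obtain ⟨x, rfl⟩ := hπ q
    obtain ⟨n, hn, hnM, e⟩ := frat F.subV hVS x fun p hp => by
      obtain ⟨p', hp', e⟩ := mem_img.1 ((mem_normalizer_iff.1 hq (π p)).1 (mem_img.2 ⟨p, hp, rfl⟩))
      exact ⟨p', hp', by rw [map_mul, map_mul, map_inv, e]⟩
    exact ⟨⟨n, hn⟩, Subtype.ext e.symm⟩
  let ν : normalizer (F.subV : Set G) →* MulAut F.subV := F.subV.normalizerMonoidHom
  have hνs : Function.Surjective ν := (normalizer_V S F hT (hcand_of hA S F)).1
  have hν1 : ∀ n, ν n = 1 ↔ ∀ v ∈ F.subV, (n : G) * v * (n : G)⁻¹ = v := fun n =>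
    ⟨fun h v hv => congrArg Subtype.val (MulEquiv.congr_fun h ⟨v, hv⟩),
      fun h => MulEquiv.ext fun v => Subtype.ext (h v v.2)⟩
  have hkerV : φ.ker ≤ ν.ker := fun n hn => by
    have hnW : (n : G) ∈ W := (hπ1 _).1 (congrArg Subtype.val hn)
    refine (hν1 n).2 fun v hv => mul_inv_eq_one.1 (eq_one_of_pGroup_odd (S.2.to_le hVS) hWodd
      (mul_mem ((mem_normalizer_iff.1 n.2 v).1 hv) (inv_mem hv)) ?_)
    have h2 := (mem_normalizer_iff.1 (hSM (hVS hv)) _).1 (inv_mem hnW)
    have := mul_mem hnW h2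
    simpa [mul_assoc] using this
  let g : Mq →* MulAut F.subV := φ.liftOfSurjective hφ ⟨ν, hkerV⟩
  have hg : ∀ n, g (φ n) = ν n := fun n => MonoidHom.liftOfRightInverse_comp_apply _ _ _ _ n
  have hgs : Function.Surjective g := fun α => by
    obtain ⟨n, rfl⟩ := hνs α
    exact ⟨_, hg n⟩
  set Ab := img F.subA
  have hgk : g.ker = Ab.subgroupOf Mq := by
    ext q
    obtain ⟨n, rfl⟩ := hφ q
    rw [MonoidHom.mem_ker, hg, hν1, mem_subgroupOf]
    refine ⟨fun h => ?_, fun h => ?_⟩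
    · have hn : (n : G) ∈ centralizer (F.subV : Set G) :=
        mem_centralizer_iff.2 fun v hv => (mul_inv_eq_iff_eq_mul.1 (h v hv)).symm
      have := centralizer_V_le S F hA hS hn
      rw [← SetLike.mem_coe, coe_mul_of_right_le_normalizer_left _ _ (hAS.trans hSM)] at this
      obtain ⟨w, hw, a, ha, e⟩ := this
      refine mem_img.2 ⟨⟨a, hSM (hAS ha)⟩, ha, (hπeq _ _).2 ?_⟩
      show a * (n : G)⁻¹ ∈ W
      rw [← e, _root_.mul_inv_rev, mul_inv_cancel_left]
      exact inv_mem hw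
    · obtain ⟨a, ha, e⟩ := mem_img.1 h
      have haN : (a : G) ∈ normalizer (F.subV : Set G) :=
        Subgroup.mem_normalizer_fintype fun v hv => hT.conj_V _ (hAS ha) v hv
      have h1 : φ ⟨a, haN⟩ = φ n := Subtype.ext e
      have hkn := congrArg g h1
      rw [hg, hg] at hkn
      intro v hv
      have := congrArg Subtype.val (MulEquiv.congr_fun hkn ⟨v, hv⟩)
      change (a : G) * v * (a : G)⁻¹ = n * v * (n : G)⁻¹ at this
      rw [← this, hT.A_comm _ ha _ (hT.V_le_A hv), mul_inv_cancel_right]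
  have hA2 : IsPGroup 2 Ab := (S.2.to_le hAS).of_equiv (emb _ hAS)
  have hAM : Ab ≤ Mq := by
    rintro q hq
    obtain ⟨a, ha, rfl⟩ := mem_img.1 hq
    exact (φ ⟨a, Subgroup.mem_normalizer_fintype fun v hv => hT.conj_V _ (hAS ha) v hv⟩).2
  have hcoreM : Cfsg.pCore 2 Mq = g.ker := by
    refine pCore_eq_ker g hgs (hgk ▸ hA2.comap_of_injective Mq.subtype Mq.subtype_injective) ?_
    intro N hN h2
    -- a normal subgroup of two-power order fixes a point, hence all
    haveI : N.Normal := hN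
    refine (eq_bot_iff_forall N).2 fun β hβ => ?_
    haveI : Fintype F.subV := Fintype.ofFinite _
    obtain ⟨v, hv, hv1⟩ : ∃ v ∈ MulAction.fixedPoints N F.subV, (1 : F.subV) ≠ v :=
      h2.exists_fixed_point_of_prime_dvd_card_of_fixed_point F.subV
        (by rw [hT.card_V]; norm_num) (a := 1) fun β => map_one (β : MulAut F.subV)
    have hv1' : (v : G) ≠ 1 := fun e => hv1 (Subtype.ext e.symm)
    obtain ⟨m, hm, hmv⟩ := (normalizer_V S F hT (hcand_of hA S F)).2 v v.2 hv1'
    refine MulEquiv.ext fun x => ?_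
    by_cases hx1 : (x : G) = 1
    · rw [show x = 1 from Subtype.ext hx1, map_one, map_one]
    obtain ⟨k, hk, hkx⟩ := (normalizer_V S F hT (hcand_of hA S F)).2 x x.2 hx1
    set γ := ν (⟨k, hk⟩ * ⟨m, hm⟩⁻¹)
    have hγ : γ v = x := Subtype.ext (by
      show k * m⁻¹ * (v : G) * (k * m⁻¹)⁻¹ = x
      rw [← hmv, ← hkx]; group)
    have := hv ⟨γ⁻¹ * β * γ, by
      have := hN.conj_mem β hβ γ⁻¹
      rwa [inv_inv] at this⟩
    change (γ⁻¹ * β * γ) v = v at this
    rw [MulAut.mul_apply, MulAut.mul_apply, hγ] at this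
    have h' := congrArg γ this
    rw [MulAut.apply_inv_self, hγ] at h'
    exact h'
  obtain ⟨E, hER, hEx, hE32, hsup, hinf⟩ := hT.extraspecial
  have hES : E ≤ (S : Subgroup G) := hER.trans hRS
  have hCS : F.subC ≤ (S : Subgroup G) := F.sub_le _
  have himono : ∀ {X Y : Subgroup G}, X ≤ Y → img X ≤ img Y := fun h => map_mono (comap_mono h)
  obtain ⟨eGL⟩ := exists_mulAut_equiv_gl_three (P := F.subV) (fun a b => Subtype.ext (hT.V_comm a a.2 b b.2))
    (fun a => Subtype.ext (by simpa using hT.V_sq a a.2)) hT.card_V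
  refine ⟨hrec _ (π zM) hzo Hq rfl Rb ?hR (img F.subC) (img E) ?hCy
    ((Nat.card_congr (emb _ hCS).toEquiv).symm.trans hT.card_C) ?hCle (himono hER)
    (PLocal.LargeExtra.isExtraspecial_equiv (emb _ hES) hEx)
    ((Nat.card_congr (emb _ hES).toEquiv).symm.trans hE32) ?hsup ?hinf
    ((QuotientGroup.quotientMulEquivOfEq hcoreH).trans
      ((QuotientGroup.quotientKerEquivOfSurjective f hfs).trans e5))
    Vb ?hVc ?hVe ((Nat.card_congr (emb _ hVS).toEquiv).symm.trans hT.card_V) (himono hT.V_le_R) Mq rfl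
    ?eA ((QuotientGroup.quotientMulEquivOfEq hcoreM).trans
      ((QuotientGroup.quotientKerEquivOfSurjective g hgs).trans eGL)), ?card⟩
  case card =>
    show Nat.card Hq = 7680
    rw [← card_mul_index f.ker, index_ker, MonoidHom.range_eq_top.2 hfs, card_top, Nat.card_congr e5.toEquiv,
      Nat.card_perm, Nat.card_fin, hfk, Nat.card_congr (subgroupOfEquivOfLe hRH).toEquiv,
      ← Nat.card_congr (emb _ hRS).toEquiv, hT.card_R]
    rfl
  case hR => rw [hcoreH, hfk, map_subgroupOf_eq_of_le hRH]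
  case hCy =>
    haveI := hT.C_cyclic
    exact isCyclic_of_surjective _ (emb _ hCS).surjective
  case hCle =>
    refine le_inf (himono hT.C_le_R) fun q hq => mem_centralizer_iff.2 fun q' hq' => ?_
    obtain ⟨c, hc, rfl⟩ := mem_img.1 hq
    obtain ⟨r, hr, rfl⟩ := mem_img.1 hq'
    rw [← map_mul, ← map_mul]
    exact congrArg π (Subtype.ext (hT.C_central _ hc _ hr).symm)
  case hsup =>
    show _ = img F.subR
    rw [← hsup]
    show (F.subC.subgroupOf M).map π ⊔ _ = _
    rw [← Subgroup.map_sup, ← subgroupOf_sup (hCS.trans hSM) (hES.trans hSM)]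
  case hinf =>
    ext q
    simp only [mem_inf, mem_centralizer_iff]
    constructor
    · rintro ⟨hqc, he⟩
      refine ⟨he, ?_⟩
      obtain ⟨c, hc', hπc⟩ := mem_img.1 hqc
      rintro q' hq'
      obtain ⟨x, hx, rfl⟩ := mem_img.1 hq'
      rw [← hπc, ← map_mul, ← map_mul]
      exact congrArg π (Subtype.ext (hT.C_central _ hc' _ (hER hx)).symm)
    · rintro ⟨he, hcomm⟩
      refine ⟨?_, he⟩
      obtain ⟨x, hx, rfl⟩ := mem_img.1 he
      have : (x : G) ∈ F.subC ⊓ E := hinf ▸ ⟨hx, mem_centralizer_iff.2 fun y hy => by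
        have h := hcomm (π ⟨y, hSM (hES hy)⟩) (mem_img.2 ⟨_, hy, rfl⟩)
        rw [← map_mul, ← map_mul] at h
        exact congrArg Subtype.val (hinj (mul_mem (hES hy) (hES hx)) (mul_mem (hES hx) (hES hy)) h)⟩
      exact mem_img.2 ⟨x, this.1, rfl⟩
  case hVc =>
    refine ⟨⟨fun a b => ?_⟩⟩
    obtain ⟨_, x, hx, rfl⟩ := a
    obtain ⟨_, y, hy, rfl⟩ := b
    refine Subtype.ext ?_
    show π x * π y = π y * π x
    rw [← map_mul, ← map_mul]
    exact congrArg π (Subtype.ext (hT.V_comm _ hx _ hy))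
  case hVe =>
    intro q hq
    obtain ⟨v, hv, rfl⟩ := mem_img.1 hq
    rw [← map_pow, hπ1]
    show ((v : G) ^ 2) ∈ W
    rw [hT.V_sq _ hv]; exact one_mem _
  case eA =>
    exact (MulEquiv.subgroupCongr (hcoreM.trans hgk)).trans ((subgroupOfEquivOfLe hAM).trans
      ((emb _ hAS).symm.trans (Classical.choice hT.A_equiv)))

end CfsgLib.SylHS
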