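import Cfsg.Agent.Lib.SylAltEight.Criterion
import Cfsg.Agent.Lib.Comp.Subnormal

/-!
Centralizers factorising over the normalizer of an elementary abelian subgroup of rank three give a
balanced functor, hence a proper subgroup containing all of them.
-/

set_option autoImplicit false
set_option linter.style.haveILetI false

namespace CfsgLib.SylHS

open Subgroup CfsgLib.SylAltEight

universe u

variable {G : Type u} [Group G] [Finite G]

theorem odd_sup {H K : Subgroup G} (h : K ≤ normalizer (H : Set G)) (hH : Odd (Nat.card H))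
    (hK : Odd (Nat.card K)) : Odd (Nat.card ↥(H ⊔ K)) :=
  haveI : Fact (Nat.Prime 2) := ⟨Nat.prime_two⟩
  Nat.coprime_two_right.1 (Comp.coprime_card_sup h (Nat.coprime_two_right.2 hH)
    (Nat.coprime_two_right.2 hK))

/-- If every centralizer of an involution of `V` is the core times a part normalizing `V`, the
cores form a balanced functor. -/
theorem balanced_of_factor {V : Subgroup G} (hc : ∀ a ∈ V, ∀ b ∈ V, a * b = b * a)
    (he : ∀ a ∈ V, a ^ 2 = 1)
    (hfac : ∀ v ∈ V, v ≠ 1 → ∀ x ∈ centralizer ({v} : Set G),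
      ∃ o ∈ Cfsg.centralizerPPrimeCore 2 v, ∃ n ∈ normalizer (V : Set G), x = o * n) :
    Balanced V := by
  haveI : Fact (Nat.Prime 2) := ⟨Nat.prime_two⟩
  intro v hv hv1 w hw hw1
  have hV2 : IsPGroup 2 V := fun a => ⟨1, Subtype.ext (by simpa using he a a.2)⟩
  have hVC : ∀ a ∈ V, V ≤ centralizer ({a} : Set G) := fun a ha b hb =>
    mem_centralizer_singleton_iff.2 (hc b hb a ha)
  set X := Cfsg.centralizerPPrimeCore 2 v ⊓ centralizer ({w} : Set G) with hX
  set O := Cfsg.centralizerPPrimeCore 2 w with hO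
  have hXC : X ≤ centralizer ({w} : Set G) := inf_le_right
  have hXodd : Odd (Nat.card X) := (odd_core v).of_dvd_nat (card_dvd_of_le inf_le_left)
  have hOn : ∀ g ∈ centralizer ({w} : Set G), g ∈ normalizer (O : Set G) := fun g hg =>
    Invol.mem_normalizer_iff_of_finite fun x hx => core_conj_self hg hx
  -- the group generated by both cores
  set Y := O ⊔ X with hY
  have hYodd : Odd (Nat.card Y) := odd_sup (fun g hg => hOn g (hXC hg)) (odd_core w) hXodd
  have hYC : Y ≤ centralizer ({w} : Set G) := sup_le (core_le w) hXC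
  have hjoint : ∀ g ∈ centralizer ({v} : Set G), g ∈ centralizer ({w} : Set G) →
      ∀ y ∈ Y, g * y * g⁻¹ ∈ Y := by
    intro g hgv hgw
    have hle : Y ≤ Y.comap (MulAut.conj g).toMonoidHom := by
      refine sup_le (fun y hy => mem_sup_left (core_conj_self hgw hy)) fun y hy => mem_sup_right ?_
      exact ⟨core_conj_self hgv hy.1, Subgroup.mul_mem _ (Subgroup.mul_mem _ hgw hy.2) (Subgroup.inv_mem _ hgw)⟩
    exact fun y hy => hle hy
  -- the odd core of the centralizer of `V`
  set CV := centralizer (V : Set G) with hCV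
  have hCVw : CV ≤ centralizer ({w} : Set G) := fun g hg =>
    mem_centralizer_singleton_iff.2 (mem_centralizer_iff.1 hg w hw).symm
  have hCVv : CV ≤ centralizer ({v} : Set G) := fun g hg =>
    mem_centralizer_singleton_iff.2 (mem_centralizer_iff.1 hg v hv).symm
  set K := (Cfsg.oddCore CV).map CV.subtype with hK
  have hKodd : Odd (Nat.card K) := by
    rw [hK, card_map_of_injective CV.subtype_injective]
    exact Invol.odd_card_oddCore CV
  have hKCV : K ≤ CV := map_subtype_le _
  have hKn : normalizer (V : Set G) ≤ normalizer (K : Set G) := by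
    intro g hg
    refine Invol.mem_normalizer_iff_of_finite fun x hx => ?_
    obtain ⟨y, hy, rfl⟩ := hx
    have hgC : ∀ c ∈ CV, g * c * g⁻¹ ∈ CV := fun c hc' => mem_centralizer_iff.2 fun a ha => by
      have ha' : g⁻¹ * a * g ∈ V := by
        have := (mem_normalizer_iff.1 (inv_mem hg) a).1 ha
        rwa [inv_inv] at this
      calc a * (g * c * g⁻¹) = g * ((g⁻¹ * a * g) * c) * g⁻¹ := by group
        _ = g * (c * (g⁻¹ * a * g)) * g⁻¹ := by rw [mem_centralizer_iff.1 hc' _ ha']
        _ = g * c * g⁻¹ * a := by group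
    have hgN : g ∈ normalizer (CV : Set G) :=
      Invol.mem_normalizer_iff_of_finite fun c hc' => hgC c hc'
    obtain ⟨z, hz, hzy⟩ : ∃ z ∈ Cfsg.oddCore CV, (z : G) = g * y * g⁻¹ := by
      refine ⟨(CV.normalizerMonoidHom ⟨g, hgN⟩) y, ?_, rfl⟩
      have := Solvable.map_pPrimeCore_equiv (CV.normalizerMonoidHom ⟨g, hgN⟩) 2
      rw [← show (Cfsg.pPrimeCore 2 CV) = Cfsg.oddCore CV from rfl] at hy ⊢
      rw [← this]
      exact mem_map_of_mem _ hy
    exact ⟨z, hz, hzy⟩
  have hKO : K ≤ O := by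
    have hKC : K ≤ centralizer ({w} : Set G) := hKCV.trans hCVw
    refine le_sup_right.trans (le_core (sup_le (core_le w) hKC) (fun g hg => ?_)
      (odd_sup (fun k hk => hOn k (hKC hk)) (odd_core w) hKodd))
    obtain ⟨o, ho, n, hn, rfl⟩ := hfac w hw hw1 g hg
    refine mul_mem (le_normalizer (mem_sup_left ho)) ?_
    have hnw : n ∈ centralizer ({w} : Set G) := by
      have := mul_mem (inv_mem (core_le w ho)) hg
      rwa [inv_mul_cancel_left] at this
    refine Invol.mem_normalizer_iff_of_finite fun x hx => ?_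
    have hle : O ⊔ K ≤ (O ⊔ K).comap (MulAut.conj n).toMonoidHom :=
      sup_le (fun y hy => mem_sup_left (core_conj_self hnw hy))
        fun y hy => mem_sup_right ((mem_normalizer_iff.1 (hKn hn) y).1 hy)
    exact hle hx
  intro x hx
  obtain ⟨o, ho, n, hn, rfl⟩ := hfac w hw hw1 x hx.2
  have hnY : n ∈ Y := by
    have := mul_mem (inv_mem (mem_sup_left ho : o ∈ Y)) (mem_sup_right hx : o * n ∈ Y)
    rwa [inv_mul_cancel_left] at this
  have hnCV : n ∈ CV := mem_centralizer_iff.2 fun a ha => by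
    have h1 : n * a * n⁻¹ * a⁻¹ ∈ V :=
      mul_mem ((mem_normalizer_iff.1 hn a).1 ha) (inv_mem ha)
    have h2 : n * a * n⁻¹ * a⁻¹ ∈ Y := by
      have := mul_mem hnY (hjoint a (hVC v hv ha) (hVC w hw ha) _ (inv_mem hnY))
      simpa [mul_assoc] using this
    have h3 := eq_one_of_pGroup_odd hV2 hYodd h1 h2
    calc a * n = (n * a * n⁻¹ * a⁻¹) * a * n := by rw [h3, one_mul]
      _ = n * a := by group
  -- a normal subgroup of odd order of the centralizer of `V`
  have hLK : Y ⊓ CV ≤ K := by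
    rw [hK, ← map_subgroupOf_eq_of_le (inf_le_right : Y ⊓ CV ≤ CV)]
    refine map_mono (Invol.le_oddCore ⟨fun y hy g => ?_⟩ ?_)
    · exact ⟨hjoint g (hCVv g.2) (hCVw g.2) y hy.1, Subgroup.mul_mem _ (Subgroup.mul_mem _ g.2 hy.2) (Subgroup.inv_mem _ g.2)⟩
    · rw [Nat.card_congr (subgroupOfEquivOfLe inf_le_right).toEquiv]
      exact hYodd.of_dvd_nat (card_dvd_of_le inf_le_left)
  exact mul_mem ho (hKO (hLK ⟨hnY, hnCV⟩))

/-- The normalizer of `V` and the centralizers of its involutions lie in a proper subgroup. -/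
theorem exists_proper [IsSimpleGroup G] {V : Subgroup G} (hc : ∀ a ∈ V, ∀ b ∈ V, a * b = b * a)
    (he : ∀ a ∈ V, a ^ 2 = 1) (h8 : 2 ^ 3 ≤ Nat.card V) (hne : V ≠ ⊤)
    (hfac : ∀ v ∈ V, v ≠ 1 → ∀ x ∈ centralizer ({v} : Set G),
      ∃ o ∈ Cfsg.centralizerPPrimeCore 2 v, ∃ n ∈ normalizer (V : Set G), x = o * n) :
    ∃ M : Subgroup G, M ≠ ⊤ ∧ normalizer (V : Set G) ≤ M ∧
      ∀ v ∈ V, v ≠ 1 → centralizer ({v} : Set G) ≤ M := by
  haveI : Fact (Nat.Prime 2) := ⟨Nat.prime_two⟩
  refine ⟨normalizer (V : Set G) ⊔ coreClosure V, fun htop => ?_, le_sup_left, fun v hv hv1 x hx => ?_⟩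
  · have hodd := odd_coreClosure hc he h8 (balanced_of_factor hc he hfac)
    have hW : (coreClosure V).Normal := by
      rw [← normalizer_eq_top_iff, eq_top_iff, ← htop]
      exact sup_le (normalizer_le_normalizer_coreClosure V) le_normalizer
    rcases hW.eq_bot_or_eq_top with h | h
    · rw [h, sup_bot_eq] at htop
      rcases (normalizer_eq_top_iff.1 htop).eq_bot_or_eq_top with h' | h'
      · rw [h', card_bot] at h8
        norm_num at h8
      · exact hne h'
    · rw [h, card_top] at hodd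
      refine Nat.not_even_iff_odd.2 hodd (even_iff_two_dvd.2 ?_)
      obtain ⟨k, hk⟩ := IsPGroup.iff_card.1
        (show IsPGroup 2 V from fun a => ⟨1, Subtype.ext (by simpa using he a a.2)⟩)
      rw [hk] at h8
      exact ((hk ▸ dvd_pow_self 2 (by rintro rfl; norm_num at h8) : 2 ∣ Nat.card V)).trans
        (card_subgroup_dvd_card V)
  · obtain ⟨o, ho, n, hn, rfl⟩ := hfac v hv hv1 x hx
    exact mul_mem (mem_sup_right (core_le_closure hv hv1 ho)) (mem_sup_left hn)

end CfsgLib.SylHS
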