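import Cfsg.Agent.Lib.SylHS.SpDefs

/-!
The finite checks on the symplectic maps.
-/

set_option autoImplicit false
set_option maxRecDepth 100000

namespace CfsgLib.SylHS.SpFour

theorem cover : (spList.all fun g => force g fun g => has (five0.map Prod.fst) g || has (five1.map Prod.fst) g ||
    bad.any fun e => Nat.beq e.1 g) = true := by decide +kernel

theorem bad_ok : (bad.all fun e => enlarges e.1 e.2) = true := by decide +kernel

/-- A slice of the multiplication check. -/
def homSlice (L : List (ℕ × ℕ)) (k : ℕ) : Bool :=
  ((L.drop (30 * k)).take 30).all fun p => L.all fun q =>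
    force (comp p.1 q.1) fun a => force (comp5 p.2 q.2) fun b =>
      L.any fun r => Nat.beq r.1 a && Nat.beq r.2 b

theorem hom0_0 : homSlice five0 0 = true := by decide +kernel

theorem hom0_1 : homSlice five0 1 = true := by decide +kernel

theorem hom0_2 : homSlice five0 2 = true := by decide +kernel

theorem hom0_3 : homSlice five0 3 = true := by decide +kernel

theorem hom1_0 : homSlice five1 0 = true := by decide +kernel

theorem hom1_1 : homSlice five1 1 = true := by decide +kernel

theorem hom1_2 : homSlice five1 2 = true := by decide +kernel

theorem hom1_3 : homSlice five1 3 = true := by decide +kernel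

theorem five_meet : (five0.all fun p => five1.all fun q =>
    !Nat.beq p.1 q.1 || has h4 p.1) = true := by decide +kernel

theorem h4_mem : (h4.all fun h => has (five0.map Prod.fst) h && has (five1.map Prod.fst) h) = true := by
  decide +kernel

theorem five_free : ([five0, five1].all fun L => L.all fun p =>
    let x4 := comp (comp p.1 p.1) (comp p.1 p.1)
    Nat.beq x4 idc || (List.range 16).all fun v => Nat.beq v 0 || !Nat.beq (app p.1 v) v) = true := by
  decide +kernel

theorem five_centralizer : ([five0, five1].all fun L => L.all fun p => v4.all fun u =>
    Nat.beq u idc || !Nat.beq (comp p.1 u) (comp u p.1) ||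
      ((Nat.beq (comp (comp p.1 p.1) (comp p.1 p.1)) idc && !has v4 p.1 &&
          v4.all fun t => v4.any fun t' => Nat.beq (comp p.1 t) (comp t' p.1)) ||
        (List.range 16).all fun v => !Nat.beq (app u v) v || Nat.beq (app p.1 v) v)) = true := by
  decide +kernel

theorem t8_mem : (t8.all fun h => has h4 h) = true := by decide +kernel

theorem normal_three : (spList.all fun g => force g fun g =>
    Nat.beq g idc || !Nat.beq (comp (comp g g) g) idc ||
      ((!Nat.beq (comp g tau) (comp tau g) || !has h4 g) &&
        (!(v4.all fun t => force (comp g t) fun a => v4.any fun t' => Nat.beq a (comp t' g)) ||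
          h4.all fun h => has t8 h || t8.any fun t => t8.any fun t' =>
            Nat.beq h (comp (comp t g) t') || Nat.beq h (comp (comp t (comp g g)) t')))) = true := by
  decide +kernel

theorem v4_mem : (v4.all fun h => has t8 h) = true := by decide +kernel

theorem five_inj : ([five0, five1].all fun L => Nat.beq L.length 120 && L.all fun p => L.all fun q =>
    Nat.beq p.1 q.1 || !Nat.beq p.2 q.2) = true := by decide +kernel

theorem five_perm : ([five0, five1].all fun L => L.all fun p =>
    (List.range 5).all fun i => (List.range 5).any fun j => Nat.beq ((p.2 >>> (3 * j)) % 8) i) = true := by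
  decide +kernel

theorem five_nodup : ([five0, five1].all fun L => (List.range 120).all fun i => (List.range 120).all fun j =>
    Nat.beq i j || !Nat.beq (L.getD i (0, 0)).2 (L.getD j (0, 0)).2) = true := by decide +kernel

end CfsgLib.SylHS.SpFour
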