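import Cfsg.Agent.Lib.SylHS.SpChecks

/-!
Groups of symplectic permutations of sixteen points with the given dihedral Sylow subgroup and a
given normalizing element of order three.
-/

set_option autoImplicit false
set_option maxRecDepth 100000

namespace CfsgLib.SylHS.SpFour

attribute [local irreducible] t8 v4 tau h4 five0 five1 bad spList homSlice enlarges comp comp5 extend app encode idc word

theorem beq_iff {a b : ℕ} : Nat.beq a b = true ↔ a = b :=
  ⟨Nat.eq_of_beq_eq_true, fun h => h ▸ Nat.beq_refl a⟩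

theorem beq_false_iff {a b : ℕ} : Nat.beq a b = false ↔ a ≠ b := by
  rw [← Bool.not_eq_true, beq_iff]

theorem force_eq {α : Type} (n : ℕ) (f : ℕ → α) : force n f = f n := by
  cases n <;> rfl

theorem has_iff {l : List ℕ} {x : ℕ} : has l x = true ↔ x ∈ l := by
  simp [has, beq_iff]

/-- The code of the first values. -/
def encN (f : ℕ → ℕ) : ℕ → ℕ
  | 0 => 0
  | n + 1 => encN f n + f n * 16 ^ n

theorem foldl_eq_encN (f : ℕ → ℕ) (n : ℕ) :
    (List.range n).foldl (fun acc v => acc + (f v) <<< (4 * v)) 0 = encN f n := by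
  induction n with
  | zero => rfl
  | succ n ih =>
    rw [List.range_succ, List.foldl_append, ih, List.foldl_cons, List.foldl_nil, Nat.shiftLeft_eq,
      pow_mul, encN]
    rfl

theorem encN_spec {f : ℕ → ℕ} : ∀ n, (∀ v < n, f v < 16) →
    encN f n < 16 ^ n ∧ ∀ v < n, encN f n / 16 ^ v % 16 = f v
  | 0, _ => ⟨by simp [encN], fun v hv => absurd hv (Nat.not_lt_zero v)⟩
  | n + 1, hf => by
    obtain ⟨hlt, hdig⟩ := encN_spec n fun v hv => hf v (by omega)
    have hfn : f n < 16 := hf n (by omega)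
    have hp : 0 < 16 ^ n := pow_pos (by norm_num) n
    refine ⟨?_, fun v hv => ?_⟩
    · calc encN f (n + 1) = encN f n + f n * 16 ^ n := rfl
        _ < 16 ^ n + f n * 16 ^ n := Nat.add_lt_add_right hlt _
        _ = (f n + 1) * 16 ^ n := by rw [Nat.add_mul, one_mul, add_comm]
        _ ≤ 16 * 16 ^ n := Nat.mul_le_mul_right _ hfn
        _ = 16 ^ (n + 1) := (pow_succ' 16 n).symm
    · rw [show encN f (n + 1) = encN f n + f n * 16 ^ n from rfl]
      rcases Nat.lt_or_ge v n with h | h
      · have h16 : 16 ^ n = 16 ^ (n - v - 1) * 16 * 16 ^ v := by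
          rw [← pow_succ, ← pow_add]
          congr 1
          omega
        rw [h16, ← mul_assoc, ← mul_assoc, Nat.add_mul_div_right _ _ (pow_pos (by norm_num) v),
          Nat.add_mul_mod_self_right]
        exact hdig v h
      · have e : v = n := by omega
        rw [e, Nat.add_mul_div_right _ _ hp, Nat.div_eq_of_lt hlt, Nat.zero_add,
          Nat.mod_eq_of_lt hfn]

theorem encode_spec (f : ℕ → ℕ) (hf : ∀ v, v < 16 → f v < 16) {v : ℕ} (hv : v < 16) :
    app (encode f) v = f v := by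
  unfold app encode
  rw [foldl_eq_encN, Nat.shiftRight_eq_div_pow, pow_mul]
  exact (encN_spec 16 hf).2 v hv

theorem encode_congr {f g : ℕ → ℕ} (h : ∀ v < 16, f v = g v) : encode f = encode g := by
  unfold encode
  exact List.foldl_ext _ _ _ fun acc v hv => by rw [h v (List.mem_range.1 hv)]

/-- The code of a permutation. -/
def cd (g : Equiv.Perm (Fin 16)) : ℕ := encode fun v => (g (Fin.ofNat 16 v)).val

theorem app_cd (g : Equiv.Perm (Fin 16)) (v : Fin 16) : app (cd g) v.val = (g v).val := by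
  rw [cd, encode_spec _ (fun v _ => (g _).isLt) v.isLt]
  congr 2
  exact Fin.ext (Nat.mod_eq_of_lt v.isLt)

theorem cd_inj {g h : Equiv.Perm (Fin 16)} (e : cd g = cd h) : g = h :=
  Equiv.ext fun v => Fin.ext (by rw [← app_cd, ← app_cd, e])

theorem cd_one : cd 1 = idc := by
  unfold cd idc
  exact encode_congr fun v hv => Nat.mod_eq_of_lt hv

theorem cd_mul (g h : Equiv.Perm (Fin 16)) : cd (g * h) = comp (cd g) (cd h) := by
  unfold comp
  rw [force_eq, force_eq]
  refine encode_congr fun v hv => ?_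
  show (g (h (Fin.ofNat 16 v))).val = _
  rw [show app (cd h) v = (h (Fin.ofNat 16 v)).val by
    conv_lhs => rw [show v = (Fin.ofNat 16 v).val from (Nat.mod_eq_of_lt hv).symm]
    exact app_cd h _, app_cd]

/-- Linearity and invariance of the form. -/
def IsSp (g : Equiv.Perm (Fin 16)) : Prop :=
  (∀ a b c : Fin 16, c.val = a.val ^^^ b.val → (g c).val = (g a).val ^^^ (g b).val) ∧
    ∀ a b : Fin 16, form (g a).val (g b).val = form a.val b.val

theorem mem_spList {g : Equiv.Perm (Fin 16)} (h : IsSp g) : cd g ∈ spList := by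
  have h0 : (g 0).val = 0 := by
    have := h.1 0 0 0 (by simp)
    rw [Nat.xor_self] at this
    exact this
  have hgen : cd g = extend (g 1).val (g 2).val (g 4).val (g 8).val := by
    unfold cd extend
    refine encode_congr fun v hv => ?_
    have e : ∀ (a b : Fin 16) (c : ℕ) (hc : c < 16), c = a.val ^^^ b.val →
        (g ⟨c, hc⟩).val = (g a).val ^^^ (g b).val := fun a b c hc he => h.1 a b ⟨c, hc⟩ he
    have e3 := e 1 2 3 (by norm_num) (by decide)
    have e5 := e 1 4 5 (by norm_num) (by decide)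
    have e6 := e 2 4 6 (by norm_num) (by decide)
    have e7 := e 3 4 7 (by norm_num) (by decide)
    have e9 := e 1 8 9 (by norm_num) (by decide)
    have e10 := e 2 8 10 (by norm_num) (by decide)
    have e11 := e 3 8 11 (by norm_num) (by decide)
    have e12 := e 4 8 12 (by norm_num) (by decide)
    have e13 := e 5 8 13 (by norm_num) (by decide)
    have e14 := e 6 8 14 (by norm_num) (by decide)
    have e15 := e 7 8 15 (by norm_num) (by decide)
    have hv' : (Fin.ofNat 16 v : Fin 16) = ⟨v, hv⟩ := Fin.ext (Nat.mod_eq_of_lt hv)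
    rw [hv']
    interval_cases v <;>
      first
        | (simpa [Nat.testBit_eq_decide_div_mod_eq] using h0)
        | (simp [Nat.testBit_eq_decide_div_mod_eq]; done)
        | (simp [Nat.testBit_eq_decide_div_mod_eq, e3, e5, e6, e7, e9, e10, e11, e12, e13, e14, e15] at *; done)
        | (rw [e3]; simp [Nat.testBit_eq_decide_div_mod_eq])
        | (rw [e5]; simp [Nat.testBit_eq_decide_div_mod_eq])
        | (rw [e6]; simp [Nat.testBit_eq_decide_div_mod_eq])
        | (rw [e7, show (3 : Fin 16) = ⟨3, by norm_num⟩ from rfl, e3]; simp [Nat.testBit_eq_decide_div_mod_eq])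
        | (rw [e9]; simp [Nat.testBit_eq_decide_div_mod_eq])
        | (rw [e10]; simp [Nat.testBit_eq_decide_div_mod_eq])
        | (rw [e11, show (3 : Fin 16) = ⟨3, by norm_num⟩ from rfl, e3]; simp [Nat.testBit_eq_decide_div_mod_eq])
        | (rw [e12]; simp [Nat.testBit_eq_decide_div_mod_eq])
        | (rw [e13, show (5 : Fin 16) = ⟨5, by norm_num⟩ from rfl, e5]; simp [Nat.testBit_eq_decide_div_mod_eq])
        | (rw [e14, show (6 : Fin 16) = ⟨6, by norm_num⟩ from rfl, e6]; simp [Nat.testBit_eq_decide_div_mod_eq])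
        | (rw [e15, show (7 : Fin 16) = ⟨7, by norm_num⟩ from rfl, e7, show (3 : Fin 16) = ⟨3, by norm_num⟩ from rfl, e3]; simp [Nat.testBit_eq_decide_div_mod_eq])
  rw [hgen]
  unfold spList
  simp only [List.mem_flatMap, List.mem_map, List.mem_filter, List.mem_range, Bool.and_eq_true,
    Bool.not_eq_true']
  refine ⟨_, (g 1).isLt, _, ⟨(g 2).isLt, ?_⟩, _, ⟨(g 4).isLt, ?_, ?_⟩, _, ⟨(g 8).isLt, ⟨?_, ?_⟩, ?_⟩, rfl⟩
    <;> rw [h.2] <;> rfl

theorem has_fst_iff {L : List (ℕ × ℕ)} {x : ℕ} : has (L.map Prod.fst) x = true ↔ ∃ p ∈ L, p.1 = x := by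
  rw [has_iff, List.mem_map]

variable {T : Subgroup (Equiv.Perm (Fin 16))}

/-- The subgroup of the coded dihedral group. -/
theorem exists_dihedral (h8 : ∀ c ∈ t8, ∃ g ∈ T, cd g = c) : ∃ P : Subgroup (Equiv.Perm (Fin 16)),
    P ≤ T ∧ (∀ g ∈ P, g ∈ T ∧ cd g ∈ t8) ∧ (∀ g, g ∈ T → cd g ∈ t8 → g ∈ P) ∧ Nat.card P = 8 := by
  let P : Subgroup (Equiv.Perm (Fin 16)) := Subgroup.closure {g | g ∈ T ∧ cd g ∈ t8}
  have hPset : ∀ g ∈ P, g ∈ T ∧ cd g ∈ t8 := by
    intro g hg
    induction hg using Subgroup.closure_induction with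
    | mem g hg => exact hg
    | one => exact ⟨T.one_mem, by rw [cd_one]; decide +kernel⟩
    | mul a b _ _ ha hb =>
      refine ⟨T.mul_mem ha.1 hb.1, ?_⟩
      rw [cd_mul]
      have hcl : (t8.all fun a => t8.all fun b => has t8 (comp a b)) = true := by decide +kernel
      exact has_iff.1 (List.all_eq_true.1 (List.all_eq_true.1 hcl _ ha.2) _ hb.2)
    | inv a _ ha =>
      refine ⟨T.inv_mem ha.1, ?_⟩
      have hcl : (t8.all fun a => t8.any fun b => Nat.beq (comp a b) idc) = true := by decide +kernel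
      obtain ⟨b, hb, hab⟩ := List.any_eq_true.1 (List.all_eq_true.1 hcl _ ha.2)
      obtain ⟨g, -, hg⟩ := h8 b hb
      rw [beq_iff, ← hg, ← cd_mul, ← cd_one] at hab
      rw [inv_eq_of_mul_eq_one_right (cd_inj hab), hg]
      exact hb
  have hP8 : ∀ g, g ∈ T → cd g ∈ t8 → g ∈ P := fun g h1 h2 => Subgroup.subset_closure ⟨h1, h2⟩
  let e8 : P → {c // c ∈ t8} := fun g => ⟨cd g, (hPset g g.2).2⟩
  have hcardP : Nat.card P = 8 := by
    rw [Nat.card_congr (Equiv.ofBijective e8 ⟨fun a b hab =>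
      Subtype.ext (cd_inj (congrArg Subtype.val hab)), fun c => by
        obtain ⟨g, hg, hgc⟩ := h8 c c.2
        exact ⟨⟨g, hP8 g hg (hgc ▸ c.2)⟩, Subtype.ext hgc⟩⟩)]
    rw [Nat.card_eq_fintype_card, Fintype.card_of_subtype t8.toFinset (by simp)]
    decide +kernel
  exact ⟨P, fun g hg => (hPset g hg).1, hPset, hP8, hcardP⟩

theorem exists_eight (h8 : ∀ c ∈ t8, ∃ g ∈ T, cd g = c) :
    ∃ P : Subgroup (Equiv.Perm (Fin 16)), P ≤ T ∧ Nat.card P = 8 := by
  obtain ⟨P, h, -, -, h'⟩ := exists_dihedral h8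
  exact ⟨P, h, h'⟩

theorem five_mul {k : Bool} {p q : ℕ × ℕ} (hp : p ∈ five k) (hq : q ∈ five k) :
    ∃ r ∈ five k, r.1 = comp p.1 q.1 ∧ r.2 = comp5 p.2 q.2 := by
  have key : ∀ L : List (ℕ × ℕ), Nat.beq L.length 120 = true → (∀ i < 4, homSlice L i = true) →
      p ∈ L → q ∈ L → ∃ r ∈ L, r.1 = comp p.1 q.1 ∧ r.2 = comp5 p.2 q.2 := by
    intro L hlen hs hp hq
    obtain ⟨i, hi, rfl⟩ := List.getElem_of_mem hp
    rw [beq_iff] at hlen
    have hmem : L[i] ∈ (L.drop (30 * (i / 30))).take 30 := by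
      rw [List.mem_take_iff_getElem]
      refine ⟨i % 30, by simp only [List.length_drop]; omega, ?_⟩
      simp only [List.getElem_drop]
      congr 1
      omega
    have h0 := hs (i / 30) (by omega)
    unfold homSlice at h0
    have h := List.all_eq_true.1 (List.all_eq_true.1 h0 _ hmem) q hq
    simp only [force_eq, List.any_eq_true, Bool.and_eq_true, beq_iff] at h
    exact h
  have hlen := List.all_eq_true.1 five_inj
  simp only [List.mem_cons, List.not_mem_nil, or_false, forall_eq_or_imp, forall_eq,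
    Bool.and_eq_true] at hlen
  cases k with
  | false =>
    refine key five0 hlen.1.1 (fun i hi => ?_) hp hq
    interval_cases i
    exacts [hom0_0, hom0_1, hom0_2, hom0_3]
  | true =>
    refine key five1 hlen.2.1 (fun i hi => ?_) hp hq
    interval_cases i
    exacts [hom1_0, hom1_1, hom1_2, hom1_3]

theorem five_h4 {k : Bool} {c : ℕ} (hc : c ∈ h4) : ∃ p ∈ five k, p.1 = c := by
  have h := List.all_eq_true.1 h4_mem c hc
  simp only [Bool.and_eq_true, has_fst_iff] at h
  cases k
  exacts [h.1, h.2]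

/-- The permutations of an overgroup. -/
def fiveSub (k : Bool) : Subgroup (Equiv.Perm (Fin 16)) where
  carrier := {g | ∃ p ∈ five k, p.1 = cd g}
  one_mem' := by
    rw [Set.mem_ofPred_eq, cd_one]
    exact five_h4 (by decide +kernel)
  mul_mem' := by
    rintro g h ⟨p, hp, ep⟩ ⟨q, hq, eq⟩
    obtain ⟨r, hr, e, -⟩ := five_mul hp hq
    exact ⟨r, hr, by rw [e, cd_mul, ep, eq]⟩
  inv_mem' := by
    rintro g ⟨p, hp, ep⟩
    have hpow : ∀ n : ℕ, ∃ r ∈ five k, r.1 = cd (g ^ (n + 1)) := by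
      intro n
      induction n with
      | zero => exact ⟨p, hp, by rw [pow_one, ep]⟩
      | succ n ih =>
        obtain ⟨q, hq, eq⟩ := ih
        obtain ⟨r, hr, e, -⟩ := five_mul hq hp
        exact ⟨r, hr, by rw [e, pow_succ _ (n + 1), cd_mul, eq, ep]⟩
    rw [Set.mem_ofPred_eq]
    rcases Nat.eq_zero_or_pos (orderOf g - 1) with h | h
    · have : g = 1 := orderOf_eq_one_iff.1 (by have := orderOf_pos g; omega)
      rw [this, inv_one, cd_one]
      exact five_h4 (by decide +kernel)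
    · obtain ⟨r, hr, e⟩ := hpow (orderOf g - 2)
      refine ⟨r, hr, e.trans (congrArg cd ?_)⟩
      refine eq_inv_of_mul_eq_one_left ?_
      rw [← pow_succ, show orderOf g - 2 + 1 + 1 = orderOf g by omega, pow_orderOf_eq_one]

theorem mem_fiveSub {k : Bool} {g : Equiv.Perm (Fin 16)} :
    g ∈ fiveSub k ↔ ∃ p ∈ five k, p.1 = cd g := Iff.rfl


/-- Words in the atoms stay in the group. -/
theorem word_mem {x : Equiv.Perm (Fin 16)} (hx : x ∈ T) (h4T : ∀ c ∈ h4, ∃ g ∈ T, cd g = c) :
    ∀ w : List ℕ, ∃ y ∈ T, cd y = word (cd x) w := by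
  intro w
  unfold word
  suffices ∀ (acc : Equiv.Perm (Fin 16)), acc ∈ T → ∃ y ∈ T,
      cd y = w.foldl (fun acc i => comp acc (if Nat.beq i 0 then cd x else h4.getD (i - 1) idc)) (cd acc) by
    have h := this 1 T.one_mem
    rwa [cd_one] at h
  induction w with
  | nil => exact fun acc ha => ⟨acc, ha, rfl⟩
  | cons i w ih =>
    intro acc ha
    rw [List.foldl_cons]
    obtain ⟨a, haT, hac⟩ : ∃ a ∈ T, cd a = (if Nat.beq i 0 then cd x else h4.getD (i - 1) idc) := by
      by_cases hi : Nat.beq i 0 = true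
      · exact ⟨x, hx, by rw [if_pos hi]⟩
      · rw [if_neg hi, List.getD_eq_getElem?_getD]
        rcases hget : h4[i - 1]? with _ | c
        · exact ⟨1, T.one_mem, cd_one⟩
        · exact h4T c (List.mem_of_getElem? hget)
    obtain ⟨y, hy, e⟩ := ih (acc * a) (T.mul_mem ha haT)
    exact ⟨y, hy, by rw [e, cd_mul, hac]⟩

variable (hsp : ∀ g ∈ T, IsSp g) (h8 : ∀ c ∈ t8, ∃ g ∈ T, cd g = c) (h16 : ¬ 16 ∣ Nat.card T)

/-- An element of order three normalizing the four group brings the subgroup of order 24. -/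
theorem h4_of_normal {b : Equiv.Perm (Fin 16)} (hb : IsSp b) (hbT : b ∈ T) (hb1 : b ≠ 1)
    (hb3 : b * b * b = 1) (hn : ∀ c ∈ v4, ∀ t, cd t = c → ∃ c' ∈ v4, ∃ t', cd t' = c' ∧ b * t = t' * b)
    (h8 : ∀ c ∈ t8, ∃ g ∈ T, cd g = c) : ∀ c ∈ h4, ∃ g ∈ T, cd g = c := by
  have h := List.all_eq_true.1 normal_three _ (mem_spList hb)
  rw [force_eq] at h
  simp only [Bool.or_eq_true, Bool.and_eq_true, beq_iff, Bool.not_eq_true', beq_false_iff] at h
  rcases h with (h | h) | ⟨-, h⟩
  · exact absurd (cd_inj (h.trans cd_one.symm)) hb1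
  · exact absurd (by rw [← cd_mul, ← cd_mul, hb3, cd_one]) h
  rcases h with h | h
  · exfalso
    refine Bool.eq_false_iff.1 h (List.all_eq_true.2 fun c hc => ?_)
    rw [force_eq, List.any_eq_true]
    obtain ⟨t, ht, hct⟩ := h8 c (has_iff.1 (List.all_eq_true.1 v4_mem c hc))
    obtain ⟨c', hc', t', ht', e⟩ := hn c hc t hct
    exact ⟨c', hc', beq_iff.2 (by rw [← hct, ← ht', ← cd_mul, ← cd_mul, e])⟩
  intro c hc
  have h' := List.all_eq_true.1 h c hc
  simp only [Bool.or_eq_true, has_iff, List.any_eq_true, beq_iff] at h'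
  rcases h' with h' | ⟨t, ht, t', ht', h'⟩
  · exact h8 c h'
  obtain ⟨u, hu, hut⟩ := h8 t ht
  obtain ⟨u', hu', hut'⟩ := h8 t' ht'
  rcases h' with h' | h'
  · exact ⟨u * b * u', T.mul_mem (T.mul_mem hu hbT) hu', by rw [cd_mul, cd_mul, hut, hut', h']⟩
  · exact ⟨u * (b * b) * u', T.mul_mem (T.mul_mem hu (T.mul_mem hbT hbT)) hu', by
      rw [cd_mul, cd_mul, cd_mul, hut, hut', h']⟩

/-- An element of order three centralizing the outer involution is outside the subgroup of order 24. -/
theorem not_h4_of_centralizer {a : Equiv.Perm (Fin 16)} (ha : IsSp a) (ha1 : a ≠ 1)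
    (ha3 : a * a * a = 1) (hn : ∀ t, cd t = tau → a * t = t * a)
    {t : Equiv.Perm (Fin 16)} (ht : cd t = tau) : cd a ∉ h4 := by
  have h := List.all_eq_true.1 normal_three _ (mem_spList ha)
  rw [force_eq] at h
  simp only [Bool.or_eq_true, Bool.and_eq_true, beq_iff, Bool.not_eq_true', beq_false_iff] at h
  rcases h with (h | h) | ⟨h | h, -⟩
  · exact absurd (cd_inj (h.trans cd_one.symm)) ha1
  · exact absurd (by rw [← cd_mul, ← cd_mul, ha3, cd_one]) h
  · exact absurd (by rw [← ht, ← cd_mul, ← cd_mul, hn t ht]) h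
  · exact fun hc => Bool.eq_false_iff.1 h (has_iff.2 hc)

variable (h4T : ∀ c ∈ h4, ∃ g ∈ T, cd g = c)

include hsp h8 h16 h4T in

theorem mem_five_or {x : Equiv.Perm (Fin 16)} (hx : x ∈ T) :
    (∃ p ∈ five0, p.1 = cd x) ∨ ∃ p ∈ five1, p.1 = cd x := by
  have h := List.all_eq_true.1 cover _ (mem_spList (hsp x hx))
  simp only [force_eq, Bool.or_eq_true, has_fst_iff, List.any_eq_true, beq_iff] at h
  rcases h with (h | h) | ⟨e, he, hex⟩
  · exact Or.inl h
  · exact Or.inr h
  exfalso
  obtain ⟨y, hy, hyw⟩ := word_mem hx h4T e.2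
  have hen := List.all_eq_true.1 bad_ok e he
  unfold enlarges at hen
  simp only [force_eq, Bool.and_eq_true, Bool.not_eq_true', List.all_eq_true,
    List.any_eq_true, beq_iff] at hen
  obtain ⟨⟨hnot, h16'⟩, hnorm⟩ := hen
  rw [hex, ← hyw, ← cd_mul, ← cd_mul, ← cd_mul, ← cd_mul, ← cd_one] at h16'
  rw [hex, ← hyw] at hnot hnorm
  -- the dihedral group and the new element generate a larger two-group
  obtain ⟨P, hPle, hPset, hP8, hcardP⟩ := exists_dihedral h8
  have hyP : y ∉ P := fun h => Bool.eq_false_iff.1 hnot (has_iff.2 (hPset y h).2)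
  have hyn : y ∈ Subgroup.normalizer (P : Set (Equiv.Perm (Fin 16))) := by
    refine Subgroup.mem_normalizer_fintype fun g hg => ?_
    obtain ⟨hgT, hgc⟩ := hPset g hg
    obtain ⟨t', ht', e'⟩ := hnorm _ hgc
    obtain ⟨g', hg', hgc'⟩ := h8 t' ht'
    rw [← hgc', ← cd_mul, ← cd_mul] at e'
    rw [show y * g * y⁻¹ = g' by rw [cd_inj e', mul_inv_cancel_right]]
    exact hP8 g' hg' (hgc' ▸ ht')
  have hP2 : IsPGroup 2 P := IsPGroup.of_card (n := 3) hcardP
  have hz : IsPGroup 2 (Subgroup.zpowers y) := by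
    intro w
    refine ⟨4, Subtype.ext ?_⟩
    obtain ⟨j, hj⟩ := Subgroup.mem_zpowers_iff.1 w.2
    have h16y : y ^ 2 ^ 4 = 1 := by
      rw [← cd_inj h16']
      norm_num [pow_succ, mul_assoc]
    rw [SubmonoidClass.coe_pow, ← hj, ← zpow_natCast, ← zpow_mul, mul_comm, zpow_mul, zpow_natCast,
      h16y, one_zpow]
    rfl
  have hsup : IsPGroup 2 ↥(Subgroup.zpowers y ⊔ P) :=
    IsPGroup.to_sup_of_normal_right' hz hP2 (Subgroup.zpowers_le.2 hyn)
  have hlt : P < Subgroup.zpowers y ⊔ P :=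
    lt_of_le_of_ne le_sup_right fun e => hyP (e ▸ Subgroup.mem_sup_left (Subgroup.mem_zpowers y))
  obtain ⟨n, hn⟩ := IsPGroup.iff_card.1 hsup
  refine h16 ((?_ : 16 ∣ Nat.card ↥(Subgroup.zpowers y ⊔ P)).trans (Subgroup.card_dvd_of_le
    (sup_le (Subgroup.zpowers_le.2 hy) hPle)))
  have hlt' : Nat.card P < Nat.card ↥(Subgroup.zpowers y ⊔ P) := by
    refine lt_of_le_of_ne (Subgroup.card_le_of_le hlt.le) fun e => hlt.ne ?_
    exact Subgroup.eq_of_le_of_card_ge hlt.le e.ge
  rw [hcardP, hn] at hlt'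
  rw [hn, show (16 : ℕ) = 2 ^ 4 by norm_num]
  exact pow_dvd_pow 2 (by
    by_contra h
    have : 2 ^ n ≤ 2 ^ 3 := Nat.pow_le_pow_right (by norm_num) (by omega)
    omega)

include hsp h8 h16 h4T in
/-- The group lies in one of the two overgroups. -/
theorem exists_five : ∃ k : Bool, T ≤ fiveSub k := by
  by_contra hno
  obtain ⟨x, hx, hx0⟩ := SetLike.not_le_iff_exists.1 fun h => hno ⟨false, h⟩
  obtain ⟨y, hy, hy1⟩ := SetLike.not_le_iff_exists.1 fun h => hno ⟨true, h⟩
  have hdef : ∀ x ∈ T, x ∈ fiveSub false ∨ x ∈ fiveSub true := fun x hx =>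
    mem_five_or hsp h8 h16 h4T hx
  have hx1 := (hdef x hx).resolve_left hx0
  have hy0 := (hdef y hy).resolve_right hy1
  rcases hdef (x * y) (T.mul_mem hx hy) with h | h
  · exact hx0 (by have := mul_mem h (inv_mem hy0); rwa [mul_inv_cancel_right] at this)
  · exact hy1 (by have := mul_mem (inv_mem hx1) h; rwa [inv_mul_cancel_left] at this)

include hsp h8 h16 h4T in
/-- Fixed points force two-power order. -/
theorem pow_four_of_fixed {x : Equiv.Perm (Fin 16)} (hx : x ∈ T) {v : Fin 16} (hv : v ≠ 0)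
    (hxv : x v = v) : x ^ 4 = 1 := by
  obtain ⟨k, hk⟩ := exists_five hsp h8 h16 h4T
  obtain ⟨p, hp, ep⟩ := hk hx
  have hfree := List.all_eq_true.1 five_free
  simp only [List.mem_cons, List.not_mem_nil, or_false, forall_eq_or_imp, forall_eq,
    List.all_eq_true, Bool.or_eq_true, beq_iff] at hfree
  have h : comp (comp p.1 p.1) (comp p.1 p.1) = idc ∨ ∀ v ∈ List.range 16,
      v = 0 ∨ (!Nat.beq (app p.1 v) v) = true := by
    cases k
    exacts [hfree.1 p hp, hfree.2 p hp]
  rcases h with h | h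
  · rw [ep, ← cd_mul, ← cd_mul, ← cd_one] at h
    rw [pow_succ, pow_succ, pow_two, mul_assoc, cd_inj h]
  · rcases h v.val (List.mem_range.2 v.isLt) with h | h
    · exact absurd (Fin.ext h) hv
    · rw [Bool.not_eq_true', beq_false_iff, ep, app_cd, hxv] at h
      exact absurd rfl h

include hsp h8 h16 h4T in
/-- The centralizer of an element of the four group normalizes it as a two-element or fixes what it
fixes. -/
theorem centralizer_cases {x : Equiv.Perm (Fin 16)} (hx : x ∈ T) {t : Equiv.Perm (Fin 16)}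
    (ht : cd t ∈ v4) (ht1 : t ≠ 1) (hxt : x * t = t * x) :
    (x ^ 4 = 1 ∧ cd x ∉ v4 ∧ ∀ c ∈ v4, ∀ u, cd u = c → ∃ c' ∈ v4, ∃ u', cd u' = c' ∧ x * u = u' * x) ∨
      ∀ v : Fin 16, t v = v → x v = v := by
  obtain ⟨k, hk⟩ := exists_five hsp h8 h16 h4T
  obtain ⟨p, hp, ep⟩ := hk hx
  have hall := List.all_eq_true.1 five_centralizer
  simp only [List.mem_cons, List.not_mem_nil, or_false, forall_eq_or_imp, forall_eq,
    List.all_eq_true, List.any_eq_true, Bool.or_eq_true, Bool.and_eq_true, beq_iff, Bool.not_eq_true',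
    beq_false_iff] at hall
  have h : cd t = idc ∨ comp p.1 (cd t) ≠ comp (cd t) p.1 ∨
      ((comp (comp p.1 p.1) (comp p.1 p.1) = idc ∧ has v4 p.1 = false) ∧
          ∀ c ∈ v4, ∃ c' ∈ v4, comp p.1 c = comp c' p.1) ∨
        ∀ v ∈ List.range 16, app (cd t) v ≠ v ∨ app p.1 v = v := by
    cases k
    · rcases hall.1 p hp _ ht with (h | h) | h
      exacts [Or.inl h, Or.inr (Or.inl h), Or.inr (Or.inr h)]
    · rcases hall.2 p hp _ ht with (h | h) | h
      exacts [Or.inl h, Or.inr (Or.inl h), Or.inr (Or.inr h)]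
  rw [ep] at h
  rcases h with h | h | ⟨⟨h4', hnot⟩, hnorm⟩ | h
  · exact absurd (cd_inj (h.trans cd_one.symm)) ht1
  · exact absurd (by rw [← cd_mul, ← cd_mul, hxt]) h
  · left
    rw [← cd_mul, ← cd_mul, ← cd_one] at h4'
    refine ⟨by rw [pow_succ, pow_succ, pow_two, mul_assoc, cd_inj h4'],
      fun hc => Bool.eq_false_iff.1 hnot (has_iff.2 hc), fun c hc u hu => ?_⟩
    obtain ⟨c', hc', e⟩ := hnorm c hc
    obtain ⟨g, -, hg⟩ := h8 c' (has_iff.1 (List.all_eq_true.1 v4_mem c' hc'))
    refine ⟨c', hc', g, hg, cd_inj ?_⟩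
    rw [cd_mul, cd_mul, hu, hg, e]
  · refine Or.inr fun v hv => ?_
    rcases h v.val (List.mem_range.2 v.isLt) with h | h
    · rw [app_cd, hv] at h; exact absurd rfl h
    · rw [app_cd] at h; exact Fin.ext h

/-- The decoded action on five points. -/
noncomputable def toFive (c : ℕ) : Fin 5 → Fin 5 := fun j => Fin.ofNat 5 ((c >>> (3 * j.val)) % 8)

theorem toFive_bijective {k : Bool} {p : ℕ × ℕ} (hp : p ∈ five k) : Function.Bijective (toFive p.2) := by
  rw [← Finite.surjective_iff_bijective]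
  intro i
  have h := List.all_eq_true.1 five_perm
  simp only [List.mem_cons, List.not_mem_nil, or_false, forall_eq_or_imp, forall_eq,
    List.all_eq_true, List.any_eq_true, beq_iff] at h
  have h' : ∃ j ∈ List.range 5, (p.2 >>> (3 * j)) % 8 = i.val := by
    cases k
    exacts [h.1 p hp i.val (List.mem_range.2 i.isLt), h.2 p hp i.val (List.mem_range.2 i.isLt)]
  obtain ⟨j, hj, e⟩ := h'
  refine ⟨⟨j, List.mem_range.1 hj⟩, ?_⟩
  rw [toFive, e]
  exact Fin.ext (Nat.mod_eq_of_lt i.isLt)

theorem toFive_comp {k : Bool} {p q : ℕ × ℕ} (hp : p ∈ five k) (hq : q ∈ five k) :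
    toFive (comp5 p.2 q.2) = toFive p.2 ∘ toFive q.2 := by
  have hlt : ∀ {r : ℕ × ℕ}, r ∈ five k → ∀ j < 5, (r.2 >>> (3 * j)) % 8 < 5 := by
    intro r hr j hj
    have h := List.all_eq_true.1 (by decide +kernel : ([five0, five1].all fun L => L.all fun p =>
      (List.range 5).all fun j => Nat.blt ((p.2 >>> (3 * j)) % 8) 5) = true)
    simp only [List.mem_cons, List.not_mem_nil, or_false, forall_eq_or_imp, forall_eq,
      List.all_eq_true, Nat.blt_eq] at h
    cases k
    exacts [h.1 r hr j (List.mem_range.2 hj), h.2 r hr j (List.mem_range.2 hj)]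
  funext j
  have hq' := hlt hq j.val j.isLt
  unfold comp5
  simp only [toFive, Function.comp_apply, Fin.ofNat_eq_cast, Fin.val_natCast, Nat.mod_eq_of_lt hq']
  congr 1
  have key : ∀ (f : ℕ → ℕ), (∀ i, f i < 8) → ∀ i < 5,
      (((List.range 5).foldl (fun acc i => acc + (f i) <<< (3 * i)) 0) >>> (3 * i)) % 8 = f i := by
    intro f hf i hi
    simp only [List.range_succ, List.range_zero, List.nil_append, List.cons_append,
      List.foldl_cons, List.foldl_nil, Nat.shiftLeft_eq, Nat.shiftRight_eq_div_pow]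
    have := hf 0; have := hf 1; have := hf 2; have := hf 3; have := hf 4
    interval_cases i <;> norm_num <;> omega
  exact key (fun i => (p.2 >>> (3 * ((q.2 >>> (3 * i)) % 8))) % 8)
    (fun i => Nat.mod_lt _ (by norm_num)) j.val j.isLt

include hsp h8 h16 h4T in
/-- With an element outside the subgroup of order 24 the group is symmetric of degree five. -/
theorem nonempty_iso {a b : Equiv.Perm (Fin 16)} (ha : a ∈ T) (ha4 : cd a ∉ h4) (hb : b ∈ T)
    (hb3 : orderOf b = 3) : Nonempty (T ≃* Equiv.Perm (Fin 5)) := by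
  obtain ⟨k, hk⟩ := exists_five hsp h8 h16 h4T
  choose p hp ep using fun x : T => hk x.2
  have hinjfive : ∀ p ∈ five k, ∀ q ∈ five k, p.1 = q.1 → p.2 = q.2 ∧ True := by
    intro p hp q hq e
    have h := List.all_eq_true.1 (by decide +kernel : ([five0, five1].all fun L =>
      L.all fun p => L.all fun q => !Nat.beq p.1 q.1 || Nat.beq p.2 q.2) = true)
    simp only [List.mem_cons, List.not_mem_nil, or_false, forall_eq_or_imp, forall_eq,
      List.all_eq_true, Bool.or_eq_true, beq_iff, Bool.not_eq_true', beq_false_iff] at h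
    cases k
    · exact ⟨(h.1 p hp q hq).resolve_left (· e), trivial⟩
    · exact ⟨(h.2 p hp q hq).resolve_left (· e), trivial⟩
  let φ : T →* Equiv.Perm (Fin 5) := MonoidHom.mk'
    (fun x => Equiv.ofBijective _ (toFive_bijective (hp x))) fun x y => by
      obtain ⟨r, hr, e1, e2⟩ := five_mul (hp x) (hp y)
      have h := (hinjfive r hr _ (hp (x * y)) (by rw [e1, ep, ep, ep, ← cd_mul]; rfl)).1
      refine Equiv.ext fun j => ?_
      show toFive (p (x * y)).2 j = toFive (p x).2 (toFive (p y).2 j)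
      rw [← h, e2, toFive_comp (hp x) (hp y)]
      rfl
  have hinj : Function.Injective φ := by
    intro x y e
    refine Subtype.ext (cd_inj ?_)
    rw [← ep, ← ep]
    have e' : toFive (p x).2 = toFive (p y).2 := congrArg (fun f : Equiv.Perm (Fin 5) => (f : Fin 5 → Fin 5)) e
    have hc : ∀ (q r : ℕ × ℕ), q ∈ five k → r ∈ five k →
        (List.range 5).all (fun j => Nat.beq ((q.2 >>> (3 * j)) % 8 % 5) ((r.2 >>> (3 * j)) % 8 % 5)) = true →
        q.1 = r.1 := by
      intro q r hq hr hqr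
      have h := List.all_eq_true.1 (by decide +kernel : ([five0, five1].all fun L =>
        L.all fun q => L.all fun r => Nat.beq q.1 r.1 ||
          !(List.range 5).all (fun j => Nat.beq ((q.2 >>> (3 * j)) % 8 % 5) ((r.2 >>> (3 * j)) % 8 % 5))) = true)
      simp only [List.mem_cons, List.not_mem_nil, or_false, forall_eq_or_imp, forall_eq,
        List.all_eq_true (p := fun q => List.all _ _), Bool.or_eq_true, beq_iff, Bool.not_eq_true'] at h
      cases k
      · exact (List.all_eq_true.1 (h.1 q hq) r hr |> fun z => by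
          simp only [Bool.or_eq_true, beq_iff, Bool.not_eq_true', hqr] at z
          exact z.resolve_right (by decide))
      · exact (List.all_eq_true.1 (h.2 q hq) r hr |> fun z => by
          simp only [Bool.or_eq_true, beq_iff, Bool.not_eq_true', hqr] at z
          exact z.resolve_right (by decide))
    refine hc _ _ (hp x) (hp y) (List.all_eq_true.2 fun j hj => beq_iff.2 ?_)
    have := congrArg Fin.val (congrFun e' ⟨j, List.mem_range.1 hj⟩)
    simpa [toFive] using this
  have hd : Nat.card T ∣ 120 := by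
    have := Subgroup.card_dvd_of_injective φ hinj
    rwa [Nat.card_perm, Nat.card_fin] at this
  have h3 : 3 ∣ Nat.card T := hb3 ▸ Subgroup.orderOf_dvd_natCard T hb
  -- the coded elements are all different
  have hle : (insert (cd a) h4.toFinset).card ≤ Nat.card T := by
    classical
    haveI := Fintype.ofFinite T
    rw [Nat.card_eq_fintype_card]
    refine le_trans (Finset.card_le_card ?_) (Finset.card_image_le (f := fun x : T => cd x) (s := Finset.univ))
    intro c hc
    rw [Finset.mem_image]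
    rcases Finset.mem_insert.1 hc with rfl | hc
    · exact ⟨⟨a, ha⟩, Finset.mem_univ _, rfl⟩
    · obtain ⟨g, hg, e⟩ := h4T c (List.mem_toFinset.1 hc)
      exact ⟨⟨g, hg⟩, Finset.mem_univ _, e⟩
  have h25 : (insert (cd a) h4.toFinset).card = 25 := by
    rw [Finset.card_insert_of_notMem (by rwa [List.mem_toFinset])]
    decide +kernel
  rw [h25] at hle
  have h8' : 8 ∣ Nat.card T := by
    obtain ⟨P, hP, hPc⟩ := exists_eight h8
    exact hPc ▸ Subgroup.card_dvd_of_le hP
  have hcard : Nat.card T = 120 := by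
    have hmem : Nat.card T ∈ Nat.divisors 120 := Nat.mem_divisors.2 ⟨hd, by norm_num⟩
    rw [show Nat.divisors 120 = {1,2,3,4,5,6,8,10,12,15,20,24,30,40,60,120} by decide] at hmem
    simp only [Finset.mem_insert, Finset.mem_singleton] at hmem
    omega
  exact ⟨MulEquiv.ofBijective φ (hinj.bijective_of_nat_card_le (by
    rw [Nat.card_perm, Nat.card_fin, hcard]; rfl))⟩

end CfsgLib.SylHS.SpFour
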