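import Cfsg.Agent.Lib.SylHS.Fus
import Cfsg.Agent.Lib.SylHS.IndexTwo
import Cfsg.Agent.Lib.SylHS.AutEight
import Cfsg.Agent.Lib.Invol.Basic

/-!
Without a subgroup of index two both large candidates move, and the normalizer of the elementary
abelian subgroup of order 8 induces all its automorphisms.
-/

set_option autoImplicit false
set_option linter.style.haveILetI false
set_option linter.unusedSectionVars false

namespace CfsgLib.SylHS

open Subgroup CfsgLib.Fusion

universe u

variable {G : Type u} [Group G] [Finite G]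

theorem two_elt {p : ℕ} {T P : Subgroup G} (hT : IsPGroup p T) (hP : P ≤ T) : IsPGroup p P :=
  hT.to_le hP

/-- An automorphism of odd order shifting by a fixed element of `2`-power order fixes. -/
theorem eq_one_of_shift {P : Subgroup G} (hP : IsPGroup 2 P) {α : MulAut P} (hα : Odd (orderOf α))
    {a d : P} (hd : α d = d) (ha : α a = a * d) : d = 1 := by
  have key : ∀ k : ℕ, (α ^ k) a = a * d ^ k := by
    intro k
    induction k with
    | zero => simp
    | succ k ih => rw [pow_succ', MulAut.mul_apply, ih, map_mul, map_pow, hd, ha, mul_assoc, ← pow_succ']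
  have h := key (orderOf α)
  rw [pow_orderOf_eq_one, MulAut.one_apply, left_eq_mul] at h
  obtain ⟨j, hj⟩ := hP d
  exact orderOf_eq_one_iff.1 (Nat.eq_one_of_dvd_coprimes
    (Nat.Coprime.pow_right j (Nat.coprime_two_right.2 hα)) (orderOf_dvd_of_pow_eq_one h)
    (orderOf_dvd_of_pow_eq_one hj))

/-- An automorphism of odd order fixing a normal subgroup and its centralizer is trivial. -/
theorem eq_one_of_fixed {P X : Subgroup G} (hP : IsPGroup 2 P) {α : MulAut P} (hα : Odd (orderOf α))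
    (hn : ∀ p : P, ∀ x ∈ X, (p : G) * x * (p : G)⁻¹ ∈ X) (hXP : X ≤ P)
    (hfix : ∀ x : P, (x : G) ∈ X → α x = x)
    (hC : ∀ d : P, (∀ x ∈ X, (d : G) * x = x * (d : G)) → α d = d) : α = 1 := by
  refine MulEquiv.ext fun a => ?_
  obtain ⟨d, hd⟩ : ∃ d, d = a⁻¹ * α a := ⟨_, rfl⟩
  have ha : α a = a * d := by rw [hd, mul_inv_cancel_left]
  have hdX : ∀ x ∈ X, (d : G) * x = x * (d : G) := by
    intro x hx
    have h1 := hfix (a * ⟨x, hXP hx⟩ * a⁻¹) (hn a x hx)
    rw [map_mul, map_mul, hfix ⟨x, hXP hx⟩ hx, map_inv, ha] at h1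
    have h2 := congrArg Subtype.val h1
    simp only [coe_mul, coe_inv, _root_.mul_inv_rev] at h2
    have h3 := congrArg (fun w => (a : G)⁻¹ * w * (a : G)) h2
    simp only [mul_assoc, inv_mul_cancel_left, inv_mul_cancel, mul_one] at h3
    calc (d : G) * x = (d : G) * (x * (d : G)⁻¹) * d := by group
      _ = x * d := by rw [h3]
  rw [ha, eq_one_of_shift hP hα (hC d hdX) ha, mul_one]
  rfl

variable (S : Sylow 2 G) (F : Frame (S : Subgroup G))

theorem not_dvd_of_simple [IsSimpleGroup G] {N : Subgroup G} (hN : N.Normal) (h : N.index = 2)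
    (F : Frame (S : Subgroup G)) : False := by
  rcases hN.eq_bot_or_eq_top with h' | h'
  · rw [h', index_bot] at h
    have := Subgroup.card_subgroup_dvd_card (S : Subgroup G)
    rw [F.card_T, h] at this
    exact absurd (Nat.le_of_dvd (by norm_num) this) (by norm_num)
  · rw [h', index_top] at h
    norm_num at h

variable (hT : TableFacts F) (hcand : HasCandidates (fus S) 2 F.cands)
include hT hcand

theorem conj_mem_iff {X : Subgroup G} (h : ∀ s ∈ (S : Subgroup G), ∀ x ∈ X, s * x * s⁻¹ ∈ X) :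
    ∀ s ∈ (S : Subgroup G), ∀ x ∈ (S : Subgroup G), s * x * s⁻¹ ∈ X ↔ x ∈ X :=
  fun s hs x _ => ⟨fun hx => by simpa [mul_assoc] using h s⁻¹ (inv_mem hs) _ hx, h s hs x⟩

omit hcand in
theorem conj_of_index_two {X : Subgroup G} (hX : X ≤ (S : Subgroup G))
    (h : (X.subgroupOf (S : Subgroup G)).index = 2) :
    ∀ s ∈ (S : Subgroup G), ∀ x ∈ X, s * x * s⁻¹ ∈ X := fun s hs x hx =>
  (normal_of_index_eq_two h).conj_mem ⟨x, hX hx⟩ hx ⟨s, hs⟩

theorem moves_Q [IsSimpleGroup G] : Moves S F.subQ := by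
  by_contra hno
  have hconj := conj_of_index_two S F hT (F.sub_le _) hT.index_B
  obtain ⟨N, hN, hidx, -⟩ := exists_normal_index_two S F.subB
    (fun g x hx hgx => (fusion_iff S F hT hcand (F.subB : Set G) (conj_mem_iff S F hT hcand hconj)
      (fun i hmv α _ _ x hx => by
        fin_cases i
        · exact hT.P_le_B (α x).2
        · exact absurd hmv hno
        · exact hT.autU_B α x hx) (F.sub_le _ hx) hgx).2 hx) hT.index_B (F.sub_le _)
  exact not_dvd_of_simple S hN hidx F

theorem moves_U [IsSimpleGroup G] : Moves S F.subU := by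
  by_contra hno
  have hconj := conj_of_index_two S F hT (F.sub_le _) hT.index_Q
  obtain ⟨N, hN, hidx, -⟩ := exists_normal_index_two S F.subQ
    (fun g x hx hgx => (fusion_iff S F hT hcand (F.subQ : Set G) (conj_mem_iff S F hT hcand hconj)
      (fun i hmv α _ _ x hx => by
        fin_cases i
        · have hR : (x : G) ∈ F.subR := hT.P_inf_Q ▸ ⟨x.2, hx⟩
          exact hT.R_le_Q (hT.autP_R α x hR)
        · exact (α x).2
        · exact absurd hmv hno) (F.sub_le _ hx) hgx).2 hx) hT.index_Q (F.sub_le _)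
  exact not_dvd_of_simple S hN hidx F

omit hcand in
/-- Odd automorphisms of a candidate over `V` that fix `V` are trivial. -/
theorem eq_one_of_fix_V {P : Subgroup G} (hP : P ≤ (S : Subgroup G)) (hVP : F.subV ≤ P)
    {α : MulAut P} (hα : Odd (orderOf α)) (hA : Pres α F.subA)
    (hfix : ∀ x : P, (x : G) ∈ F.subV → α x = x) : α = 1 := by
  have hP2 := two_elt S.2 hP
  refine eq_one_of_fixed hP2 hα (fun p => hT.conj_V p (hP p.2)) hVP hfix fun d hd => ?_
  have hdA : (d : G) ∈ F.subA := hT.cent_V d (hP d.2) hd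
  obtain ⟨e, he⟩ : ∃ e, e = d⁻¹ * α d := ⟨_, rfl⟩
  have heA : (e : G) ∈ F.subA := he ▸ mul_mem (inv_mem hdA) (hA d hdA)
  have hd2 : ((d * d : P) : G) ∈ F.subV := by
    rw [coe_mul]
    refine hT.A_omega _ (mul_mem hdA hdA) ?_
    rw [← hT.A_pow _ hdA]
    simp only [pow_succ, pow_zero, one_mul, mul_assoc]
  have hee : (e : G) * (e : G) = 1 := by
    have h1 := hfix _ hd2
    rw [map_mul, show α d = d * e by rw [he, mul_inv_cancel_left]] at h1
    have hc : e * d = d * e := Subtype.ext (hT.A_comm _ heA _ hdA)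
    rw [show d * e * (d * e) = d * d * (e * e) by
      rw [mul_assoc, ← mul_assoc e d, hc, mul_assoc d e, ← mul_assoc]] at h1
    exact congrArg Subtype.val (mul_eq_left.1 h1)
  have hde : α d = d * e := by rw [he, mul_inv_cancel_left]
  rw [hde, eq_one_of_shift hP2 hα (hfix e (hT.A_omega _ heA hee)) hde, mul_one]

/-- A nontrivial odd automorphism induced in the group. -/
theorem exists_odd_aut {P : Subgroup G} (hP : P ≤ (S : Subgroup G)) (h : Moves S P) :
    ∃ α : MulAut P, α ≠ 1 ∧ Odd (orderOf α) ∧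
      ∃ a ∈ normalizer (P : Set G), ∀ x : P, ((α x : P) : G) = a * x * a⁻¹ := by
  obtain ⟨α, hα, h1, hodd⟩ := exists_odd_of_not_isPGroup h
  exact ⟨α, h1, hodd, exists_of_mem_autGroup S hP hα⟩

omit hcand in
theorem mem_normalizer_of_pres {P X : Subgroup G} (hXP : X ≤ P) {α : MulAut P} {a : G}
    (hax : ∀ x : P, ((α x : P) : G) = a * x * a⁻¹) (h : Pres α X) : a ∈ normalizer (X : Set G) :=
  Subgroup.mem_normalizer_fintype fun x hx => hax ⟨x, hXP hx⟩ ▸ h ⟨x, hXP hx⟩ hx

omit hcand in
theorem odd_restrict {P X : Subgroup G} (hXP : X ≤ P) {α : MulAut P} {a : G}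
    (hax : ∀ x : P, ((α x : P) : G) = a * x * a⁻¹) (haX : a ∈ normalizer (X : Set G))
    (hodd : Odd (orderOf α)) : Odd (orderOf (autOf X haX)) := by
  have key : ∀ (n : ℕ) (x : X), (((autOf X haX) ^ n) x : G) = ((α ^ n) ⟨x, hXP x.2⟩ : G) := by
    intro n
    induction n with
    | zero => exact fun x => rfl
    | succ n ih =>
      intro x
      rw [pow_succ', pow_succ', MulAut.mul_apply, MulAut.mul_apply, autOf_apply, hax, ih]
  refine hodd.of_dvd_nat (orderOf_dvd_of_pow_eq_one (MulEquiv.ext fun x => Subtype.ext ?_))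
  rw [key, pow_orderOf_eq_one]
  rfl

/-- The normalizer of `V` induces every automorphism and is transitive on the involutions. -/
theorem normalizer_V [IsSimpleGroup G] :
    (∀ β : MulAut F.subV, ∃ n : normalizer (F.subV : Set G), F.subV.normalizerMonoidHom n = β) ∧
      ∀ v ∈ F.subV, v ≠ 1 → ∃ n ∈ normalizer (F.subV : Set G), n * F.z * n⁻¹ = v := by
  haveI : Fact (Nat.Prime 2) := ⟨Nat.prime_two⟩
  set V := F.subV
  have hSN : (S : Subgroup G) ≤ normalizer (V : Set G) := fun s hs =>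
    Subgroup.mem_normalizer_fintype fun x hx => hT.conj_V s hs x hx
  let φ : (S : Subgroup G) →* MulAut V := V.normalizerMonoidHom.comp (inclusion hSN)
  have hφapp : ∀ (s : (S : Subgroup G)) (x : V), ((φ s x : V) : G) = s * x * (s : G)⁻¹ := fun s x => rfl
  have hker : φ.ker = F.subA.subgroupOf (S : Subgroup G) := by
    ext s
    rw [MonoidHom.mem_ker, mem_subgroupOf]
    refine ⟨fun h => hT.cent_V _ s.2 fun v hv => ?_, fun h => MulEquiv.ext fun x => Subtype.ext ?_⟩
    · have := hφapp s ⟨v, hv⟩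
      rw [h] at this
      exact eq_mul_inv_iff_mul_eq.1 this |>.symm
    · rw [hφapp, hT.A_comm _ h _ (hT.V_le_A x.2), mul_inv_cancel_right]
      rfl
  have hA8 : Nat.card φ.range = 8 := by
    have h := card_mul_index φ.ker
    have hle : F.subA ≤ (S : Subgroup G) := F.sub_le _
    rw [index_ker, hker, Nat.card_congr (subgroupOfEquivOfLe hle).toEquiv, hT.card_A, F.card_T] at h
    omega
  let zV : V := ⟨F.z, hT.z_mem_V⟩
  obtain ⟨α, hα1, hαo, a, -, hax⟩ := exists_odd_aut S F hT hcand (cands_le S F 1) (moves_Q S F hT hcand)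
  have hVQ : V ≤ F.subQ := hT.V_le_R.trans hT.R_le_Q
  have haN := mem_normalizer_of_pres S F hT hVQ hax (hT.autQ_V α)
  obtain ⟨β, hβ1, hβo, b, -, hbx⟩ := exists_odd_aut S F hT hcand (cands_le S F 2) (moves_U S F hT hcand)
  have hVU : V ≤ F.subU := hT.V_le_A.trans hT.A_le_U
  have hbN := mem_normalizer_of_pres S F hT hVU hbx (hT.autU_V β)
  have h := mulAut_eq_top (P := V) (fun x y => Subtype.ext (hT.V_comm x x.2 y y.2))
    (fun x => Subtype.ext (by simpa using hT.V_sq x x.2)) hT.card_V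
    (Γ := V.normalizerMonoidHom.range) (A := φ.range) (z := zV)
    (fun e => F.z_ne_one (congrArg Subtype.val e))
    (by rintro _ ⟨s, rfl⟩; exact ⟨_, rfl⟩) hA8
    (by
      rintro _ ⟨s, rfl⟩
      refine Subtype.ext ?_
      rw [hφapp]
      show (s : G) * F.z * (s : G)⁻¹ = F.z
      rw [F.z_central s.2, mul_inv_cancel_right])
    (a := autOf V haN) ⟨_, rfl⟩
    (Subtype.ext ((hax ⟨F.z, hVQ hT.z_mem_V⟩).symm.trans (hT.autQ_z α ⟨F.z, hVQ hT.z_mem_V⟩ rfl)))
    (fun e => hα1 (eq_one_of_fix_V S F hT (cands_le S F 1) hVQ hαo (hT.autQ_A α) fun x hx =>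
      Subtype.ext ((hax x).trans (congrArg Subtype.val (MulEquiv.congr_fun e ⟨x, hx⟩)))))
    (odd_restrict S F hT hVQ hax haN hαo) (b := autOf V hbN) ⟨_, rfl⟩
    (fun e => hβ1 (hT.autU_z β hβo fun x hx => by
      refine (hbx x).trans ?_
      rw [hx]
      exact congrArg Subtype.val e))
  refine ⟨fun γ => MonoidHom.mem_range.1 (h.1 ▸ mem_top γ), fun v hv hv1 => ?_⟩
  obtain ⟨γ, ⟨n, rfl⟩, hn⟩ := h.2 ⟨v, hv⟩ fun e => hv1 (congrArg Subtype.val e)
  exact ⟨n, n.2, congrArg Subtype.val hn⟩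

end CfsgLib.SylHS
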