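import Cfsg.Agent.Lib.SylHS.Signal
import Cfsg.Agent.Lib.SylHS.Isolate

/-!
A strongly closed elementary abelian subgroup of rank three on which the other involutions act as
transvections does not exist in a simple group.
-/

set_option autoImplicit false
set_option linter.style.haveILetI false

namespace CfsgLib.SylHS

open Subgroup CfsgLib.SylAltEight

universe u

variable {G : Type u} [Group G] [Finite G]

theorem false_of_closed [IsSimpleGroup G] (S : Sylow 2 G) {V : Subgroup G}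
    (hVS : V ≤ (S : Subgroup G)) (hVne : V ≠ ⊤) (hc : ∀ a ∈ V, ∀ b ∈ V, a * b = b * a)
    (he : ∀ a ∈ V, a ^ 2 = 1) (h8 : 2 ^ 3 ≤ Nat.card V)
    (hS : normalizer ((S : Subgroup G) : Set G) ≤ normalizer (V : Set G))
    (hclosed : ∀ g : G, ∀ v ∈ V, g * v * g⁻¹ ∈ (S : Subgroup G) → g * v * g⁻¹ ∈ V)
    (hfac : ∀ v ∈ V, v ≠ 1 → ∀ x ∈ centralizer ({v} : Set G),
      ∃ o ∈ Cfsg.centralizerPPrimeCore 2 v, ∃ n ∈ normalizer (V : Set G), x = o * n)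
    (htv : ∀ u ∈ (S : Subgroup G), orderOf u = 2 → u ∉ V →
      (∃ a ∈ V, u * a * u⁻¹ * a⁻¹ ≠ 1) ∧
      (∀ a ∈ V, ∀ b ∈ V, u * a * u⁻¹ * a⁻¹ ≠ 1 → u * b * u⁻¹ * b⁻¹ ≠ 1 →
        u * a * u⁻¹ * a⁻¹ = u * b * u⁻¹ * b⁻¹) ∧
      ∃ a ∈ V, ∃ b ∈ V, a ≠ 1 ∧ b ≠ 1 ∧ a ≠ b ∧ Commute u a ∧ Commute u b)
    (hext : ∀ u ∈ (S : Subgroup G), orderOf u = 2 → ∀ c ∈ V, Commute u c → ∀ g : G,
      g * u * g⁻¹ ∈ (S : Subgroup G) → g * c * g⁻¹ ∈ (S : Subgroup G) →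
      ∃ h ∈ normalizer (V : Set G), h * u * h⁻¹ = g * u * g⁻¹ ∧ h * c * h⁻¹ = g * c * g⁻¹)
    (hout : ∃ u ∈ (S : Subgroup G), orderOf u = 2 ∧ u ∉ V) : False := by
  haveI : Fact (Nat.Prime 2) := ⟨Nat.prime_two⟩
  obtain ⟨M, hM, hNM, hCM⟩ := exists_proper hc he h8 hVne hfac
  obtain ⟨v₀, hv₀, hv₀1⟩ := V.bot_or_exists_ne_one.resolve_left fun h => by
    rw [h, card_bot] at h8; norm_num at h8
  obtain ⟨u₀, hu₀, hu₀o, hu₀V⟩ := hout
  have hvo : ∀ v ∈ V, v ≠ 1 → orderOf v = 2 := fun v hv hv1 => orderOf_eq_prime (he v hv) hv1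
  refine hM (eq_top_of_centralizers S (fun s hs => hNM (hS (le_normalizer hs))) (hS.trans hNM)
    (fun x hx hxo => ?_) hu₀o (hvo v₀ hv₀ hv₀1) fun hconj => ?_)
  swap
  · obtain ⟨g, hg⟩ := isConj_iff.1 hconj.symm
    exact hu₀V (hg ▸ hclosed g v₀ hv₀ (hg ▸ hu₀))
  by_cases hxV : x ∈ V
  · exact hCM x hxV (Invol.invol_ne_one hxo)
  obtain ⟨⟨a, ha, hac⟩, huniq, p, hp, q, hq, hp1, hq1, hpq, hpu, hqu⟩ := htv x hx hxo hxV
  obtain ⟨c, hc_def⟩ : ∃ c, c = x * a * x⁻¹ * a⁻¹ := ⟨_, rfl⟩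
  have hxa : x * a * x⁻¹ ∈ V := hclosed x a ha (mul_mem (mul_mem hx (hVS ha)) (inv_mem hx))
  have hcV : c ∈ V := hc_def ▸ mul_mem hxa (inv_mem ha)
  have hc1 : c ≠ 1 := hc_def ▸ hac
  have hxx : x * x = 1 := Invol.invol_mul_self hxo
  have hxi : x⁻¹ = x := Invol.invol_inv hxo
  have hxc : Commute x c := by
    have h1 : x * c * x⁻¹ = c⁻¹ := by
      rw [hc_def, show x * (x * a * x⁻¹ * a⁻¹) * x⁻¹ =
        (x * x) * a * (x⁻¹ * a⁻¹ * x⁻¹) by group, hxx, one_mul]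
      simp only [_root_.mul_inv_rev, inv_inv, hxi]
      group
    rw [show c⁻¹ = c from inv_eq_of_mul_eq_one_left (by rw [← pow_two]; exact he c hcV)] at h1
    show x * c = c * x
    calc x * c = x * c * x⁻¹ * x := by group
      _ = c * x := by rw [h1]
  -- moving into the Sylow subgroup preserves the centre of the transvection
  have move : ∀ g : G, g * x * g⁻¹ ∈ (S : Subgroup G) → g * c * g⁻¹ ∈ (S : Subgroup G) →
      ∃ a' ∈ V, g * c * g⁻¹ = (g * x * g⁻¹) * a' * (g * x * g⁻¹)⁻¹ * a'⁻¹ := by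
    intro g h1 h2
    obtain ⟨h, hh, e1, e2⟩ := hext x hx hxo c hcV hxc g h1 h2
    refine ⟨h * a * h⁻¹, (mem_normalizer_iff.1 hh a).1 ha, ?_⟩
    rw [← e1, ← e2, hc_def]
    group
  refine centralizer_le_of_isolated (hvo c hcV hc1) hxc (hvo p hp hp1) (hvo q hq hq1)
    (hc p hp q hq) hpq hpu hqu (fun g hgx hcc => ?_) fun y hy => ?_
  · obtain ⟨c', hc'⟩ : ∃ c', c' = g * c * g⁻¹ := ⟨_, rfl⟩
    rw [← hc'] at hcc ⊢
    have hgx' : g * x * g⁻¹ = x := by rw [hgx.eq, mul_inv_cancel_right]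
    have hxc' : Commute x c' := by
      have := hxc.map (MulAut.conj g)
      rwa [MulAut.conj_apply, MulAut.conj_apply, hgx', ← hc'] at this
    have hc'2 : c' * c' = 1 := by
      rw [hc', conj_mul, ← pow_two, he c hcV, mul_one, mul_inv_cancel]
    obtain ⟨k, k1, k2, k3⟩ := exists_conj_three S hxx (by rw [← pow_two]; exact he c hcV) hc'2
      hxc hxc' hcc
    have hcg : k * g * c * (k * g)⁻¹ = k * c' * k⁻¹ := by rw [hc']; group
    have hxg : k * g * x * (k * g)⁻¹ = k * x * k⁻¹ := by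
      rw [show k * g * x * (k * g)⁻¹ = k * (g * x * g⁻¹) * k⁻¹ by group, hgx']
    obtain ⟨a1, ha1, e1⟩ := move k k1 k2
    obtain ⟨a2, ha2, e2⟩ := move (k * g) (hxg ▸ k1) (hcg ▸ k3)
    rw [hxg, hcg] at e2
    have hxo' : orderOf (k * x * k⁻¹) = 2 := by rw [Invol.orderOf_conj_eq, hxo]
    have hxV' : k * x * k⁻¹ ∉ V := fun h => hxV (by
      have := hclosed k⁻¹ _ h (by rwa [inv_inv, show k⁻¹ * (k * x * k⁻¹) * k = x by group])
      rwa [inv_inv, show k⁻¹ * (k * x * k⁻¹) * k = x by group] at this)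
    have key := (htv _ k1 hxo' hxV').2.1 a1 ha1 a2 ha2
      (e1 ▸ fun e => hc1 (conj_eq_one_iff.1 e))
      (e2 ▸ fun e => hc1 (conj_eq_one_iff.1 (show g * c * g⁻¹ = 1 from
        hc' ▸ conj_eq_one_iff.1 e)))
    rw [← e1, ← e2] at key
    exact ((MulAut.conj k).injective key).symm
  · rcases hy with rfl | rfl | rfl | rfl
    · exact hCM _ hcV hc1
    · exact hCM _ hp hp1
    · exact hCM _ hq hq1
    · exact hCM _ (mul_mem hp hq) fun e => hpq (by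
        have h := mul_eq_one_iff_eq_inv.1 e
        rw [h, Invol.invol_inv (hvo q hq hq1)])

end CfsgLib.SylHS
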