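import Cfsg.Agent.Lib.SylHS.Kernel
import Cfsg.Agent.Lib.SylHS.VClosed
import Cfsg.Agent.Lib.SylHS.ClosedP

/-!
The candidate of order 128 moves, so the group induced on the vectors is symmetric of degree five.
-/

set_option autoImplicit false
set_option maxRecDepth 100000
set_option linter.style.haveILetI false
set_option linter.unusedSectionVars false

namespace CfsgLib.SylHS

open Subgroup CfsgLib.Fusion CfsgLib.SylAltEight

universe u

variable {G : Type u} [Group G] [Finite G] [IsSimpleGroup G] (S : Sylow 2 G)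
  (F : Frame (S : Subgroup G)) (hA : AllFacts.{u}) (hS : SpFacts F)
include hA hS

/-- The candidate of order 128 moves. -/
theorem moves_P : Moves S F.subP := by
  haveI : Fact (Nat.Prime 2) := ⟨Nat.prime_two⟩
  have hT := hA _ _ F
  have hcand := hcand_of hA S F
  by_contra hno
  set V := F.subV
  have hVS : V ≤ (S : Subgroup G) := F.sub_le _
  have hVR : V ≤ F.subR := hT.V_le_R
  have hi : ∀ i, Moves S (F.cands i) → V ≤ F.cands i ∧
      ∀ α ∈ (fus S).autGroup (F.cands i), Odd (orderOf α) → Pres α V := by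
    intro i hmv
    fin_cases i
    · exact absurd hmv hno
    · exact ⟨hVR.trans hT.R_le_Q, fun α _ _ => hT.autQ_V α⟩
    · exact ⟨hT.V_le_A.trans hT.A_le_U, fun α _ _ => hT.autU_V α⟩
  have hclosed : ∀ g : G, ∀ v ∈ V, g * v * g⁻¹ ∈ (S : Subgroup G) → g * v * g⁻¹ ∈ V :=
    fun g v hv hgv => closed_of S F hT hcand hVS hT.conj_V hi hv hgv
  have hzfac : ∀ x ∈ centralizer ({F.z} : Set G),
      ∃ o ∈ Cfsg.centralizerPPrimeCore 2 F.z, ∃ n ∈ normalizer (V : Set G), x = o * n := by
    intro x hx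
    obtain ⟨o, ho, n, hn, e⟩ := exists_core_mul_R S F hA hS hx
    refine ⟨o, ho, n, Invol.mem_normalizer_iff_of_finite fun v hv => hclosed n v hv ?_, e⟩
    exact F.sub_le _ ((mem_normalizer_iff.1 hn v).1 (hVR hv))
  refine false_of_closed S hVS (fun h => ?_) hT.V_comm hT.V_sq hT.card_V.ge (fun n hn => ?_) hclosed
    (fun v hv hv1 x hx => ?_) hT.transvection (fun u hu huo c hc huc g hgu hgc => ?_) hT.outer_V
  · have := hT.card_V
    rw [show F.subV = ⊤ from h, card_top] at this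
    have h512 := Subgroup.card_subgroup_dvd_card (S : Subgroup G)
    rw [this, F.card_T] at h512
    exact absurd (Nat.le_of_dvd (by norm_num) h512) (by norm_num)
  · exact Invol.mem_normalizer_iff_of_finite fun v hv =>
      hclosed n v hv ((mem_normalizer_iff.1 hn v).1 (hVS hv))
  · obtain ⟨m, hm, rfl⟩ := (normalizer_V S F hT hcand).2 v hv hv1
    have hxm : m⁻¹ * x * m ∈ centralizer ({F.z} : Set G) := by
      rw [mem_centralizer_singleton_iff] at hx ⊢
      calc m⁻¹ * x * m * F.z = m⁻¹ * (x * (m * F.z * m⁻¹)) * m := by group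
        _ = m⁻¹ * (m * F.z * m⁻¹ * x) * m := by rw [hx]
        _ = F.z * (m⁻¹ * x * m) := by group
    obtain ⟨o, ho, n, hn, e⟩ := hzfac _ hxm
    refine ⟨m * o * m⁻¹, core_conj ho, m * n * m⁻¹, mul_mem (mul_mem hm hn) (inv_mem hm), ?_⟩
    calc x = m * (m⁻¹ * x * m) * m⁻¹ := by group
      _ = m * o * m⁻¹ * (m * n * m⁻¹) := by rw [e]; group
  · have hD : closure {u, c} ≤ (S : Subgroup G) := (closure_le _).2 (by
      rintro y (rfl | rfl)
      exacts [hu, hVS hc])
    obtain ⟨n, hn, h⟩ := exists_normalizing S F hT hcand hVS hT.conj_V hi hD (g := g) fun d hd => by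
      have hle : closure {u, c} ≤ (S : Subgroup G).comap (MulAut.conj g).toMonoidHom :=
        (closure_le _).2 (by
          rintro y (rfl | rfl)
          exacts [hgu, hgc])
      exact hle hd
    exact ⟨n, hn, h u (subset_closure (by simp)), h c (subset_closure (by simp))⟩

theorem cd_act_P {n : normalizer (F.subR : Set G)} (hn : (n : G) ∈ F.subP) :
    SpFour.cd (F.act (hA _ _ F) hS n) = SpFour.idc ∨
      SpFour.cd (F.act (hA _ _ F) hS n) = SpFour.tau := by
  obtain ⟨d, hd, hm, e⟩ : (n : G) ∈ F.set p8Mask := by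
    rw [← F.coe_sub Frame.closed_p]; exact hn
  rw [show n = ⟨F.p d, e ▸ n.2⟩ from Subtype.ext e.symm, F.cd_act _ _ hd]
  exact hS.act_P d (mem_elems.2 ⟨hd, hm⟩)

/-- An element of the normalizer of the central product acting with order three outside the subgroup
of order 24. -/
theorem exists_a : ∃ a : normalizer (F.subR : Set G),
    SpFour.cd (F.act (hA _ _ F) hS a) ∉ SpFour.h4 := by
  haveI : Fact (Nat.Prime 2) := ⟨Nat.prime_two⟩
  have hT := hA _ _ F
  have hcand := hcand_of hA S F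
  obtain ⟨α, hα1, hαo, a, haN, hax⟩ :=
    exists_odd_aut S F hT hcand (P := F.subP) (F.sub_le _) (moves_P S F hA hS)
  obtain ⟨e, o, ho, he⟩ := Nat.exists_eq_two_pow_mul_odd (orderOf_pos a).ne'
  have key : ∀ (k : ℕ) (x : F.subP), (((α ^ k) x : F.subP) : G) = a ^ k * x * (a ^ k)⁻¹ := by
    intro k
    induction k with
    | zero => intro x; simp
    | succ k ih => intro x; rw [pow_succ', MulAut.mul_apply]; exact ((hax _).trans (by rw [ih]; group))
  obtain ⟨b, hb⟩ : ∃ b, b = a ^ 2 ^ e := ⟨_, rfl⟩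
  have hbo : Odd (orderOf b) := by
    rw [hb, orderOf_pow_of_dvd (pow_ne_zero _ two_ne_zero) (he ▸ dvd_mul_right _ _), he,
      Nat.mul_div_cancel_left _ (pow_pos two_pos e)]
    exact ho
  have hbP : b ∈ normalizer (F.subP : Set G) := hb ▸ pow_mem haN _
  have hb1 : α ^ 2 ^ e ≠ 1 := fun h => hα1 (orderOf_eq_one_iff.1 (Nat.eq_one_of_dvd_coprimes
    (Nat.Coprime.pow_right e (Nat.coprime_two_right.2 hαo)) dvd_rfl (orderOf_dvd_of_pow_eq_one h)))
  have hbo' : Odd (orderOf (α ^ 2 ^ e)) := hαo.of_dvd_nat (orderOf_pow_dvd _)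
  have hRP : F.subR ≤ F.subP := hT.P_inf_Q ▸ inf_le_left
  have hbR : b ∈ normalizer (F.subR : Set G) :=
    mem_normalizer_of_pres S F hT hRP (fun x => hb ▸ key (2 ^ e) x) (hT.autP_R _)
  set x := F.act hT hS ⟨b, hbR⟩ with hx
  have hne : x ≠ 1 := by
    intro h
    have hfix := F.commute_R_of_odd hT hS hbo h
    refine hb1 (eq_one_of_fixed (two_elt S.2 (F.sub_le _)) hbo'
      (fun p => hT.conj_R p (F.sub_le _ p.2)) hRP (fun x hx => Subtype.ext ?_) fun d hd =>
        Subtype.ext ?_)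
    · refine (key _ x).trans ?_
      rw [← hb, hfix x hx, mul_inv_cancel_right]
    · refine (key _ d).trans ?_
      rw [← hb, hfix d (hT.C_le_R (hT.cent_R d (F.sub_le _ d.2) hd)), mul_inv_cancel_right]
  obtain ⟨s, hs, hst⟩ := hS.act_P_onto
  obtain ⟨hs1, hs2⟩ := mem_elems.1 hs
  let q : normalizer (F.subR : Set G) := ⟨F.p s, F.T_le_normalizer_R hT (F.p_mem s hs1)⟩
  have hq : SpFour.cd (F.act hT hS q) = SpFour.tau := by rw [F.cd_act hT hS hs1, hst]
  have hxt : ∀ t, SpFour.cd t = SpFour.tau → x * t = t * x := by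
    intro t ht
    rw [SpFour.cd_inj (ht.trans hq.symm)]
    rcases cd_act_P S F hA hS (n := ⟨b, hbR⟩ * q * ⟨b, hbR⟩⁻¹)
      ((mem_normalizer_iff.1 hbP _).1 ((F.mem_sub Frame.closed_p hs1).2 hs2)) with h | h
    · exfalso
      replace h := SpFour.cd_inj (h.trans SpFour.cd_one.symm)
      rw [map_mul, map_mul, map_inv, conj_eq_one_iff] at h
      rw [h, SpFour.cd_one] at hq
      exact absurd hq (by decide +kernel)
    · have h' := SpFour.cd_inj (h.trans hq.symm)
      rw [map_mul, map_mul, map_inv] at h'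
      exact mul_inv_eq_iff_eq_mul.1 h'
  have h3 := SpFour.pow_three_of_odd (F.isSp hT hS ⟨b, hbR⟩)
    (hbo.of_dvd_nat (orderOf_dvd_of_pow_eq_one (by
      rw [← map_pow, show (⟨b, hbR⟩ : normalizer (F.subR : Set G)) ^ orderOf b = 1 from
        Subtype.ext (pow_orderOf_eq_one b), map_one])))
    (Or.inl ⟨hxt, _, hq⟩)
  exact ⟨⟨b, hbR⟩, SpFour.not_h4_of_centralizer (F.isSp hT hS _) hne h3 hxt hq⟩

/-- The induced group is symmetric of degree five. -/
theorem spGrp_equiv : Nonempty (spGrp S F hA hS ≃* Equiv.Perm (Fin 5)) := by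
  obtain ⟨a, ha⟩ := exists_a S F hA hS
  obtain ⟨b, -, -, hb⟩ := exists_b S F hA hS
  exact SpFour.nonempty_iso (isSp_spGrp S F hA hS) (t8_spGrp S F hA hS) (not_dvd_spGrp S F hA hS)
    (h4_spGrp S F hA hS) (a := F.act (hA _ _ F) hS a) ⟨a, rfl⟩ ha
    (b := F.act (hA _ _ F) hS b) ⟨b, rfl⟩ hb

end CfsgLib.SylHS
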