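import Cfsg.Agent.Lib.SylHS.Programs
import Cfsg.Agent.Lib.SylHS.Checks
import Cfsg.Agent.Lib.Fusion.NormalCriteria
import Cfsg.Agent.Lib.Fusion.CandidateEngine

/-!
The subgroups through the central involution up to conjugation, and programs computing invariant
subsets.
-/

set_option autoImplicit false
set_option maxRecDepth 100000
set_option linter.style.haveILetI false

namespace CfsgLib.SylHS

open Subgroup

universe u

variable {G : Type u} [Group G] {T : Subgroup G} (F : Frame T)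

namespace Frame

theorem conj_conj_set (s t u : G) (hs : s ∈ T) (ht : t ∈ T) (hu : u ∈ T) (e : u = t * s) (m : ℕ) :
    ((F.conj s hs).conj t ht).set m = (F.conj u hu).set m := by
  subst e
  have h : ∀ d, ((F.conj s hs).conj t ht).p d = (F.conj (t * s) hu).p d := fun d => by
    simp only [conj_p]; group
  simp only [set, h]

theorem conj_one_set (h : (1 : G) ∈ T) (m : ℕ) : (F.conj 1 h).set m = F.set m := by
  simp [set, conj_p]

theorem conj_sub (s : G) (hs : s ∈ T) (m : ℕ) :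
    (F.conj s hs).sub m = (F.sub m).map (MulAut.conj s).toMonoidHom := by
  rw [sub, sub, MonoidHom.map_closure]
  congr 1
  ext x
  simp only [set, Set.mem_image, Set.mem_ofPred_eq, conj_p]
  constructor
  · rintro ⟨d, hd, hm, e⟩; exact ⟨F.p d, ⟨d, hd, hm, rfl⟩, e⟩
  · rintro ⟨_, ⟨d, hd, hm, rfl⟩, e⟩; exact ⟨d, hd, hm, e⟩

theorem prods_mem {K : Subgroup G} : ∀ (gs acc : List ℕ), (∀ g ∈ gs, g < 512 ∧ F.p g ∈ K) →
    (∀ d ∈ acc, d < 512 ∧ F.p d ∈ K) → ∀ d ∈ prods acc gs, d < 512 ∧ F.p d ∈ K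
  | [], _, _, ha, d, hd => ha d hd
  | g :: gs, acc, hg, ha, d, hd => by
    refine prods_mem gs _ (fun e he => hg e (List.mem_cons_of_mem _ he)) (fun e he => ?_) d hd
    rcases List.mem_append.1 he with he | he
    · exact ha e he
    · obtain ⟨h, hh, rfl⟩ := List.mem_map.1 he
      refine ⟨mt_lt g h, ?_⟩
      rw [← F.mul g (hg g List.mem_cons_self).1 h (ha h hh).1]
      exact K.mul_mem (hg g List.mem_cons_self).2 (ha h hh).2

theorem prods_lt {gs : List ℕ} (hg : ∀ g ∈ gs, g < 512) : ∀ d ∈ prods [0] gs, d < 512 ∧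
    F.p d ∈ closure (F.p '' {g | g ∈ gs}) :=
  F.prods_mem gs [0] (fun g hg' => ⟨hg g hg', subset_closure (Set.mem_image_of_mem F.p hg')⟩)
    fun d hd => by rw [List.mem_singleton.1 hd]; exact ⟨by norm_num, F.p_zero ▸ one_mem _⟩

theorem gens_lt {m : ℕ} {gs : List ℕ} (h : genOK m gs = true) : ∀ g ∈ gs, g < 512 := by
  simp only [genOK, Bool.and_eq_true, List.all_eq_true, Nat.blt_eq] at h
  exact h.1.1

theorem set_eq_closure {m : ℕ} {gs : List ℕ} (h : genOK m gs = true) :
    F.set m = (closure (F.p '' {g | g ∈ gs}) : Set G) := by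
  simp only [genOK, Bool.and_eq_true, List.all_eq_true, beq_true, Nat.blt_eq] at h
  obtain ⟨⟨hg, h0⟩, hm, hcl⟩ := h
  refine Set.Subset.antisymm ?_ (closure_subset h0 hg fun g hg' e he =>
    hcl g hg' e (by have he' := (mem_elems.1 he).2; rw [← hm, mem_maskOf] at he'; exact he'))
  rintro _ ⟨d, -, hd', rfl⟩
  rw [← hm, mem_maskOf] at hd'
  exact (F.prods_lt hg d hd').2

theorem coe_sub_gen {m : ℕ} {gs : List ℕ} (h : genOK m gs = true) :
    (F.sub m : Set G) = F.set m := by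
  rw [sub, F.set_eq_closure h, closure_eq]

theorem sub_eq_closure {m : ℕ} {gs : List ℕ} (h : genOK m gs = true) :
    F.sub m = closure (F.p '' {g | g ∈ gs}) := by
  rw [sub, F.set_eq_closure h, closure_eq]

theorem coe_sub_get {i : ℕ} (hi : i < 542) :
    (F.sub (repAt i).mask : Set G) = F.set (repAt i).mask := F.coe_sub_gen (gen_ok hi)

theorem mem_sub_get {i d : ℕ} (hi : i < 542) (hd : d < 512) :
    F.p d ∈ F.sub (repAt i).mask ↔ mem (repAt i).mask d = true := by
  rw [← F.mem_set_p hd (m := (repAt i).mask), ← F.coe_sub_get hi]; rfl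

/-- Every subgroup through the central involution is conjugate to one on the list. -/
theorem exists_index {P : Subgroup G} (hPT : P ≤ T) (hz : F.z ∈ P) :
    ∃ i < 542, ∃ (s : G) (hs : s ∈ T), (F.conj s hs).sub (repAt i).mask = P := by
  classical
  haveI := F.finite
  haveI : Finite ↥P := Finite.of_injective _ (inclusion_injective hPT)
  haveI : Fact (Nat.Prime 2) := ⟨Nat.prime_two⟩
  have hmod : ∀ a, a % 512 < 512 := fun a => Nat.mod_lt _ (by norm_num)
  let sub' : ℕ × ℕ → Subgroup G := fun v =>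
    (F.conj (F.p (v.2 % 512)) (F.p_mem _ (hmod _))).sub (repAt v.1).mask
  let good := ((Finset.range 542) ×ˢ (Finset.range 512)).filter fun v => sub' v ≤ P
  have hne : good.Nonempty := by
    refine ⟨(0, 0), Finset.mem_filter.2 ⟨by simp, ?_⟩⟩
    show (F.conj _ _).sub _ ≤ P
    rw [Frame.sub_eq_closure _ (gen_ok (i := 0) (by norm_num))]
    refine (closure_le _).2 ?_
    rintro _ ⟨g, hg, rfl⟩
    have hgs : (repAt 0).gens = [zIdx] := by decide +kernel
    rw [Set.mem_ofPred_eq, hgs, List.mem_singleton] at hg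
    subst hg
    simpa [conj_p, F.p_zero, Frame.z] using hz
  obtain ⟨v, hv, hmax⟩ := good.exists_max_image (fun v => Nat.card ↥(sub' v)) hne
  obtain ⟨hv', hle⟩ := Finset.mem_filter.1 hv
  obtain ⟨i, a⟩ := v
  simp only [Finset.mem_product, Finset.mem_range] at hv'
  obtain ⟨hi, ha⟩ := hv'
  refine ⟨i, hi, _, F.p_mem _ (hmod a), ?_⟩
  by_contra hPH
  set s := F.p (a % 512) with hs_def
  set F' := F.conj s (F.p_mem _ (hmod a)) with hF'
  set H := F'.sub (repAt i).mask with hH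
  have hlt : H < P := lt_of_le_of_ne hle hPH
  obtain ⟨g₀, hg₀, hg₀H⟩ :=
    SetLike.exists_of_lt (Fusion.lt_normalizerIn (F.isPGroup.to_le hPT) hlt)
  -- the last power outside `H`
  obtain ⟨g, hgP, hgN, hgH, hg2⟩ : ∃ g, g ∈ P ∧ g ∈ normalizer (H : Set G) ∧ g ∉ H ∧ g * g ∈ H := by
    obtain ⟨k, hk⟩ := F.isPGroup.to_le hPT ⟨g₀, hg₀.1⟩
    have hex : ∃ j, g₀ ^ 2 ^ j ∈ H :=
      ⟨k, by rw [show g₀ ^ 2 ^ k = 1 from congrArg Subtype.val hk]; exact H.one_mem⟩
    obtain ⟨j, hj⟩ : ∃ j, Nat.find hex = j + 1 := by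
      refine ⟨Nat.find hex - 1, ?_⟩
      have : Nat.find hex ≠ 0 := fun e => hg₀H (by simpa [e] using Nat.find_spec hex)
      omega
    refine ⟨g₀ ^ 2 ^ j, pow_mem hg₀.1 _, pow_mem hg₀.2 _,
      Nat.find_min hex (by omega), ?_⟩
    rw [← pow_two, ← pow_mul, ← pow_succ, ← hj]
    exact Nat.find_spec hex
  obtain ⟨d, hd, rfl⟩ := F'.surj g (hPT hgP)
  have hsup := sup_ok hi
  simp only [supsOK, Bool.and_eq_true, List.all_eq_true, List.mem_range, Bool.or_eq_true,
    Bool.not_eq_true', beq_true, Nat.blt_eq, List.any_eq_true] at hsup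
  obtain ⟨⟨hcov, hu⟩, hqual⟩ := hsup
  have hgl := gens_lt (gen_ok hi)
  have hdcov : mem (repAt i).cov d = true := by
    rcases hqual d hd with ((h1 | h1) | h1) | h1
    · exact absurd ((F'.mem_sub_get hi hd).2 h1) hgH
    · exact h1
    · refine absurd ?_ (Bool.eq_false_iff.1 h1)
      rw [← F'.mem_sub_get hi (mt_lt d d), ← F'.mul d hd d hd]
      exact hg2
    · refine absurd ?_ (Bool.eq_false_iff.1 h1)
      rw [List.all_eq_true]
      intro e he
      rw [← F'.mem_sub_get hi (cj_lt _ _), ← F'.p_conj hd (hgl e he)]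
      refine (mem_normalizer_iff.1 hgN _).1 ?_
      show F'.p e ∈ F'.sub _
      rw [F'.sub_eq_closure (gen_ok hi)]
      exact subset_closure (Set.mem_image_of_mem _ he)
  rw [← hcov, mem_maskOf, List.mem_flatMap] at hdcov
  obtain ⟨u, hu', hdu⟩ := hdcov
  obtain ⟨h, hh, rfl⟩ := List.mem_map.1 hdu
  obtain ⟨⟨⟨⟨⟨hk, hs'⟩, hr⟩, hrm⟩, hkg⟩, hrH⟩ := hu u hu'
  obtain ⟨hhlt, hhH⟩ := F'.prods_lt hgl h hh
  rw [← F'.sub_eq_closure (gen_ok hi)] at hhH
  have hrP : F'.p u.r ∈ P := by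
    have := P.mul_mem hgP (P.inv_mem (hle hhH))
    rwa [← F'.mul u.r hr h hhlt, mul_assoc, mul_inv_cancel, mul_one] at this
  have hgk := gens_lt (gen_ok hk)
  -- the larger conjugate
  set t := F'.p u.s with ht
  have hts : t * s ∈ T := T.mul_mem (F'.p_mem _ hs') (F.p_mem _ (hmod a))
  set F'' := F'.conj t (F'.p_mem _ hs') with hF''
  have hle'' : F''.sub (repAt u.k).mask ≤ P := by
    rw [F''.sub_eq_closure (gen_ok hk)]
    refine (closure_le _).2 ?_
    rintro _ ⟨g, hg, rfl⟩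
    show t * F'.p g * t⁻¹ ∈ P
    rw [ht, F'.p_conj hs' (hgk g hg)]
    rcases hkg g hg with h' | ⟨e, he, h'⟩
    · exact hle ((F'.mem_sub_get hi (cj_lt _ _)).2 h')
    · obtain ⟨helt, heH⟩ := F'.prods_lt hgl e he
      rw [← F'.sub_eq_closure (gen_ok hi)] at heH
      rw [← h', ← F'.mul u.r hr e helt]
      exact P.mul_mem hrP (hle heH)
  have hmem'' : ∀ g ∈ u.r :: (repAt i).gens, F'.p g ∈ F''.sub (repAt u.k).mask := by
    intro g hg
    have hg' : g < 512 := by
      rcases List.mem_cons.1 hg with rfl | hg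
      · exact hr
      · exact hgl g hg
    have := (F''.mem_sub_get hk (cj_lt _ _)).2 (hrH g hg)
    rwa [hF'', conj_p, ← F'.p_conj (iv_lt _) hg', ← F'.p_inv hs', ← ht,
      show t * (t⁻¹ * F'.p g * t⁻¹⁻¹) * t⁻¹ = F'.p g by group] at this
  have hHk : H < F''.sub (repAt u.k).mask := by
    refine lt_of_le_of_ne ?_ fun e => ?_
    · rw [hH, F'.sub_eq_closure (gen_ok hi)]
      refine (closure_le _).2 ?_
      rintro _ ⟨g, hg, rfl⟩
      exact hmem'' g (List.mem_cons_of_mem _ hg)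
    · have := hmem'' u.r List.mem_cons_self
      rw [← e, F'.mem_sub_get hi hr, hrm] at this
      exact Bool.false_ne_true this
  obtain ⟨b, hb, hbe⟩ := F.surj _ hts
  have hgood : sub' (u.k, b) = F''.sub (repAt u.k).mask := by
    show Subgroup.closure _ = Subgroup.closure _
    exact congrArg Subgroup.closure (F.conj_conj_set s t (F.p (b % 512)) (F.p_mem _ (hmod a))
      (F'.p_mem _ hs') (F.p_mem _ (hmod b)) (by rw [Nat.mod_eq_of_lt hb, hbe]) _).symm
  have hmax' : Nat.card ↥(sub' (u.k, b)) ≤ Nat.card ↥(sub' (i, a)) :=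
    hmax _ (Finset.mem_filter.2 ⟨by simp [hk, hb], hgood ▸ hle''⟩)
  rw [hgood] at hmax'
  haveI : Finite ↥(F''.sub (repAt u.k).mask) :=
    Finite.of_injective _ (inclusion_injective (hle''.trans hPT))
  exact absurd (Subgroup.eq_of_le_of_card_ge hHk.le hmax') hHk.ne

end Frame

end CfsgLib.SylHS
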